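import Cfsg.Agent.H886.Inv.LU_m3
import Cfsg.Agent.H68.CoInst_m3
import Cfsg.Agent.H123.Cls.LCov
import Cfsg.Agent.H950.TC.Psu_mg_m3
import Cfsg.Agent.H728.Four.HNTwentyOne
import Cfsg.Agent.H175.Ore.HNDeg_m3
import Cfsg.Agent.H175.Ore.HNFus
import Cfsg.Agent.H970.CycOne
import Cfsg.Agent.H789.Ore.HNComp_m3
import Cfsg.Agent.H547.SelfCent.Base
import Cfsg.Agent.H295.War.Mul_m3
import Cfsg.Agent.H570.Ore.Blk_m3
import Mathlib
import Cfsg.Agent.H570.TC.Eleven_m3
import Cfsg.Agent.H570.Ore.RowB_m3
import Cfsg.Agent.H65.Ore.Split_m3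
import Cfsg.Agent.H149.Sp.Quot
import Cfsg.Agent.H58.Mon.Fin
import Cfsg.Agent.H922.Ore.HSFinal_m3
import Cfsg.Agent.H140.TC.Fam_m3
import Cfsg.Agent.H494.TC.Base
import Cfsg.Agent.H588.SN.FiFix_m3
import Cfsg.Agent.H535.Ore.ON
import Cfsg.Agent.H48.OreFi.WOne_mg_m3
import Cfsg.Agent.H48.OreFi.WFour
import Cfsg.Agent.H713.TC.FiCl
import Cfsg.Agent.H981.TC.HNRow_m3
import Cfsg.Agent.H980.Ore.PwTh_m3
import Cfsg.Agent.H980.Ore.ThLoc_m3
import Cfsg.Agent.H444.ThLoc
import Cfsg.Agent.H174.Ore.DegTh
import Cfsg.Agent.Th.Bit3W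
import Cfsg.Agent.H511.Ore.WRow_m3
import Cfsg.Agent.H58.Cop.MSc_m3
import Cfsg.Agent.H979.OreM.Loc41
import Cfsg.Agent.H715.Mon.Norm_m3
import Cfsg.Agent.H241.NHThree
import Cfsg.Agent.H626.LD.TwentyNine
import Cfsg.Agent.H740.OreM.ThreeBd
import Cfsg.Agent.H562.OreM.ThreeOdd
import Cfsg.Agent.H58.Mon.FiveB_m3
import Cfsg.Agent.H455.OreM.Loc
import Cfsg.Agent.FastGrp
import Cfsg.Agent.Prune
set_option linter.all false

section
prune_inst 0x7fbceefaeba8a9dfffff7e3ffed9dff831c4cfffe6dff943ffe0e9bfaf9f232329856b858de058fe8e56e23410b87803fb7eeeffe06fdc7ffffdf7b41ffb6e0fa5e7350851d4883406280ffe83f0670e6a3ffd7e7ffffffffffffffffffffffffffdebfeffff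

-- part: H455/TC/J1_mg
section
set_option linter.all false
open scoped Cfsg.Agent.FastGrp

-- part: H455/TC/W
section
/-!
# The product of a class of prime order with itself: a weighted counting lemma (helper455, for S4173, S2464, S2452)

* `exists_mul_xy` : `g = x^a y^b` if `|C(g)| ∑_{χ ≠ 1} (|χ(x)| |χ(y)| / χ(1))² < 1`;
* `exists_sq` : `g = x^a x^b` with Brauer's data of a self-centralizing Sylow subgroup of order `p`, two bounds for the
  degrees; `row3_of_sc` : the row.
-/

set_option autoImplicit false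
set_option linter.unusedSectionVars false

namespace Cfsg.Agent.H455.TC

open Cfsg Subgroup
open Cfsg.Agent.Characters.Core
open Cfsg.Agent.M23Order.Base
open Cfsg.Agent.H455.Ore
open scoped ComplexConjugate

universe u

variable {G : Type u} [Group G]

/-- if `g` is no product of a conjugate of `x` and a conjugate of `y`, a character sum vanishes -/
theorem sum_eq_zero [Finite G] [Fintype (IrrCharacter G)] {x y g : G}
    (hg : ¬ ∃ a b : G, g = (a * x * a⁻¹) * (b * y * b⁻¹)) :
    ∑ χ : IrrCharacter G, (χ : G → ℂ) x * (χ : G → ℂ) y * conj ((χ : G → ℂ) g) / (χ : G → ℂ) 1 = 0 := by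
  have h := Characters.ClassMul.card_class_mul x y g
  have hemp : IsEmpty {p : G × G // IsConj x p.1 ∧ IsConj y p.2 ∧ p.1 * p.2 = g} := by
    constructor
    rintro ⟨⟨u, v⟩, hu, hv, huv⟩
    obtain ⟨c, rfl⟩ := isConj_iff.1 hu
    obtain ⟨d, rfl⟩ := isConj_iff.1 hv
    exact hg ⟨c, d, huv.symm⟩
  rw [Nat.card_of_isEmpty, Nat.cast_zero] at h
  have h1 : ((centralizer ({x} : Set G)).index : ℂ) ≠ 0 := by exact_mod_cast Subgroup.index_ne_zero_of_finite
  have h2 : ((centralizer ({y} : Set G)).index : ℂ) ≠ 0 := by exact_mod_cast Subgroup.index_ne_zero_of_finite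
  have h3 : (Nat.card G : ℂ) ≠ 0 := by exact_mod_cast Nat.card_pos.ne'
  exact (mul_eq_zero.1 h.symm).resolve_left (div_ne_zero (mul_ne_zero h1 h2) h3)

/-- **The counting lemma.** -/
theorem exists_mul_xy [Finite G] [Fintype (IrrCharacter G)] {x y g : G} {S : ℝ}
    (hS : ∀ A : Finset (IrrCharacter G), (∀ χ ∈ A, (χ : G → ℂ) ≠ 1) →
      ∑ χ ∈ A, (‖(χ : G → ℂ) x‖ * ‖(χ : G → ℂ) y‖ / dg χ) ^ 2 ≤ S)
    (hlt : (Nat.card (centralizer ({g} : Set G)) : ℝ) * S < 1) :
    ∃ a b : G, g = (a * x * a⁻¹) * (b * y * b⁻¹) := by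
  classical
  by_contra hg
  have h1 := sum_eq_zero (x := x) (y := y) hg
  set e : IrrCharacter G := ⟨1, isIrr_one⟩ with he
  have hev : ∀ y : G, (e : G → ℂ) y = 1 := fun y => rfl
  rw [← Finset.add_sum_erase _ _ (Finset.mem_univ e), hev, hev, hev, hev] at h1
  simp only [map_one, mul_one, div_one] at h1
  -- the norm of the rest
  have h2 : (1 : ℝ) ≤ ∑ χ ∈ Finset.univ.erase e, ‖(χ : G → ℂ) x‖ * ‖(χ : G → ℂ) y‖ / dg χ * ‖(χ : G → ℂ) g‖ := by
    have h3 : (1 : ℂ) = -∑ χ ∈ Finset.univ.erase e,
        (χ : G → ℂ) x * (χ : G → ℂ) y * conj ((χ : G → ℂ) g) / (χ : G → ℂ) 1 := eq_neg_of_add_eq_zero_left h1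
    calc (1 : ℝ) = ‖(1 : ℂ)‖ := by simp
      _ = ‖∑ χ ∈ Finset.univ.erase e,
        (χ : G → ℂ) x * (χ : G → ℂ) y * conj ((χ : G → ℂ) g) / (χ : G → ℂ) 1‖ := by rw [h3, norm_neg]
      _ ≤ ∑ χ ∈ Finset.univ.erase e,
        ‖(χ : G → ℂ) x * (χ : G → ℂ) y * conj ((χ : G → ℂ) g) / (χ : G → ℂ) 1‖ := norm_sum_le _ _
      _ = _ := by
        refine Finset.sum_congr rfl fun χ _ => ?_
        rw [dg_eq, norm_div, norm_mul, norm_mul, RCLike.norm_conj, Complex.norm_natCast]
        ring
  have hne : ∀ χ ∈ Finset.univ.erase e, (χ : G → ℂ) ≠ 1 := by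
    intro χ hχ h
    exact (Finset.mem_erase.1 hχ).1 (Subtype.ext h)
  have h4 := Finset.sum_mul_sq_le_sq_mul_sq (Finset.univ.erase e)
    (fun χ : IrrCharacter G => ‖(χ : G → ℂ) x‖ * ‖(χ : G → ℂ) y‖ / dg χ) (fun χ => ‖(χ : G → ℂ) g‖)
  have h5 : ∑ χ ∈ Finset.univ.erase e, ‖(χ : G → ℂ) g‖ ^ 2 ≤ (Nat.card (centralizer ({g} : Set G)) : ℝ) := by
    rw [← sum_normSq g]
    exact Finset.sum_le_sum_of_subset_of_nonneg (Finset.erase_subset _ _) fun _ _ _ => by positivity
  have h6 := hS (Finset.univ.erase e) hne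
  have h7 : (1 : ℝ) ≤ S * (Nat.card (centralizer ({g} : Set G)) : ℝ) := by
    calc (1 : ℝ) = 1 ^ 2 := (one_pow 2).symm
      _ ≤ (∑ χ ∈ Finset.univ.erase e, ‖(χ : G → ℂ) x‖ * ‖(χ : G → ℂ) y‖ / dg χ * ‖(χ : G → ℂ) g‖) ^ 2 :=
        pow_le_pow_left₀ zero_le_one h2 2
      _ ≤ _ := h4
      _ ≤ S * (Nat.card (centralizer ({g} : Set G)) : ℝ) := by
        refine mul_le_mul h6 h5 (Finset.sum_nonneg fun _ _ => by positivity) ?_
        exact le_trans (Finset.sum_nonneg fun _ _ => by positivity) h6
  linarith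

/-- **The square of a class of a self-centralizing Sylow subgroup of order `p`.** -/
theorem exists_sq [Finite G] {p e t : ℕ} {P : Sylow p G} (D : SC p e t P) (he : 0 < e) (hep : e < p)
    {x : G} (hx : x ∈ P) (hx1 : x ≠ 1) (hC : Nat.card (centralizer ({x} : Set G)) = p) {g : G} {d1 d2 : ℕ}
    (h1 : ∀ χ ∈ D.NE, (χ : G → ℂ) ≠ 1 → d1 ≤ dg χ) (h2 : ∀ χ ∈ D.X, d2 ≤ dg χ) (hd1 : 0 < d1) (hd2 : 0 < d2)
    (hlt : Nat.card (centralizer ({g} : Set G)) * ((e - 1) * d2 ^ 2 + (p - e) ^ 2 * d1 ^ 2) < d1 ^ 2 * d2 ^ 2) :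
    ∃ a b : G, g = (a * x * a⁻¹) * (b * x * b⁻¹) := by
  classical
  have := finite_irr (G := G)
  let _ := Fintype.ofFinite (IrrCharacter G)
  have r1 : (0 : ℝ) < (d1 : ℝ) ^ 2 := by positivity
  have r2 : (0 : ℝ) < (d2 : ℝ) ^ 2 := by positivity
  refine exists_mul_xy (x := x) (y := x)
    (S := ((e - 1 : ℕ) : ℝ) / (d1 : ℝ) ^ 2 + (((p - e) ^ 2 : ℕ) : ℝ) / (d2 : ℝ) ^ 2) ?_ ?_
  · intro A hA
    have hNE : ∀ χ ∈ D.NE, ‖(χ : G → ℂ) x‖ ^ 2 = 1 := by
      intro χ hχ
      rw [D.val χ hχ x hx hx1]
      rcases D.ε_mem χ hχ with h | h <;> rw [h] <;> simp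
    have hall := sum_normSq x
    rw [hC] at hall
    have hsub : ∑ χ ∈ D.NE ∪ D.X, ‖(χ : G → ℂ) x‖ ^ 2 ≤ (p : ℝ) := by
      rw [← hall]
      exact Finset.sum_le_sum_of_subset_of_nonneg (Finset.subset_univ _) fun _ _ _ => by positivity
    rw [Finset.sum_union D.disj, Finset.sum_congr rfl hNE, Finset.sum_const, D.card_NE, nsmul_eq_mul, mul_one] at hsub
    have hX : ∑ χ ∈ D.X, ‖(χ : G → ℂ) x‖ ^ 2 ≤ (p : ℝ) - e := by linarith
    have hX1 : ∑ χ ∈ D.X, (‖(χ : G → ℂ) x‖ ^ 2) ^ 2 ≤ ((p : ℝ) - e) ^ 2 := by
      have h1 : ∀ χ ∈ D.X, ‖(χ : G → ℂ) x‖ ^ 2 ≤ (p : ℝ) - e := fun χ hχ =>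
        le_trans (Finset.single_le_sum (f := fun χ : IrrCharacter G => ‖(χ : G → ℂ) x‖ ^ 2)
          (fun _ _ => by positivity) hχ) hX
      calc ∑ χ ∈ D.X, (‖(χ : G → ℂ) x‖ ^ 2) ^ 2 ≤ ∑ χ ∈ D.X, ((p : ℝ) - e) * ‖(χ : G → ℂ) x‖ ^ 2 := by
            refine Finset.sum_le_sum fun χ hχ => ?_
            rw [sq (‖(χ : G → ℂ) x‖ ^ 2)]
            exact mul_le_mul_of_nonneg_right (h1 χ hχ) (by positivity)
        _ = ((p : ℝ) - e) * ∑ χ ∈ D.X, ‖(χ : G → ℂ) x‖ ^ 2 := (Finset.mul_sum _ _ _).symm
        _ ≤ ((p : ℝ) - e) * ((p : ℝ) - e) := mul_le_mul_of_nonneg_left hX (by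
            have : (e : ℝ) < p := by exact_mod_cast hep
            linarith)
        _ = _ := (sq _).symm
    -- the terms
    have hterm : ∀ (χ : IrrCharacter G) (d : ℕ), 0 < d → d ≤ dg χ →
        (‖(χ : G → ℂ) x‖ * ‖(χ : G → ℂ) x‖ / dg χ) ^ 2 ≤ (‖(χ : G → ℂ) x‖ ^ 2) ^ 2 / (d : ℝ) ^ 2 := by
      intro χ d hd hdχ
      have h3 : (0 : ℝ) < d := by exact_mod_cast hd
      have h4 : (d : ℝ) ≤ dg χ := by exact_mod_cast hdχ
      rw [div_pow, ← sq]
      exact div_le_div_of_nonneg_left (by positivity) (by positivity) (pow_le_pow_left₀ h3.le h4 2)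
    have hNEs : ∑ χ ∈ D.NE.erase D.one, (‖(χ : G → ℂ) x‖ * ‖(χ : G → ℂ) x‖ / dg χ) ^ 2 ≤
        ((e - 1 : ℕ) : ℝ) / (d1 : ℝ) ^ 2 := by
      calc ∑ χ ∈ D.NE.erase D.one, (‖(χ : G → ℂ) x‖ * ‖(χ : G → ℂ) x‖ / dg χ) ^ 2
          ≤ ∑ χ ∈ D.NE.erase D.one, 1 / (d1 : ℝ) ^ 2 := by
            refine Finset.sum_le_sum fun χ hχ => ?_
            obtain ⟨h3, h4⟩ := Finset.mem_erase.1 hχ
            have h5 : (χ : G → ℂ) ≠ 1 := fun h => h3 (Subtype.ext (by rw [h, D.coe_one]))
            have h6 := hterm χ d1 hd1 (h1 χ h4 h5)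
            rwa [hNE χ h4, one_pow] at h6
        _ = _ := by
            rw [Finset.sum_const, Finset.card_erase_of_mem D.one_mem, D.card_NE, nsmul_eq_mul]
            ring
    have hXs : ∑ χ ∈ D.X, (‖(χ : G → ℂ) x‖ * ‖(χ : G → ℂ) x‖ / dg χ) ^ 2 ≤ (((p - e) ^ 2 : ℕ) : ℝ) / (d2 : ℝ) ^ 2 := by
      calc ∑ χ ∈ D.X, (‖(χ : G → ℂ) x‖ * ‖(χ : G → ℂ) x‖ / dg χ) ^ 2
          ≤ ∑ χ ∈ D.X, (‖(χ : G → ℂ) x‖ ^ 2) ^ 2 / (d2 : ℝ) ^ 2 :=
            Finset.sum_le_sum fun χ hχ => hterm χ d2 hd2 (h2 χ hχ)
        _ = (∑ χ ∈ D.X, (‖(χ : G → ℂ) x‖ ^ 2) ^ 2) / (d2 : ℝ) ^ 2 := (Finset.sum_div _ _ _).symm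
        _ ≤ _ := by
            refine div_le_div_of_nonneg_right ?_ r2.le
            push_cast
            rw [Nat.cast_sub hep.le]
            exact hX1
    have hA' : ∑ χ ∈ A, (‖(χ : G → ℂ) x‖ * ‖(χ : G → ℂ) x‖ / dg χ) ^ 2 ≤
        ∑ χ ∈ (D.NE.erase D.one) ∪ D.X, (‖(χ : G → ℂ) x‖ * ‖(χ : G → ℂ) x‖ / dg χ) ^ 2 := by
      have h1 : ∑ χ ∈ A, (‖(χ : G → ℂ) x‖ * ‖(χ : G → ℂ) x‖ / dg χ) ^ 2 =
          ∑ χ ∈ A.filter (fun χ => χ ∈ D.NE ∪ D.X), (‖(χ : G → ℂ) x‖ * ‖(χ : G → ℂ) x‖ / dg χ) ^ 2 := by
        refine (Finset.sum_subset (Finset.filter_subset _ _) fun χ hχ h2 => ?_).symm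
        have h3 : χ ∉ D.NE ∪ D.X := fun h3 => h2 (Finset.mem_filter.2 ⟨hχ, h3⟩)
        rw [Finset.mem_union, not_or] at h3
        rw [D.out χ h3.1 h3.2 x hx hx1]
        simp
      rw [h1]
      refine Finset.sum_le_sum_of_subset_of_nonneg ?_ fun _ _ _ => by positivity
      intro χ hχ
      rw [Finset.mem_filter, Finset.mem_union] at hχ
      rw [Finset.mem_union, Finset.mem_erase]
      rcases hχ.2 with h | h
      · left
        refine ⟨?_, h⟩
        rintro rfl
        exact hA _ hχ.1 D.coe_one
      · exact Or.inr h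
    have hdis : Disjoint (D.NE.erase D.one) D.X := Finset.disjoint_of_subset_left (Finset.erase_subset _ _) D.disj
    rw [Finset.sum_union hdis] at hA'
    linarith
  · rw [div_add_div _ _ r1.ne' r2.ne', ← mul_div_assoc, div_lt_one (mul_pos r1 r2)]
    have h3 : ((Nat.card (centralizer ({g} : Set G)) * ((e - 1) * d2 ^ 2 + (p - e) ^ 2 * d1 ^ 2) : ℕ) : ℝ) <
        ((d1 ^ 2 * d2 ^ 2 : ℕ) : ℝ) := by exact_mod_cast hlt
    push_cast at h3 ⊢
    calc _ = (Nat.card (centralizer ({g} : Set G)) : ℝ) *
        (((e - 1 : ℕ) : ℝ) * (d2 : ℝ) ^ 2 + ((p - e : ℕ) : ℝ) ^ 2 * (d1 : ℝ) ^ 2) := by ring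
      _ < _ := h3

end Cfsg.Agent.H455.TC
end

-- part: H455/TC/J1
section
/-!
# Two classes for `J₁`: the class of the elements of order 11 (helper455; S4173, S2464, S2452)
-/

set_option autoImplicit false

namespace Cfsg.Agent.H455.TC

open Cfsg Subgroup
open Cfsg.Agent.Characters.Core
open Cfsg.Agent.M23Order.Base
open Cfsg.Agent.H413.JOneSpec
open Cfsg.Agent.SporRec.J1.Defs
open Cfsg.Agent.H210.TC

universe u

variable {K : Type u} [Group K]

theorem row3_j1_local [Finite K] [IsSimpleGroup K] (h : Local K) (hc : Nat.card K = 175560) : Row3 K := by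
  have f11 : Fact (Nat.Prime 11) := ⟨by norm_num⟩
  obtain ⟨P, hP, ⟨D⟩⟩ := H417.BlockCount.exists_SC (G := K) 11 (by norm_num) (by rw [hc]; norm_num)
    (by rw [hc]; norm_num) (fun y hy => by rw [H417.JOneDeg.card_cent h hc (by rw [hy]; unfold Big; tauto), hy])
    (e := 10) (t := 1) (by rw [hc]) (by norm_num)
  obtain ⟨x, hx⟩ := exists_prime_orderOf_dvd_card' (G := (P : Subgroup K)) 11 (by rw [hP])
  have hx' : orderOf (x : K) = 11 := by rw [Subgroup.orderOf_coe]; exact hx
  have hperf : commutator K = ⊤ := MTwelve.SmallDegree.commutator_eq_top_of_card (by rw [hc]; norm_num)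
  obtain ⟨h1, -⟩ := H175.Eight.key_j1 h hc
  have hdeg : ∀ χ : IrrCharacter K, (χ : K → ℂ) ≠ 1 → 56 ≤ dg χ := by
    intro χ hχ
    have h2 := h1 χ
    simp only [List.mem_cons, List.not_mem_nil, or_false] at h2
    have h3 : dg χ ≠ 1 := fun h3 => hχ (coe_eq_one_of_dg hperf h3)
    omega
  refine Row3.of_sq (x := (x : K)) (by rw [hx']; norm_num) (by rw [hx']; norm_num) fun g hg => ?_
  refine exists_sq D (by norm_num) (by norm_num) x.2
    (fun h1 => by rw [h1, orderOf_one] at hx'; norm_num at hx')
    (by rw [H417.JOneDeg.card_cent h hc (by rw [hx']; unfold Big; tauto), hx']) (d1 := 56) (d2 := 56)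
    (fun χ _ hχ => hdeg χ hχ) (fun χ hX => hdeg χ fun h2 => ?_) (by norm_num) (by norm_num) ?_
  · have h3 : χ = D.one := Subtype.ext (by rw [h2, D.coe_one])
    exact Finset.disjoint_left.1 D.disj (h3 ▸ D.one_mem) hX
  · have h2 := Cfsg.Agent.H455.Ore.j1_cent h hc hg
    calc Nat.card (centralizer ({g} : Set K)) * ((10 - 1) * 56 ^ 2 + (11 - 10) ^ 2 * 56 ^ 2) ≤
        120 * ((10 - 1) * 56 ^ 2 + (11 - 10) ^ 2 * 56 ^ 2) := Nat.mul_le_mul_right _ h2
      _ < 56 ^ 2 * 56 ^ 2 := by norm_num

/-- **`J₁`.** -/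
theorem row3_j1 (h : Spor.IsoJ1 K) : Row3 K := by
  obtain ⟨e⟩ := h
  have : IsSimpleGroup Spor.J1 := SporadicB.J1.Main.isJ1.1
  have hfin : Finite Spor.J1 := Nat.finite_of_card_ne_zero (by rw [H413.JOneLocal.card_J1]; norm_num)
  exact Row3.of_equiv e (row3_j1_local H413.JOneLocal.isLocal H413.JOneLocal.card_J1)

end Cfsg.Agent.H455.TC
end

-- part: H455/TC/J3
section
/-!
# Two classes for `J₃`: a class of elements of order 17 (helper455; S4173, S2464, S2452)

The nonexceptional degrees for 17 are at least 152, the exceptional degree is 1215, `|C(g)| ≤ 1920`.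
-/

set_option autoImplicit false
set_option maxRecDepth 100000

namespace Cfsg.Agent.H455.TC

open Cfsg Subgroup
open Cfsg.Agent.Characters.Core
open Cfsg.Agent.M23Order.Base
open Cfsg.Agent.H417.JThreeLP
open Cfsg.Agent.H455.Ore.J3
open Cfsg.Agent.H210.TC

universe u

variable {K : Type u} [Group K]

/-- `|C(g)| ≤ 1920` -/
theorem j3_cent [Finite K] (h : Spor.IsoJ3 K) {g : K} (hg : g ≠ 1) : Nat.card (centralizer ({g} : Set K)) ≤ 1920 := by
  rcases cases_j3 h g with h1 | h1 | ⟨h1, -⟩ | h1
  · exact absurd h1 hg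
  · rw [H724.IMJThree.card_two h h1]
  · rcases H305.OddJ3.cent_three h h1 with h2 | h2
    · rw [h2]; norm_num
    · exact (Nat.le_of_dvd (by norm_num) h2).trans (by norm_num)
  · exact h1.trans (by norm_num)

/-- the exceptional degree -/
theorem exc_deg {ι : Type*} [Fintype ι] {V : ι → Fin 8 → ℤ} (h : Hyp V) (χ : ι) (h1 : V χ 0 % 17 = 8 ∨ V χ 0 % 17 = 9) :
    1215 ≤ V χ 0 := by
  obtain ⟨l, hl, hv⟩ := h.mem χ
  have hall : ∀ l ∈ vecs, fn l 0 % 17 = 8 ∨ fn l 0 % 17 = 9 → 1215 ≤ fn l 0 := by decide +kernel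
  rw [hv] at h1 ⊢
  exact hall l hl h1

/-- **`J₃`.** -/
theorem row3_j3 (h : Spor.IsoJ3 K) : Row3 K := by
  classical
  obtain ⟨hs, hc, -⟩ := H898.J3Cent.base h
  have hfin : Finite K := Nat.finite_of_card_ne_zero (by rw [hc]; norm_num)
  have := finite_irr (G := K)
  let _ := Fintype.ofFinite (IrrCharacter K)
  obtain ⟨V, hV, hH⟩ := H417.JThreeDeg.hyp h
  have f17 : Fact (Nat.Prime 17) := ⟨by norm_num⟩
  obtain ⟨P, hP, ⟨D⟩⟩ := H417.BlockCount.exists_SC (G := K) 17 (by norm_num) (by rw [hc]; norm_num)
    (by rw [hc]; norm_num) (fun y hy => (H898.J3Cent.seventeen h hy).1) (e := 8) (t := 2)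
    (by rw [hc]) (by norm_num)
  obtain ⟨x, hx⟩ := exists_prime_orderOf_dvd_card' (G := (P : Subgroup K)) 17 (by rw [hP])
  have hx' : orderOf (x : K) = 17 := by rw [Subgroup.orderOf_coe]; exact hx
  have hperf : commutator K = ⊤ := MTwelve.SmallDegree.commutator_eq_top_of_card (by rw [hc]; norm_num)
  refine Row3.of_sq (x := (x : K)) (by rw [hx']; norm_num) (by rw [hx']; norm_num) fun g hg => ?_
  refine exists_sq D (by norm_num) (by norm_num) x.2
    (fun h1 => by rw [h1, orderOf_one] at hx'; norm_num at hx') (H898.J3Cent.seventeen h hx').1 (d1 := 152) (d2 := 1215)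
    (fun χ hχ hne => ?_) (fun χ hχ => ?_) (by norm_num) (by norm_num) ?_
  · have h1 : dg χ ≠ 1 := fun h1 => hne (coe_eq_one_of_dg hperf h1)
    have h17 : dg χ % 17 ≠ 0 := by
      rcases H417.BlockCount.mod_NE' D (by norm_num) hχ with h4 | h4 <;> omega
    have h2 := le_deg hH χ (by rw [hV]; exact_mod_cast h1) (by rw [hV]; omega)
    rw [hV] at h2
    exact_mod_cast h2
  · have h17 : dg χ % 17 = 8 ∨ dg χ % 17 = 9 := by
      rcases H417.BlockCount.mod_X' D (by norm_num) (by norm_num) hχ with h4 | h4 <;> omega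
    have h2 := exc_deg hH χ (by rw [hV]; omega)
    rw [hV] at h2
    exact_mod_cast h2
  · have h2 := j3_cent h hg
    calc Nat.card (centralizer ({g} : Set K)) * ((8 - 1) * 1215 ^ 2 + (17 - 8) ^ 2 * 152 ^ 2) ≤
        1920 * ((8 - 1) * 1215 ^ 2 + (17 - 8) ^ 2 * 152 ^ 2) := Nat.mul_le_mul_right _ h2
      _ < 152 ^ 2 * 1215 ^ 2 := by norm_num

end Cfsg.Agent.H455.TC
end

-- part: H785/TC/Co1
section
/-!
# The row `Co1` of S4173 (helper785)

Class cover: helper123; model: helper68, helper264.
-/

set_option autoImplicit false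

namespace Cfsg.Agent.H785.TC

open Cfsg Cfsg.Agent.H123.Cls Cfsg.Agent.H68.CoMdl

theorem cov : Cov S1 := H123.Cls.CoD.cov

/-- **the row `Co₁`** of S4173, S2464, S2452 -/
theorem row3_Co1 {S : Type*} [Group S] (h : Spor.IsoCo1 S) : H210.TC.Row3 S := by
  obtain ⟨e⟩ := h
  exact (row3_abs rp_ga rp_gb cov).of_equiv e

end Cfsg.Agent.H785.TC
end

-- part: H258/TC/Row3
section
/-!
# `Row3` (S4173, S2464, S2452) for `Co2` (helper258)

* `row3_of_inv` : if every `g ≠ 1` is `(u x u⁻¹) (v x⁻¹ v⁻¹)` and `x⁻¹` is a product of two conjugates of `x`, then `Row3`;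
* `inv_of_two` : if all elements of order `p` are conjugate to `x` or `x⁻¹` and `i ^ 2 + j ^ 2 + 1` is a multiple of `p`, then
  `x⁻¹` is a product of two conjugates of `x`;
* `row3_co2` : the row of `Co2`.
-/

set_option autoImplicit false

namespace Cfsg.Agent.H258.TC

open Cfsg

/-- the form `(x, x⁻¹)` -/
theorem row3_of_inv {S : Type*} [Group S] {x : S} (hx : (orderOf x).Prime) (hx6 : Nat.Coprime (orderOf x) 6)
    (h : ∀ g : S, g ≠ 1 → ∃ u v : S, g = (u * x * u⁻¹) * (v * x⁻¹ * v⁻¹))
    (hi : ∃ u v : S, x⁻¹ = (u * x * u⁻¹) * (v * x * v⁻¹)) : H210.TC.Row3 S := by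
  obtain ⟨u', v', e'⟩ := hi
  refine ⟨x, x⁻¹, hx, hx6, by rwa [orderOf_inv], by rwa [orderOf_inv], h, fun g => ?_⟩
  have key : ∀ v : S, v * x⁻¹ * v⁻¹ = (v * u' * x * (v * u')⁻¹) * (v * v' * x * (v * v')⁻¹) := by
    intro v
    rw [e']
    group
  by_cases hg : g = 1
  · refine ⟨1, u', v', ?_⟩
    rw [mul_assoc, ← e', hg]
    group
  · obtain ⟨u, v, e⟩ := h g hg
    exact ⟨u, v * u', v * v', by rw [mul_assoc, ← key v]; exact e⟩

/-- `x ^ (k ^ 2)` is conjugate to `x` -/
theorem conj_sq {S : Type*} [Group S] {x : S} {p : ℕ} (hp : p.Prime) (hx : orderOf x = p)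
    (h2 : ∀ g : S, orderOf g = p → IsConj x g ∨ IsConj x⁻¹ g) {k : ℕ} (hk : Nat.Coprime p k) : IsConj x (x ^ (k ^ 2)) := by
  have ho : orderOf (x ^ k) = p := by
    rw [orderOf_pow' x (by rintro rfl; rw [Nat.coprime_zero_right] at hk; exact hp.ne_one hk), hx, hk, Nat.div_one]
  rcases h2 (x ^ k) ho with h | h
  · obtain ⟨c, hc⟩ := isConj_iff.1 h
    refine isConj_iff.2 ⟨c * c, ?_⟩
    rw [pow_two, pow_mul, ← hc, conj_pow, ← hc]
    group
  · obtain ⟨c, hc⟩ := isConj_iff.1 h
    refine isConj_iff.2 ⟨c * c, ?_⟩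
    rw [pow_two, pow_mul, ← hc, conj_pow, inv_pow, ← hc]
    group

/-- `x⁻¹` is a product of two conjugates of `x` -/
theorem inv_of_two {S : Type*} [Group S] {x : S} {p : ℕ} (hp : p.Prime) (hx : orderOf x = p)
    (h2 : ∀ g : S, orderOf g = p → IsConj x g ∨ IsConj x⁻¹ g) {i j : ℕ} (hi : Nat.Coprime p i) (hj : Nat.Coprime p j)
    (hij : p ∣ i ^ 2 + j ^ 2 + 1) : ∃ u v : S, x⁻¹ = (u * x * u⁻¹) * (v * x * v⁻¹) := by
  obtain ⟨u, hu⟩ := isConj_iff.1 (conj_sq hp hx h2 hi)
  obtain ⟨v, hv⟩ := isConj_iff.1 (conj_sq hp hx h2 hj)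
  refine ⟨u, v, ?_⟩
  rw [hu, hv, ← pow_add, inv_eq_iff_mul_eq_one, ← pow_succ']
  exact orderOf_dvd_iff_pow_eq_one.1 (by rw [hx]; exact hij)

/-- two classes of order `p`, one the inverse of the other, and the product table -/
theorem row3_of_two {S : Type*} [Group S] {x : S} {p : ℕ} (hp : p.Prime) (h6 : Nat.Coprime p 6) (hx : orderOf x = p)
    (h2 : ∀ g : S, orderOf g = p → IsConj x g ∨ IsConj x⁻¹ g) {i j : ℕ} (hi : Nat.Coprime p i) (hj : Nat.Coprime p j)
    (hij : p ∣ i ^ 2 + j ^ 2 + 1) (h : ∀ g : S, g ≠ 1 → ∃ u v : S, g = (u * x * u⁻¹) * (v * x⁻¹ * v⁻¹)) :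
    H210.TC.Row3 S :=
  row3_of_inv (by rwa [hx]) (by rwa [hx]) h (inv_of_two hp hx h2 hi hj hij)

/-- **the row `Co2` of S4173, S2464, S2452** -/
theorem row3_co2 {S : Type*} [Group S] (h : Spor.IsoCo2 S) : H210.TC.Row3 S := by
  obtain ⟨e⟩ := h
  obtain ⟨a, ha⟩ := exists23
  refine H210.TC.Row3.of_equiv e (row3_of_two (p := 23) (i := 2) (j := 8) (by norm_num) (by norm_num) ha
    (fun g hg => ?_) (by norm_num) (by norm_num) (by norm_num) fun g hg => prd23 ha hg)
  have h1 := ord23 ha
  have h2 := ord23 hg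
  rcases h1 with h1 | h1 <;> rcases h2 with h2 | h2
  · exact Or.inl (h1.symm.trans h2)
  · refine Or.inr (IsConj.trans ?_ h2)
    obtain ⟨c, hc⟩ := isConj_iff.1 h1
    exact isConj_iff.2 ⟨c⁻¹, by rw [← hc]; group⟩
  · refine Or.inr (IsConj.trans ?_ h2)
    obtain ⟨c, hc⟩ := isConj_iff.1 h1
    exact isConj_iff.2 ⟨c⁻¹, by rw [← hc]; group⟩
  · exact Or.inl (h1.symm.trans h2)

end Cfsg.Agent.H258.TC
end
end

-- part: H728/TC/HNT
section
set_option linter.all false
open scoped Cfsg.Agent.FastGrp

/-!
# Products of an element of order 11 and an element of order 19 of the Harada-Norton group (helper728)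

* `prd_of_le` : `|C(g)| ≤ 78408` : `g` is a product of a conjugate of `x` (any element of order 11) and a conjugate of `y` (any
  element of order 19);
* `prd_real` : the same for a real element `g = z₁ z₂` with `z₁` of order 11 and `z₂` of order 19.
-/

set_option autoImplicit false
set_option maxRecDepth 100000

namespace Cfsg.Agent.H728.TC.HNT

open Cfsg Subgroup
open Cfsg.Agent.Characters Cfsg.Agent.Characters.Core
open Cfsg.Agent.SmallSimple.ThetaSetup Cfsg.Agent.SmallSimple.ThetaOrtho
open Cfsg.Agent.SmallSimple.TheoremC Cfsg.Agent.SmallSimple.TheoremCCor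
open Cfsg.Agent.SmallSimple.PrimeDual
open Cfsg.Agent.H65.Ore (one1 one1_apply Prd)

universe u

/-! ### The values at an element `a k` -/

section val

variable {G : Type u} [Group G] [Finite G] {p : ℕ} [hp : Fact p.Prime] {P : Sylow p G} {K : Subgroup G}

/-- **The values at `a k`.** -/
theorem norm_le_one (hK : IsComp p (P : Subgroup G) K) (hP : Nat.card P = p)
    (he : (centralizer ((P : Subgroup G) : Set G)).relIndex (normalizer ((P : Subgroup G) : Set G)) = p - 1)
    {a : P} (ha : a ≠ 1) {k : K}
    (hst : ∀ θ : IrrCharacter K, (θ : K → ℂ) k ≠ 0 → ∀ n ∈ normalizer ((P : Subgroup G) : Set G), tw (θ : K → ℂ) n = θ)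
    (hle : ∀ θ : IrrCharacter K, ‖(θ : K → ℂ) k‖ ≤ 1) (χ : IrrCharacter G) :
    ‖(χ : G → ℂ) (a * k)‖ ≤ 1 := by
  classical
  by_cases h0 : (χ : G → ℂ) (a * k) = 0
  · rw [h0, norm_zero]; exact zero_le_one
  obtain ⟨θ, hθ, hθk⟩ := H529.Inv.Pair.exists_theta hK ha h0
  have : Finite (IrrCharacter K) := finite_irr
  have := Fintype.ofFinite (IrrCharacter K)
  have horb : orb P K (θ : K → ℂ) = {⟨θ, θ.2⟩} := orb_of_stable θ.2 fun n hn => hst θ hθk n hn
  have hval : (χ : G → ℂ) (a * k) = part (θ : K → ℂ) (χ : G → ℂ) a * (θ : K → ℂ) k := by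
    rw [sum_part (isIrr_isClassFunction χ.2) (fun y hy => hK.comm a.2 hy)]
    refine Finset.sum_eq_single θ (fun θ' _ hne => ?_) (fun h => absurd (Finset.mem_univ _) h)
    rw [part_eq_zero_of_not_mem_orb hK hP θ.2 hθ (by rw [horb, Finset.mem_singleton]; exact hne) ha, zero_mul]
  have hstab : Nat.card (stabAct hK (θ : K → ℂ)) = p - 1 := by
    have h := card_stabAct_mul_card_orb hK hP θ.2
    rw [horb, Finset.card_singleton, mul_one, he] at h
    exact h
  obtain ⟨NE, X, ε, d, S, hB, -, hNE, hX, hε, hd, hval1, hvalX, -, -, -⟩ :=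
    theoremC hK hP θ.2 hstab (mul_one (p - 1))
  have hpart : ‖part (θ : K → ℂ) (χ : G → ℂ) a‖ ≤ 1 := by
    rcases (hB χ).1 hθ with h | h
    · rw [hval1 χ h a ha]
      rcases hε χ h with h1 | h1 <;> rw [h1] <;> simp
    · obtain ⟨hSc, hS1, -, hSv⟩ := hvalX χ h
      rw [hSv a ha]
      have hfin := finite_dual hp.out hP
      have := Fintype.ofFinite (P →* ℂˣ)
      have hSu : S χ = Finset.univ.erase 1 := by
        refine Finset.eq_of_subset_of_card_le (fun l hl => Finset.mem_erase.2 ⟨fun h => hS1 (h ▸ hl), Finset.mem_univ _⟩) ?_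
        rw [hSc, Finset.card_erase_of_mem (Finset.mem_univ _), Finset.card_univ, ← Nat.card_eq_fintype_card,
          card_dual hp.out hP]
      have h1 := sum_dual_eq_zero hp.out hP ha
      rw [← Finset.add_sum_erase Finset.univ _ (Finset.mem_univ 1), ← hSu] at h1
      have h2 : (((1 : P →* ℂˣ) a : ℂˣ) : ℂ) = 1 := rfl
      rw [h2] at h1
      have h3 : ∑ l ∈ S χ, ((l a : ℂˣ) : ℂ) = -1 := by linear_combination h1
      rw [h3]
      rcases hd with h4 | h4 <;> rw [h4] <;> simp
  rw [hval, norm_mul]
  exact mul_le_one₀ hpart (norm_nonneg _) (hle θ)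

end val

/-! ### Order 11 -/

instance fin_HN : Finite Spor.HN := Cfsg.Agent.H981.InvHN.fin_HN

theorem card_HN : Nat.card Spor.HN = 273030912000000 := Cfsg.Agent.KFacts.HN.Classes.card_HN

/-- the list of the pairs -/
def wl : List (ℕ × ℤ) := [(0, 0), (1, 1), (10, -1)]

theorem num11 : H653.Sieve.numOK 273030912000000 11 2 10 1 wl 0 false = true := by decide +kernel

/-- the data of an element of order 11 -/
theorem setup11 {x : Spor.HN} (hx : orderOf x = 11) :
    ∃ (P : Sylow 11 Spor.HN) (K : Subgroup Spor.HN), x ∈ (P : Subgroup Spor.HN) ∧ Nat.card P = 11 ∧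
      IsComp 11 (P : Subgroup Spor.HN) K ∧ Nat.card K = 2 ∧
      (centralizer ((P : Subgroup Spor.HN) : Set Spor.HN)).relIndex (normalizer ((P : Subgroup Spor.HN) : Set Spor.HN)) =
        11 - 1 := by
  have : IsSimpleGroup Spor.HN := Cfsg.Agent.S1701.result.1
  have hp : Fact (Nat.Prime 11) := ⟨by norm_num⟩
  have hc : Nat.card (centralizer ({x} : Set Spor.HN)) = 11 * 2 := H175.Ore.HNFus.card_cent hx
  obtain ⟨P, K, hxP, hP, hK, hKc, he, -, -⟩ := H529.Inv.Pair.setup H728.Four.HN21.not_comm card_HN hx hc 10 1 wl 0 false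
    num11
  exact ⟨P, K, hxP, hP, hK, hKc, he⟩

/-- the elements of order 11 are conjugate -/
theorem conj11 {x y : Spor.HN} (hx : orderOf x = 11) (hy : orderOf y = 11) : IsConj x y := by
  have hp : Fact (Nat.Prime 11) := ⟨by norm_num⟩
  obtain ⟨P, K, -, hP, -, -, he⟩ := setup11 hx
  refine H970.CycOne.conj_of_relIndex 11 P hP he ?_ ?_ ⟨1, by rw [hx, pow_one]⟩ ⟨1, by rw [hy, pow_one]⟩
  · intro h
    rw [h, orderOf_one] at hx
    norm_num at hx
  · intro h
    rw [h, orderOf_one] at hy
    norm_num at hy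

theorem norm11 {x : Spor.HN} (hx : orderOf x = 11) (χ : IrrCharacter Spor.HN) : ‖(χ : Spor.HN → ℂ) x‖ ≤ 1 := by
  have hp : Fact (Nat.Prime 11) := ⟨by norm_num⟩
  obtain ⟨P, K, hxP, hP, hK, hKc, he⟩ := setup11 hx
  have ha : (⟨x, hxP⟩ : (P : Subgroup Spor.HN)) ≠ 1 := by
    intro h
    have h1 : x = 1 := congrArg Subtype.val h
    rw [h1, orderOf_one] at hx
    norm_num at hx
  have hlin : ∀ θ : IrrCharacter K, ‖(θ : K → ℂ) 1‖ ≤ 1 := by
    intro θ
    have : Finite (IrrCharacter K) := finite_irr
    have := Fintype.ofFinite (IrrCharacter K)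
    have h1 := H686.CharKit.sum_normSq (1 : K)
    have h2 : Nat.card (centralizer ({(1 : K)} : Set K)) ≤ 2 := by
      rw [← hKc]; exact Subgroup.card_le_card_group _
    have h3 := Finset.single_le_sum (f := fun χ : IrrCharacter K => Complex.normSq ((χ : K → ℂ) 1))
      (fun _ _ => Complex.normSq_nonneg _) (Finset.mem_univ θ)
    rw [h1] at h3
    have h4 : (θ : K → ℂ) 1 = (charDegree (θ : K → ℂ) : ℂ) := (H686.CharKit.charDegree_irr θ).symm
    have h5 : Complex.normSq ((θ : K → ℂ) 1) = ((charDegree (θ : K → ℂ) ^ 2 : ℕ) : ℝ) := by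
      rw [h4, Complex.normSq_natCast]; push_cast; ring
    simp only [h5] at h3
    have h6 : charDegree (θ : K → ℂ) ^ 2 ≤ 2 := le_trans (by exact_mod_cast h3) h2
    have h7 : charDegree (θ : K → ℂ) ≤ 1 := by nlinarith
    rw [h4, Complex.norm_natCast]
    exact_mod_cast h7
  have hst : ∀ θ : IrrCharacter K, ∀ n ∈ normalizer ((P : Subgroup Spor.HN) : Set Spor.HN), tw (θ : K → ℂ) n = θ := by
    intro θ n hn
    funext y
    rw [tw_apply hK _ hn]
    refine congrArg (θ : K → ℂ) ?_
    by_cases hy : y = 1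
    · subst hy
      apply Subtype.ext
      simp
    · obtain ⟨w, -, hw⟩ := (Nat.card_eq_two_iff' (1 : K)).1 hKc
      have h1 : ∀ z : K, z ≠ 1 → z = w := hw
      rw [h1 y hy]
      apply h1
      intro h2
      apply hy
      have h3 : n * (w : Spor.HN) * n⁻¹ = 1 := congrArg Subtype.val h2
      rw [h1 y hy]
      exact Subtype.ext (conj_eq_one_iff.1 h3)
  have h := norm_le_one hK hP he ha (k := 1) (fun θ _ n hn => hst θ n hn) hlin χ
  simpa using h

/-! ### Order 19 -/

section inv

variable {G : Type*} [Group G] [Finite G]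

/-- two classes of elements of order `p`, inverse to each other -/
theorem conj_or_inv (p : ℕ) [hp : Fact p.Prime] (P : Sylow p G) (hP : Nat.card (P : Subgroup G) = p) {e : ℕ}
    (he : (centralizer ((P : Subgroup G) : Set G)).relIndex (normalizer ((P : Subgroup G) : Set G)) = e)
    (h2 : 2 * e = p - 1) (hodd : Odd e) {x y : G} (hx : orderOf x = p) (hy : orderOf y = p) :
    IsConj x y ∨ IsConj x y⁻¹ := by
  classical
  have hne : ∀ z : G, orderOf z = p → z ≠ 1 := by
    intro z hz h
    rw [h, orderOf_one] at hz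
    exact hp.out.one_lt.ne hz
  have key : ∀ z : G, orderOf z = p → ∃ z' ∈ P, z' ≠ 1 ∧ IsConj z z' := by
    intro z hz
    have hZ : IsPGroup p (zpowers z) := IsPGroup.of_card (n := 1) (by rw [Nat.card_zpowers, hz, pow_one])
    obtain ⟨S, hS⟩ := hZ.exists_le_sylow
    obtain ⟨g, hg⟩ := MulAction.exists_smul_eq G S P
    refine ⟨g * z * g⁻¹, ?_, ?_, isConj_iff.2 ⟨g, rfl⟩⟩
    · rw [← hg]
      exact Subgroup.smul_mem_pointwise_smul z (MulAut.conj g) (S : Subgroup G) (hS (mem_zpowers z))
    · intro h
      exact hne z hz (conj_eq_one_iff.1 h)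
  obtain ⟨x', hx', hx1, hxx⟩ := key x hx
  obtain ⟨y', hy', hy1, hyy⟩ := key y hy
  have hp3 : p ≠ 2 := by
    rintro rfl
    obtain ⟨k, hk⟩ := hodd
    omega
  -- an element of `P` is not its own inverse
  have hinv : ∀ z ∈ P, z ≠ 1 → z⁻¹ ≠ z := by
    intro z hz hz1 h
    have h3 : z ^ 2 = 1 := by rw [pow_two, ← eq_inv_iff_mul_eq_one, h]
    have h4 : orderOf z ∣ p := by
      rw [← hP]
      have := orderOf_dvd_natCard (⟨z, hz⟩ : (P : Subgroup G))
      rwa [Subgroup.orderOf_mk] at this
    have h5 : orderOf z ∣ 2 := orderOf_dvd_of_pow_eq_one h3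
    rcases (Nat.dvd_prime hp.out).1 h4 with h6 | h6
    · exact hz1 (orderOf_eq_one_iff.1 h6)
    · rw [h6] at h5
      exact hp3 ((Nat.prime_dvd_prime_iff_eq hp.out Nat.prime_two).1 h5)
  set O : G → Set G := fun z => {y : G | ∃ n ∈ normalizer ((P : Subgroup G) : Set G), n * z * n⁻¹ = y} with hO
  have hcard : ∀ z ∈ P, z ≠ 1 → (O z).ncard = e := fun z hz hz1 => (H970.CycOne.orbit_card hP hz hz1).trans he
  have hsub : ∀ z ∈ P, z ≠ 1 → O z ⊆ ((P : Subgroup G) : Set G) \ {1} := fun z hz hz1 => H970.CycOne.sub_compl hz hz1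
  -- the two orbits are disjoint
  have hdisj : x'⁻¹ ∉ O x' := by
    rintro ⟨m, hm, hmx⟩
    have hclosed : ∀ z ∈ O x', z⁻¹ ∈ O x' := by
      rintro _ ⟨n, hn, rfl⟩
      refine ⟨n * m, mul_mem hn hm, ?_⟩
      calc n * m * x' * (n * m)⁻¹ = n * (m * x' * m⁻¹) * n⁻¹ := by group
        _ = (n * x' * n⁻¹)⁻¹ := by rw [hmx]; group
    let f : Function.End ↥(O x') := fun z => ⟨(z : G)⁻¹, hclosed z z.2⟩
    have hfin : Finite ↥(O x') := Set.toFinite _
    have := Fintype.ofFinite ↥(O x')
    have h5 : Fintype.card ↥(O x') ≡ Fintype.card (Function.fixedPoints f) [MOD 2] := by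
      have hf2 : f ^ 2 ^ 1 = 1 := by
        funext z
        change f (f z) = z
        exact Subtype.ext (inv_inv _)
      exact Equiv.Perm.card_fixedPoints_modEq hf2
    have h6 : Fintype.card (Function.fixedPoints f) = 0 := by
      rw [Fintype.card_eq_zero_iff]
      refine ⟨fun z => ?_⟩
      have h7 : f z = z := z.2
      have h8 : ((z : ↥(O x')) : G)⁻¹ = (z : ↥(O x')) := congrArg Subtype.val h7
      have h9 := hsub x' hx' hx1 (z : ↥(O x')).2
      exact hinv _ h9.1 h9.2 h8
    rw [h6, ← Nat.card_eq_fintype_card, Nat.card_coe_set_eq, hcard x' hx' hx1] at h5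
    obtain ⟨k, hk⟩ := hodd
    have h10 : e % 2 = 0 := h5
    omega
  have hx'i : x'⁻¹ ∈ (P : Subgroup G) := inv_mem hx'
  have hx1i : x'⁻¹ ≠ 1 := fun h => hx1 (inv_eq_one.1 h)
  have hdis : Disjoint (O x') (O x'⁻¹) := by
    rw [Set.disjoint_left]
    rintro _ ⟨n, hn, rfl⟩ ⟨m, hm, hmx⟩
    apply hdisj
    refine ⟨m⁻¹ * n, mul_mem (inv_mem hm) hn, ?_⟩
    calc m⁻¹ * n * x' * (m⁻¹ * n)⁻¹ = m⁻¹ * (n * x' * n⁻¹) * m := by group
      _ = x'⁻¹ := by rw [← hmx]; group
  have hun : O x' ∪ O x'⁻¹ = ((P : Subgroup G) : Set G) \ {1} := by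
    apply Set.eq_of_subset_of_ncard_le (ht := Set.toFinite _)
    · exact Set.union_subset (hsub x' hx' hx1) (hsub x'⁻¹ hx'i hx1i)
    · rw [H970.CycOne.ncard_diff hP, Set.ncard_union_eq hdis, hcard x' hx' hx1, hcard x'⁻¹ hx'i hx1i]
      omega
  have hmem : y' ∈ O x' ∪ O x'⁻¹ := by rw [hun]; exact ⟨hy', hy1⟩
  rcases hmem with ⟨n, -, hn⟩ | ⟨n, -, hn⟩
  · left
    exact hxx.trans ((isConj_iff.2 ⟨n, hn⟩).trans hyy.symm)
  · right
    have h3 : IsConj x' y'⁻¹ := isConj_iff.2 ⟨n, by rw [← hn]; group⟩
    have h4 : IsConj y⁻¹ y'⁻¹ := by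
      obtain ⟨c, hc⟩ := isConj_iff.1 hyy
      exact isConj_iff.2 ⟨c, by rw [← hc]; group⟩
    exact hxx.trans (h3.trans h4.symm)

end inv

/-- the list of the pairs -/
def wl19 : List (ℕ × ℤ) := [(0, 0), (1, 2), (18, -2), (9, -1), (10, 1)]

theorem num19 : H653.Sieve.numOK 273030912000000 19 1 9 2 wl19 0 false = true := by decide +kernel

theorem cent19 {x : Spor.HN} (hx : orderOf x = 19) : Nat.card (centralizer ({x} : Set Spor.HN)) = 19 := by
  have : IsSimpleGroup Spor.HN := Cfsg.Agent.S1701.result.1
  obtain ⟨x19, hx19, hc19⟩ := H845.HNNineteen.hn_nineteen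
  rw [H547.SelfCent.card_cent_eq (r := 19) (by norm_num) (by rw [card_HN]; norm_num) hx hx19, hc19]

/-- the elements of order 19 are conjugate up to inverses -/
theorem conj19 {x y : Spor.HN} (hx : orderOf x = 19) (hy : orderOf y = 19) : IsConj x y ∨ IsConj x y⁻¹ := by
  have : IsSimpleGroup Spor.HN := Cfsg.Agent.S1701.result.1
  have hp : Fact (Nat.Prime 19) := ⟨by norm_num⟩
  obtain ⟨P, K, -, hP, -, -, he, -, -⟩ := H529.Inv.Pair.setup H728.Four.HN21.not_comm card_HN hx (k := 1)
    (by rw [cent19 hx]) 9 2 wl19 0 false num19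
  exact conj_or_inv 19 P hP he (by norm_num) (by decide) hx hy

/-! ### The two results -/

/-- **T1 for the pair `(11, 19)`.** -/
theorem prd_of_le {x y g : Spor.HN} (hx : orderOf x = 11) (hy : orderOf y = 19)
    (hg : Nat.card (centralizer ({g} : Set Spor.HN)) ≤ 78408) : Prd x y g := by
  refine H529.Inv.Pair.prd_pair (mx := 1) (cy := 19) (c := 78408) (d := 1188) (fun χ => ?_) (cent19 hy).le
    (fun χ h1 _ h3 => ?_) hg (by norm_num)
  · rw [Nat.cast_one]
    exact pow_le_one₀ (norm_nonneg _) (norm11 hx χ)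
  · refine H175.Ore.HNDeg.degOff_HN (S := Spor.HN) ⟨MulEquiv.refl _⟩ χ h1 fun h4 => h3 ?_
    exact H529.Inv.Pair.van_dz χ (q := 19) (c := 1) (by norm_num) (by rw [card_HN]; norm_num) (by rw [card_HN]; norm_num)
      (by rw [pow_one]; exact h4) (by rw [hy])

/-- **Real elements.** -/
theorem prd_real {g z₁ z₂ x y : Spor.HN} (hr : IsConj g g⁻¹) (e : g = z₁ * z₂) (h1 : orderOf z₁ = 11)
    (h2 : orderOf z₂ = 19) (hx : orderOf x = 11) (hy : orderOf y = 19) : Prd x y g := by
  obtain ⟨a, ha⟩ := isConj_iff.1 (conj11 hx h1)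
  rcases conj19 hy h2 with h | h
  · obtain ⟨b, hb⟩ := isConj_iff.1 h
    exact ⟨a, b, by rw [ha, hb, e]⟩
  · -- `g⁻¹ = z₂⁻¹ z₁⁻¹` is conjugate to `z₁⁻¹ z₂⁻¹`
    obtain ⟨b, hb⟩ := isConj_iff.1 h
    obtain ⟨a', ha'⟩ := isConj_iff.1 (conj11 hx (by rw [orderOf_inv, h1] : orderOf z₁⁻¹ = 11))
    obtain ⟨c, hc⟩ := isConj_iff.1 hr
    -- `g = c⁻¹ g⁻¹ c = c⁻¹ z₂⁻¹ z₁⁻¹ c = (c⁻¹ z₂⁻¹ z₁⁻¹ z₂ c) (c⁻¹ z₂⁻¹ c)`
    refine ⟨c⁻¹ * z₂⁻¹ * a', c⁻¹ * b, ?_⟩
    have h3 : g = c⁻¹ * g⁻¹ * c := by rw [← hc]; group
    calc g = c⁻¹ * g⁻¹ * c := h3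
      _ = c⁻¹ * z₂⁻¹ * z₁⁻¹ * c := by rw [e]; group
      _ = (c⁻¹ * z₂⁻¹) * z₁⁻¹ * (c⁻¹ * z₂⁻¹)⁻¹ * (c⁻¹ * z₂⁻¹ * c⁻¹⁻¹) := by group
      _ = (c⁻¹ * z₂⁻¹) * (a' * x * a'⁻¹) * (c⁻¹ * z₂⁻¹)⁻¹ * (c⁻¹ * (b * y * b⁻¹) * c⁻¹⁻¹) := by rw [ha', hb]
      _ = _ := by group

end Cfsg.Agent.H728.TC.HNT
end

-- part: H903/TC/Baby_mg
section
prune_inst 0x4111001400062000000000000000004200000010000200000100004000000010000000100082011001000800000000000001000000000000000000000080404010000120080480080000000003084005000281000000000000000000000000000200000000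
set_option linter.all false
open scoped Cfsg.Agent.FastGrp

-- part: H903/TC/Large
section
/-!
# Two fixed classes in `C(z)`, `Q = O₂(C(z))` extraspecial (S4173, helper903)

* `CC r g` : `g = a * (c * a⁻¹ * c⁻¹)` with `a` of order `r` (a commutator with an element of order `r`);
* `cc_out`, `cc_in`, `cc_cent` : as `pp_out`, `pp_in`, `pp_cent` of helper700;
* `CC.fixed` : if all elements of order `r` are conjugate to `x` or `x⁻¹`: `g = (u * x * u⁻¹) * (v * x⁻¹ * v⁻¹)`.
-/

set_option autoImplicit false

namespace Cfsg.Agent.H903.TC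

open Cfsg.Agent.Co2Type.Quad (Large)
open Cfsg.Agent.H6.ORE Cfsg.Agent.H903.Ore.Large Cfsg.Agent.H323.Pw Cfsg.Agent.H843.Ore Cfsg.Agent.H700.PwB

universe u v

/-- a commutator with an element of order `r` -/
def CC {G : Type*} [Group G] (r : ℕ) (g : G) : Prop := ∃ a c : G, orderOf a = r ∧ g = a * (c * a⁻¹ * c⁻¹)

section

variable {G : Type u} [Group G] {H : Type v} [Group H]

theorem CC.map {r : ℕ} {g : G} (h : CC r g) (f : G ≃* H) : CC r (f g) := by
  obtain ⟨a, c, ha, e⟩ := h
  exact ⟨f a, f c, by rw [MulEquiv.orderOf_eq, ha], by rw [e]; simp only [map_mul, map_inv]⟩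

theorem CC.conj {r : ℕ} {g : G} (h : CC r g) (x : G) : CC r (x * g * x⁻¹) := h.map (MulAut.conj x)

theorem CC.of_conj {r : ℕ} {g x : G} (h : CC r (x * g * x⁻¹)) : CC r g := by
  have h1 := h.conj x⁻¹
  rwa [show x⁻¹ * (x * g * x⁻¹) * x⁻¹⁻¹ = g by group] at h1

/-- in a subgroup -/
theorem CC.of_sub {K : Subgroup G} {r : ℕ} {g : K} (h : CC r g) : CC r (g : G) := by
  obtain ⟨a, c, ha, e⟩ := h
  exact ⟨a, c, by rw [Subgroup.orderOf_coe, ha], by rw [e]; rfl⟩

/-- **Fixed classes.** -/
theorem CC.fixed {r : ℕ} {g x : G} (h : CC r g) (hx : ∀ a : G, orderOf a = r → IsConj x a ∨ IsConj x⁻¹ a) :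
    ∃ u v : G, g = (u * x * u⁻¹) * (v * x⁻¹ * v⁻¹) := by
  obtain ⟨a, c, ha, e⟩ := h
  rcases hx a ha with h1 | h1
  · obtain ⟨u, rfl⟩ := isConj_iff.1 h1
    exact ⟨u, c * u, by rw [e]; group⟩
  · obtain ⟨u, rfl⟩ := isConj_iff.1 h1
    exact ⟨u * x⁻¹ * u⁻¹ * c * u, u, by rw [e]; group⟩

end

variable {K : Type u} [Group K] {Q : Subgroup K} {z : K} {L : Type v} [Group L] {π : CZ z →* L}

/-- **Elements outside `Q`.** -/
theorem cc_out [Finite Q] (h : Large Q z) (hs : Function.Surjective π) (hk : ∀ c, π c = 1 ↔ (c : K) ∈ Q)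
    {r n : ℕ} (hr : r.Prime) (hodd : Odd r) (hcard : Nat.card Q = 2 ^ (n + 1)) (har : Ar r n) {g : CZ z}
    (hg : π g ≠ 1) (hp : CC r (π g)) : CC r g := by
  obtain ⟨a₀, c₀, ha, e⟩ := hp
  have hE := es_of_large h
  have hfin : Finite (Q.subgroupOf (CZ z)) := finQ
  obtain ⟨a, rfl, hoa⟩ := lift_order h hs hk hr hodd ha
  obtain ⟨c, rfl⟩ := hs c₀
  obtain ⟨b, hb⟩ : ∃ b, b = c * a⁻¹ * c⁻¹ := ⟨_, rfl⟩
  have e1 : π g = π a * π b := by rw [e, hb, map_mul, map_mul, map_inv, map_inv]
  have hob : orderOf (π b) = r := by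
    rw [hb, map_mul, map_mul, map_inv, map_inv,
      show π c * (π a)⁻¹ * (π c)⁻¹ = MulAut.conj (π c) (π a)⁻¹ from rfl, MulEquiv.orderOf_eq, orderOf_inv, ha]
  have hx : (a * b)⁻¹ * g ∈ Q.subgroupOf (CZ z) := by
    show (((a * b)⁻¹ * g : CZ z) : K) ∈ Q
    rw [← hk, map_mul, map_inv, map_mul, e1, inv_mul_cancel]
  obtain ⟨u, -, w, -, e'⟩ := ES.prod_step_fpf hE (nofix h hk hr hodd hcard har ha) (nofix h hk hr hodd hcard har hob) (by
    by_contra hno
    push Not at hno
    apply hg
    rw [e1, ← map_mul, hk]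
    apply Cfsg.Agent.KFacts.LargeO2.mem_of_triv h (Subgroup.mem_centralizer_singleton_iff.1 (a * b).2)
    intro y hy
    have hyC : y ∈ CZ z := Subgroup.mem_centralizer_singleton_iff.2 (h.comm_z y hy)
    exact (hno ⟨y, hyC⟩ hy).imp (congrArg Subtype.val) (congrArg Subtype.val)) hx
  rw [mul_inv_cancel_left] at e'
  refine ⟨u * a * u⁻¹, w * c * u⁻¹, ?_, ?_⟩
  · rw [show u * a * u⁻¹ = MulAut.conj u a from rfl, MulEquiv.orderOf_eq]; exact hoa
  · rw [← e', hb]
    group

/-- the noncentral elements of an extraspecial group, and 1 -/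
theorem cc_mem {H : Type*} [Group H] {Q : Subgroup H} {z : H} (h : ES Q z) [Finite Q] {r : ℕ} {a : H}
    (hord : orderOf a = r)
    (hfix : ∀ x ∈ Q, (a * x * a⁻¹ = x ∨ a * x * a⁻¹ = x * z) → x = 1 ∨ x = z)
    {q : H} (hq : q ∈ Q) (hne : q ≠ z) : CC r q := by
  by_cases hq1 : q = 1
  · rw [hq1]; exact ⟨a, 1, hord, by group⟩
  have hn := h.normal
  have hzn := h.normal_zpowers
  obtain ⟨u, hu, w, hw, e⟩ := step (a := a) (b := a⁻¹) (fpz_cov h (FPz.of_left h a⁻¹ hfix)) hq
  have key : CC r (u * a * u⁻¹ * (w * a⁻¹ * w⁻¹)) := by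
    refine ⟨u * a * u⁻¹, w * u⁻¹, ?_, by group⟩
    rw [show u * a * u⁻¹ = MulAut.conj u a from rfl, MulEquiv.orderOf_eq]; exact hord
  rw [mul_inv_cancel, one_mul, h.mem_zpowers] at e
  rcases e with e | e
  · rwa [inv_mul_eq_one.1 e] at key
  · have e0 : q = u * a * u⁻¹ * (w * a⁻¹ * w⁻¹) * z := by rw [← e]; group
    have : ∃ y ∈ Q, ¬ (q * y = y * q) := by
      by_contra hno
      push Not at hno
      rcases h.nd q hq hno with h1 | h1
      · exact hq1 h1
      · exact hne h1
    obtain ⟨y, hy, hyq⟩ := this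
    have e2 : q * y = y * q * z := (h.comm q hq y hy).resolve_left hyq
    refine CC.of_conj (x := y) ?_
    have e3 : y * q * y⁻¹ = q * z := by
      have e4 : y * q = q * y * z := by rw [e2, mul_assoc (y * q), h.sq, mul_one]
      rw [e4, mul_assoc q, h.central, mul_assoc, mul_assoc, mul_inv_cancel, mul_one]
    rw [e3, e0, mul_assoc, h.sq, mul_one]
    exact key

/-- **Elements of `Q`.** -/
theorem cc_in [Finite Q] (h : Large Q z) (hs : Function.Surjective π) (hk : ∀ c, π c = 1 ↔ (c : K) ∈ Q)
    {r n : ℕ} (hr : r.Prime) (hodd : Odd r) (hcard : Nat.card Q = 2 ^ (n + 1)) (har : Ar r n)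
    {y : L} (hyr : orderOf y = r) {q : K} (hq : q ∈ Q) (hqz : q ≠ z) : CC r q := by
  have hE := es_of_large h
  have hfin : Finite (Q.subgroupOf (CZ z)) := finQ
  obtain ⟨a, rfl, hoa⟩ := lift_order h hs hk hr hodd hyr
  have hqC : q ∈ CZ z := Subgroup.mem_centralizer_singleton_iff.2 (h.comm_z q hq)
  exact (cc_mem hE hoa (nofix h hk hr hodd hcard har hyr) (q := ⟨q, hqC⟩) hq
    (fun e => hqz (congrArg Subtype.val e))).of_sub

/-- **All elements of `C(z)`.** -/
theorem cc_cent [Finite Q] (h : Large Q z) (hs : Function.Surjective π) (hk : ∀ c, π c = 1 ↔ (c : K) ∈ Q)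
    {r n : ℕ} (hr : r.Prime) (hodd : Odd r) (hcard : Nat.card Q = 2 ^ (n + 1)) (har : Ar r n)
    (hy : ∃ y : L, orderOf y = r) (hz : ∃ x : K, x * z * x⁻¹ ∈ Q ∧ x * z * x⁻¹ ≠ z) (g : CZ z)
    (hO : π g ≠ 1 → CC r (π g)) : CC r (g : K) := by
  by_cases h1 : π g = 1
  · obtain ⟨y, hy⟩ := hy
    by_cases hgz : (g : K) = z
    · obtain ⟨x, hx, hxz⟩ := hz
      rw [hgz]
      exact (cc_in h hs hk hr hodd hcard har hy hx hxz).of_conj
    · exact cc_in h hs hk hr hodd hcard har hy ((hk g).1 h1) hgz
  · exact (cc_out h hs hk hr hodd hcard har h1 (hO h1)).of_sub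

end Cfsg.Agent.H903.TC
end

-- part: H903/TC/Baby
section
/-!
# The Baby Monster: commutators with an element of order 23 in `C(z)`, `z` of class 2B (S4173, helper903)

`C(z) = 2^(1+22).Co₂`.  If every `l ≠ 1` in `Co₂` is a commutator with an element of order 23 (`C23`), then every element
of `B` commuting with a 2B involution is one (`cent_B`), in particular every 2-element (`two_B`).
-/

set_option autoImplicit false

namespace Cfsg.Agent.H903.TC

open Cfsg Cfsg.Agent.BabyM Cfsg.Agent.BabyM.Model Cfsg.Agent.BabyU.ClosModel Cfsg.Agent.BabyU.ClosLane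
open Cfsg.Agent.H903.Ore.Large Cfsg.Agent.H903.Ore.Baby

universe u

/-- every nontrivial element of `Co₂` is a commutator with an element of order 23 -/
def C23 : Prop := ∀ l : Spor.Co2, l ≠ 1 → CC 23 l

/-- **The elements of `C(z)`**, for the model. -/
theorem cent_model (hO : C23) (g : Inst.M.G) (hg : g * zz A = zz A * g) : CC 23 g := by
  have := A.finite_G
  obtain ⟨π, hs, hk⟩ := KFacts.Baby.Inst.quot A
  obtain ⟨e⟩ := Cfsg.Agent.Schreier.CoTwoStab.exists_equiv _ GroupInst.dt_l₀
  obtain ⟨n₀, h1, h2, -⟩ := KFacts.Baby.Inst.gen A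
  refine cc_cent (KFacts.Baby.Inst.large A) hs hk (r := 23) (n := 22) (by norm_num) (by decide) card_PP'
    ar_23_22 exists_y ⟨n₀, h1, h2⟩ ⟨g, Subgroup.mem_centralizer_singleton_iff.2 hg⟩ fun h1 => ?_
  have h2 := (hO (e (π ⟨g, Subgroup.mem_centralizer_singleton_iff.2 hg⟩)) fun h => h1 (e.injective (by
    rw [h, map_one]))).map e.symm
  rwa [e.symm_apply_apply] at h2

/-- **The 2-elements**, for the model. -/
theorem two_model (hO : C23) {g : Inst.M.G} (hg : ∃ k : ℕ, orderOf g = 2 ^ k) : CC 23 g := by
  have := A.finite_G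
  obtain ⟨u, hu⟩ := H6.ORE.exists_conj_mem (KFacts.Baby.Inst.odd_index A) hg
  exact (cent_model hO _ (Subgroup.mem_centralizer_singleton_iff.1 hu)).of_conj

section

variable {G : Type u} [Group G]

/-- **Every 2-element of the Baby Monster.** -/
theorem two_B (h : Spor.IsoB G) (hO : C23) {g : G} (hg : ∃ k : ℕ, orderOf g = 2 ^ k) : CC 23 g := by
  obtain ⟨f⟩ := KFacts.Baby.RowB.exists_iso h
  have h1 : CC 23 (f.symm g) := two_model hO (by
    obtain ⟨k, hk⟩ := hg
    exact ⟨k, by rw [MulEquiv.orderOf_eq, hk]⟩)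
  have h2 := h1.map f
  rwa [f.apply_symm_apply] at h2

/-- **Every element commuting with a 2B involution.** -/
theorem cent_B (h : Spor.IsoB G) (hO : C23) : ∃ z : G, orderOf z = 2 ∧
    Nat.card (Subgroup.centralizer ({z} : Set G)) = 2 ^ 23 * 42305421312000 ∧
    ∀ g x : G, g * (x * z * x⁻¹) = (x * z * x⁻¹) * g → CC 23 g := by
  obtain ⟨f⟩ := KFacts.Baby.RowB.exists_iso h
  have := A.finite_G
  have hz : orderOf (zz A) = 2 := orderOf_eq_prime (by rw [pow_two]; exact z_sq A) (z_ne A)
  refine ⟨f (zz A), by rw [MulEquiv.orderOf_eq, hz], ?_, fun g x hg => ?_⟩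
  · have h1 : (Subgroup.centralizer ({zz A} : Set Inst.M.G)).map f.toMonoidHom =
        Subgroup.centralizer ({f (zz A)} : Set G) := by
      ext y
      rw [Subgroup.mem_map, Subgroup.mem_centralizer_singleton_iff]
      constructor
      · rintro ⟨x, hx, rfl⟩
        rw [Subgroup.mem_centralizer_singleton_iff] at hx
        show f x * f (zz A) = f (zz A) * f x
        rw [← map_mul, hx, map_mul]
      · intro hy
        refine ⟨f.symm y, Subgroup.mem_centralizer_singleton_iff.2 (f.injective ?_), f.apply_symm_apply y⟩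
        rw [map_mul, map_mul, f.apply_symm_apply, hy]
    rw [← h1, ← Nat.card_congr ((Subgroup.centralizer ({zz A} : Set Inst.M.G)).equivMapOfInjective _ f.injective).toEquiv,
      Nat.card_congr (KFacts.Baby.Inst.eC A).toEquiv, A.grp.card_C]
  · refine CC.of_conj (x := x⁻¹) ?_
    have hg' : (x⁻¹ * g * x⁻¹⁻¹) * f (zz A) = f (zz A) * (x⁻¹ * g * x⁻¹⁻¹) := by
      calc (x⁻¹ * g * x⁻¹⁻¹) * f (zz A) = x⁻¹ * (g * (x * f (zz A) * x⁻¹)) * x := by group
        _ = x⁻¹ * ((x * f (zz A) * x⁻¹) * g) * x := by rw [hg]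
        _ = f (zz A) * (x⁻¹ * g * x⁻¹⁻¹) := by group
    obtain ⟨k, hk⟩ : ∃ k, k = x⁻¹ * g * x⁻¹⁻¹ := ⟨_, rfl⟩
    rw [← hk] at hg' ⊢
    have h1 : CC 23 (f.symm k) := cent_model hO _ (f.injective (by
      rw [map_mul, map_mul, f.apply_symm_apply, hg']))
    have h2 := h1.map f
    rwa [f.apply_symm_apply] at h2

end

end Cfsg.Agent.H903.TC
end

-- part: H570/TC/Val
section
/-!
# S4173, row B: the values at the prime 23 (helper570)

`P` of order `p`, `C(P) = P × K`, `K = ⟨Z⟩` of order two, all elements of order `p` conjugate to `x` or `x⁻¹`.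

* `val` : `(‖χ x‖², W χ)` is `(0, 0)`, `(1, ± t)` or `((p - e) / t, ± 1)`;
* `zval` : the sum over `y Z` is `± ` the sum over `y`;
* `zdvd` : `p ∣ χ(Z) + e U`;
* `orth_fam` : column orthogonality for families.
-/

set_option autoImplicit false
set_option linter.unusedSectionVars false

open Cfsg Subgroup
open scoped ComplexConjugate

namespace Cfsg.Agent.H570.TC.Val

open Cfsg.Agent.Characters.Core
open Cfsg.Agent.SmallSimple.ThetaSetup Cfsg.Agent.SmallSimple.ThetaOrtho
open Cfsg.Agent.H653.Sieve Cfsg.Agent.H570.Ore.Blk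

universe u

/-- Parseval for a set of linear characters -/
theorem sum_sq_hom {P : Type u} [Group P] [Fintype P] (S : Finset (P →* ℂˣ)) :
    ∑ y : P, ‖∑ l ∈ S, ((l y : ℂˣ) : ℂ)‖ ^ 2 = (Fintype.card P : ℝ) * S.card := by
  classical
  have hconj : ∀ (l : P →* ℂˣ) (y : P), conj ((l y : ℂˣ) : ℂ) = (((l⁻¹ : P →* ℂˣ) y : ℂˣ) : ℂ) := by
    intro l x
    have h1 : ((l x : ℂˣ) : ℂ) ^ Nat.card P = 1 := by
      rw [← Units.val_pow_eq_pow_val, ← map_pow, pow_card_eq_one', map_one, Units.val_one]
    have h2 : ‖((l x : ℂˣ) : ℂ)‖ = 1 := Complex.norm_eq_one_of_pow_eq_one h1 Nat.card_pos.ne'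
    rw [MonoidHom.inv_apply, Units.val_inv_eq_inv_val, Complex.inv_def, Complex.normSq_eq_norm_sq, h2]
    simp
  have h0 : ((∑ y : P, ‖∑ l ∈ S, ((l y : ℂˣ) : ℂ)‖ ^ 2 : ℝ) : ℂ) = (((Fintype.card P : ℝ) * S.card : ℝ) : ℂ) := by
    push_cast
    have h1 : ∀ y : P, ((‖∑ l ∈ S, ((l y : ℂˣ) : ℂ)‖ : ℂ)) ^ 2 =
        ∑ l ∈ S, ∑ l' ∈ S, (((Units.coeHom ℂ).comp (l * l'⁻¹)) y : ℂ) := by
      intro y
      rw [← Complex.mul_conj', map_sum, Finset.sum_mul_sum]
      refine Finset.sum_congr rfl fun l _ => Finset.sum_congr rfl fun l' _ => ?_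
      rw [hconj]
      simp only [_root_.MonoidHom.inv_apply, _root_.Units.val_inv_eq_inv_val, _root_.MonoidHom.coe_comp, _root_.Function.comp_apply, _root_.MonoidHom.mul_apply, _root_.Units.coeHom_apply, _root_.Units.val_mul]
    rw [Finset.sum_congr rfl fun y _ => h1 y, Finset.sum_comm]
    have h2 : ∀ l ∈ S, ∑ y : P, ∑ l' ∈ S, (((Units.coeHom ℂ).comp (l * l'⁻¹)) y : ℂ) = (Fintype.card P : ℂ) := by
      intro l hl
      rw [Finset.sum_comm, Finset.sum_eq_single_of_mem l hl]
      · simp only [_root_.MonoidHom.coe_comp, _root_.Function.comp_apply, _root_.MonoidHom.mul_apply, _root_.MonoidHom.inv_apply, _root_.mul_inv_cancel, _root_.Units.coeHom_apply, _root_.Units.val_one, _root_.Finset.sum_const, _root_.Finset.card_univ, _root_.nsmul_eq_mul, _root_.mul_one]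
      · intro l' _ hne
        have h3 : (Units.coeHom ℂ).comp (l * l'⁻¹) ≠ 1 := by
          intro h4
          apply hne
          have h5 : l * l'⁻¹ = 1 := by
            ext y
            exact DFunLike.congr_fun h4 y
          exact (mul_inv_eq_one.1 h5).symm
        exact sum_hom_units_eq_zero _ h3
    rw [Finset.sum_congr rfl h2, Finset.sum_const, nsmul_eq_mul, mul_comm]
  exact_mod_cast h0

section Fam

variable {G : Type u} [Group G] [Finite G] [Fintype (IrrCharacter G)]

/-- column orthogonality for families -/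
theorem orth_fam {ι κ : Type*} [Fintype ι] [Fintype κ] {f : ι → G} {g : κ → G} (h : ∀ i j, ¬ IsConj (f i) (g j)) :
    ∑ χ : IrrCharacter G, (∑ i, (χ : G → ℂ) (f i)) * conj (∑ j, (χ : G → ℂ) (g j)) = 0 := by
  classical
  have := Fintype.ofFinite G
  have h1 : ∀ χ : IrrCharacter G, (∑ i, (χ : G → ℂ) (f i)) * conj (∑ j, (χ : G → ℂ) (g j)) =
      ∑ i, ∑ j, (χ : G → ℂ) (f i) * conj ((χ : G → ℂ) (g j)) := by
    intro χ
    rw [map_sum, Finset.sum_mul_sum]
  rw [Finset.sum_congr rfl fun χ _ => h1 χ, Finset.sum_comm, Finset.sum_eq_zero]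
  intro i _
  rw [Finset.sum_comm, Finset.sum_eq_zero]
  intro j _
  rw [S0145.sum_irr_mul_conj, if_neg (h i j)]

end Fam

variable {G : Type u} [Group G] [Finite G] {p : ℕ} [hp : Fact p.Prime] {P : Sylow p G} {K : Subgroup G}

/-- the sum over the nontrivial elements of `P`, times `z` -/
noncomputable def zsum (P : Subgroup G) (z : G) (χ : G → ℂ) : ℂ :=
  haveI := Fintype.ofFinite {y : P // y ≠ 1}
  ∑ y : {y : P // y ≠ 1}, χ ((y : P) * z)

theorem zsum_eq (P : Subgroup G) [Fintype {y : P // y ≠ 1}] (z : G) (χ : G → ℂ) :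
    zsum P z χ = ∑ y : {y : P // y ≠ 1}, χ ((y : P) * z) := by
  unfold zsum
  exact Finset.sum_congr (by ext; simp only [_root_.ne_eq, _root_.Finset.mem_univ]) fun _ _ => rfl

theorem split (P : Subgroup G) [Fintype P] [Fintype {y : P // y ≠ 1}] {M : Type*} [AddCommMonoid M] (F : P → M) :
    ∑ y : P, F y = F 1 + ∑ y : {y : P // y ≠ 1}, F y := by
  classical
  rw [← Finset.add_sum_erase Finset.univ _ (Finset.mem_univ (1 : P))]
  congr 1
  exact Finset.sum_subtype _ (by simp only [_root_.Finset.mem_erase, _root_.ne_eq, _root_.Finset.mem_univ, _root_.and_true, _root_.implies_true]) F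

theorem csum_eq_zsum (P : Subgroup G) (χ : G → ℂ) : csum P χ = zsum P 1 χ := by
  classical
  have := Fintype.ofFinite P
  rw [csum_eq, zsum_eq, split P (fun y => χ (y : G))]
  simp only [_root_.OneMemClass.coe_one, _root_.ne_eq, _root_.add_sub_cancel_left, _root_.mul_one]

theorem card_ne_one (P : Subgroup G) (hP : Nat.card P = p) [Fintype {y : P // y ≠ 1}] :
    Fintype.card {y : P // y ≠ 1} = p - 1 := by
  classical
  have : Fintype P := Fintype.ofFinite _
  have h1 : Fintype.card {y : P // y ≠ 1} = Fintype.card P - 1 := by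
    rw [Fintype.card_subtype_compl]
    simp only [_root_.Fintype.card_unique]
  rw [h1, ← Nat.card_eq_fintype_card, hP]

/-- **The values.** -/
theorem val (hK : IsComp p (P : Subgroup G) K) (hP : Nat.card P = p) (hK2 : Nat.card K ≤ 2) {e t : ℕ}
    (he : (centralizer ((P : Subgroup G) : Set G)).relIndex (normalizer ((P : Subgroup G) : Set G)) = e)
    (ht : e * t = p - 1) {x : G} (hx : orderOf x = p) (hPx : (P : Subgroup G) = zpowers x)
    (hcl : ∀ a : G, orderOf a = p → IsConj x a ∨ IsConj x⁻¹ a)
    (χ : IrrCharacter G) {w : ℤ} (hw : (e : ℂ) * w = csum (P : Subgroup G) (χ : G → ℂ)) :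
    (‖(χ : G → ℂ) x‖ ^ 2 = 0 ∧ w = 0) ∨ (‖(χ : G → ℂ) x‖ ^ 2 = 1 ∧ (w = t ∨ w = -t)) ∨
      ((t : ℝ) * ‖(χ : G → ℂ) x‖ ^ 2 = (p : ℝ) - e ∧ (w = 1 ∨ w = -1)) := by
  classical
  have : Fintype (P : Subgroup G) := Fintype.ofFinite _
  have hp1 := hp.out.one_lt
  have he0 : (e : ℂ) ≠ 0 := by
    intro h
    have h' : e = 0 := by exact_mod_cast h
    rw [h', zero_mul] at ht
    omega
  have hcard := card_ne_one (P : Subgroup G) hP
  rw [csum_eq_zsum, zsum_eq] at hw
  have hxP : x ∈ (P : Subgroup G) := by rw [hPx]; exact mem_zpowers x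
  have hx1 : (⟨x, hxP⟩ : (P : Subgroup G)) ≠ 1 := by
    intro h
    have : x = 1 := congrArg Subtype.val h
    rw [this, orderOf_one] at hx
    omega
  have hord : ∀ y : (P : Subgroup G), y ≠ 1 → orderOf (y : G) = p := fun y hy =>
    Blocks.CyclicOrtho.orderOf_eq P hP y.2 fun h => hy (Subtype.ext h)
  rcases cases hK hP hK2 he ht χ with h | ⟨θ, -, ⟨ε, hε, h⟩ | ⟨d, hd, S, hS, hS1, h⟩⟩
  · left
    have h1 : (χ : G → ℂ) x = 0 := h x (by rw [hx])
    refine ⟨by rw [h1]; simp, ?_⟩
    rw [Finset.sum_eq_zero] at hw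
    · rcases mul_eq_zero.1 hw with h2 | h2
      · exact absurd h2 he0
      · exact_mod_cast h2
    · intro y _
      rw [mul_one]
      exact h _ (by rw [hord y y.2])
  · right; left
    have h1 : (χ : G → ℂ) x = ε := h ⟨x, hxP⟩ hx1
    refine ⟨by rw [h1]; rcases hε with rfl | rfl <;> simp, ?_⟩
    rw [Finset.sum_congr rfl (g := fun _ => (ε : ℂ)) fun y _ => by rw [mul_one]; exact h y y.2, Finset.sum_const,
      Finset.card_univ, hcard, ← ht, nsmul_eq_mul] at hw
    have h2 : (w : ℂ) = ((t * ε : ℤ) : ℂ) := by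
      push_cast at hw ⊢
      have : (e : ℂ) * w = e * (t * ε) := by rw [hw]; ring
      exact mul_left_cancel₀ he0 this
    have h3 : w = t * ε := by exact_mod_cast h2
    rcases hε with rfl | rfl
    · left; rw [h3, mul_one]
    · right; rw [h3]; ring
  · right; right
    have hsum := SmallSimple.TheoremBCor.sum_exc_off (Q := (P : Subgroup G)) (f := fun y => (χ : G → ℂ) y)
      (d := d) hS1 h
    have hsq : ∀ y : (P : Subgroup G), y ≠ 1 → ‖(χ : G → ℂ) (y : G)‖ ^ 2 = ‖(χ : G → ℂ) x‖ ^ 2 := by
      intro y hy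
      rcases hcl y (hord y hy) with h1 | h1
      · obtain ⟨c, hc⟩ := isConj_iff.1 h1
        rw [← hc, isIrr_isClassFunction χ.2 x c]
      · obtain ⟨c, hc⟩ := isConj_iff.1 h1
        rw [← hc, isIrr_isClassFunction χ.2 x⁻¹ c, isCharacter_apply_inv (isIrr_isCharacter χ.2), Complex.norm_conj]
    constructor
    · have h1 := sum_sq_hom S
      rw [split (P : Subgroup G) (fun y => ‖∑ l ∈ S, ((l y : ℂˣ) : ℂ)‖ ^ 2)] at h1
      have h2 : ∀ y : {y : (P : Subgroup G) // y ≠ 1}, ‖∑ l ∈ S, ((l (y : (P : Subgroup G)) : ℂˣ) : ℂ)‖ ^ 2 = ‖(χ : G → ℂ) x‖ ^ 2 := by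
        intro y
        rw [← hsq y y.2, h y y.2, norm_mul]
        rcases hd with rfl | rfl <;> simp only [_root_.ne_eq, _root_.Int.cast_one, _root_.NormOneClass.norm_one, _root_.one_mul, _root_.Int.reduceNeg, _root_.Int.cast_neg, _root_.norm_neg]
      rw [Finset.sum_congr rfl fun y _ => h2 y, Finset.sum_const, Finset.card_univ, hcard, ← Nat.card_eq_fintype_card,
        hS] at h1
      have h3 : (Nat.card (P : Subgroup G) : ℝ) = p := by exact_mod_cast hP
      rw [h3, ← ht, nsmul_eq_mul] at h1
      simp only [map_one, Units.val_one, Finset.sum_const, hS, nsmul_eq_mul, mul_one, Complex.norm_natCast] at h1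
      push_cast at h1
      have he0' : (e : ℝ) ≠ 0 := by exact_mod_cast he0
      have h4 : (e : ℝ) * (t * ‖(χ : G → ℂ) x‖ ^ 2) = e * ((p : ℝ) - e) := by linear_combination h1
      exact mul_left_cancel₀ he0' h4
    · have h5 : ∑ y : {y : (P : Subgroup G) // y ≠ 1}, (χ : G → ℂ) ((y : (P : Subgroup G)) * 1) = -(d * S.card : ℂ) := by
        have h6 := split (P : Subgroup G) (fun y => (χ : G → ℂ) (y : G))
        rw [hsum] at h6
        simp only [mul_one]
        linear_combination -h6
      rw [h5, hS] at hw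
      have h8 : (w : ℂ) = ((-d : ℤ) : ℂ) := by
        push_cast
        have : (e : ℂ) * w = e * (-d) := by rw [hw]; ring
        exact mul_left_cancel₀ he0 this
      have h9 : w = -d := by exact_mod_cast h8
      rcases hd with rfl | rfl
      · right; exact h9
      · left; rw [h9]; norm_num

/-- the column of `y Z` -/
theorem zval (hK : IsComp p (P : Subgroup G) K) (hP : Nat.card P = p) (hK2 : Nat.card K = 2) {z : G} (hz : z ∈ K)
    (hp2 : p ≠ 2) {e t : ℕ}
    (he : (centralizer ((P : Subgroup G) : Set G)).relIndex (normalizer ((P : Subgroup G) : Set G)) = e)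
    (ht : e * t = p - 1) (χ : IrrCharacter G) :
    zsum (P : Subgroup G) z (χ : G → ℂ) = csum (P : Subgroup G) (χ : G → ℂ) ∨
      zsum (P : Subgroup G) z (χ : G → ℂ) = -csum (P : Subgroup G) (χ : G → ℂ) := by
  classical
  have : Fintype (P : Subgroup G) := Fintype.ofFinite _
  have hzz : (⟨z, hz⟩ : K) * ⟨z, hz⟩ = 1 := by
    have := pow_card_eq_one' (x := (⟨z, hz⟩ : K))
    rw [hK2, pow_two] at this
    exact this
  have hord : ∀ y : (P : Subgroup G), y ≠ 1 → orderOf (y : G) = p := fun y hy =>
    Blocks.CyclicOrtho.orderOf_eq P hP y.2 fun h => hy (Subtype.ext h)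
  rw [csum_eq_zsum, zsum_eq, zsum_eq]
  rcases cases hK hP hK2.le he ht χ with h | ⟨θ, hθ, -⟩
  · left
    refine Finset.sum_congr rfl fun y _ => ?_
    rw [mul_one, h (y : (P : Subgroup G)) (by rw [hord y y.2])]
    refine h _ ?_
    have hcm : Commute ((y : (P : Subgroup G)) : G) z := hK.comm (y : (P : Subgroup G)).2 hz
    have hoz : orderOf z ∣ 2 := by
      refine orderOf_dvd_of_pow_eq_one ?_
      rw [pow_two]
      exact congrArg Subtype.val hzz
    have hcop : (orderOf ((y : (P : Subgroup G)) : G)).Coprime (orderOf z) := by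
      rw [hord y y.2]
      exact Nat.Coprime.coprime_dvd_right hoz ((Nat.coprime_primes hp.out Nat.prime_two).2 hp2)
    rw [hcm.orderOf_mul_eq_mul_orderOf_of_coprime hcop, hord y y.2]
    exact dvd_mul_right _ _
  · rcases theta_invol hzz hK2.le θ with h1 | h1
    · left
      refine Finset.sum_congr rfl fun y _ => ?_
      rw [mul_one]
      have h2 := hθ y y.2 ⟨z, hz⟩
      rw [h1, mul_one] at h2
      exact h2
    · right
      rw [← Finset.sum_neg_distrib]
      refine Finset.sum_congr rfl fun y _ => ?_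
      rw [mul_one]
      have h2 := hθ y y.2 ⟨z, hz⟩
      rw [h1, mul_neg_one] at h2
      exact h2

/-- integrality -/
theorem zdvd (hK : IsComp p (P : Subgroup G) K) (hP : Nat.card P = p) (hK2 : Nat.card K = 2) {z : G}
    (hz : z ∈ K) (hz1 : z ≠ 1) (χ : IrrCharacter G) {c u : ℤ} {e : ℕ} (hc : (χ : G → ℂ) z = c)
    (hu : (e : ℂ) * u = zsum (P : Subgroup G) z (χ : G → ℂ)) : (p : ℤ) ∣ c + e * u := by
  classical
  have := Fintype.ofFinite (P : Subgroup G)
  have := Fintype.ofFinite K
  have hcomm : ∀ (x : (P : Subgroup G)) (k : K), Commute ((P : Subgroup G).subtype x) (K.subtype k) :=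
    fun x k => hK.comm x.2 k.2
  obtain ⟨m, hm⟩ := exists_sum_hom χ (((P : Subgroup G).subtype).noncommCoprod K.subtype hcomm)
  have huniv : (Finset.univ : Finset K) = {1, ⟨z, hz⟩} := by
    symm
    refine Finset.eq_univ_of_card _ ?_
    rw [Finset.card_pair (fun h => hz1 (congrArg Subtype.val h).symm), ← Nat.card_eq_fintype_card, hK2]
  have hsplit : ∑ x : Prod (P : Subgroup G) K, (χ : G → ℂ) ((((P : Subgroup G).subtype).noncommCoprod K.subtype hcomm) x) =
      ∑ x : (P : Subgroup G), (χ : G → ℂ) x + ∑ x : (P : Subgroup G), (χ : G → ℂ) (x * z) := by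
    rw [Fintype.sum_prod_type_right, huniv, Finset.sum_pair (fun h => hz1 (congrArg Subtype.val h).symm)]
    congr 1
    refine Finset.sum_congr rfl fun x _ => ?_
    simp only [MonoidHom.noncommCoprod_apply, _root_.MonoidHom.noncommCoprod_apply, _root_.Subgroup.subtype_apply, _root_.OneMemClass.coe_one, _root_.mul_one]
  rw [hsplit, Nat.card_prod, coe_P P hP, hK2] at hm
  obtain ⟨a, ha⟩ := exists_sum χ (P : Subgroup G)
  rw [coe_P P hP] at ha
  have hy' : ∑ x : (P : Subgroup G), (χ : G → ℂ) (x * z) = c + e * u := by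
    rw [split (P : Subgroup G) (fun y => (χ : G → ℂ) ((y : G) * z)), Subgroup.coe_one, one_mul, hc, hu, zsum_eq]
  rw [hy', ha] at hm
  refine ⟨2 * m - a, ?_⟩
  have h2 : ((c + e * u : ℤ) : ℂ) = ((p * (2 * m - a) : ℤ) : ℂ) := by
    push_cast
    push_cast at hm
    linear_combination hm
  exact_mod_cast h2

end Cfsg.Agent.H570.TC.Val
end

-- part: H903/TC/Cls
section
/-!
# Elements of prime order `r`, `r ∥ |G|`: two classes (S4173, helper903)

* `card_norm` : `|N(⟨x⟩)| = c * m` from `|C(x)| = c` and Sylow's congruence;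
* `two_classes` : every element of order `r` is conjugate to `x` or to `x⁻¹`, if `m` is a prime not dividing `c` and
  the elements of order `m` modulo `r`, with `-1`, generate everything (decidable).
-/

set_option autoImplicit false
set_option linter.unusedSectionVars false

namespace Cfsg.Agent.H903.TC.Cls

open Subgroup

variable {G : Type*} [Group G] [Finite G]

/-- the Sylow subgroup generated by `x` -/
theorem exists_syl {r N : ℕ} (hr : r.Prime) (hN : Nat.card G = N) (hsq : ¬ r ^ 2 ∣ N) {x : G} (hx : orderOf x = r) :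
    haveI := Fact.mk hr
    ∃ P : Sylow r G, (P : Subgroup G) = zpowers x := by
  have := Fact.mk hr
  have hpg : IsPGroup r (zpowers x) := IsPGroup.of_card (n := 1) (by rw [Nat.card_zpowers, hx, pow_one])
  have hidx : ¬ r ∣ (zpowers x).index := by
    intro h
    apply hsq
    rw [← hN, ← (zpowers x).card_mul_index, Nat.card_zpowers, hx, pow_two]
    exact Nat.mul_dvd_mul_left r h
  exact ⟨hpg.toSylow hidx, rfl⟩

theorem isConj_pow {r N : ℕ} (hr : r.Prime) (hN : Nat.card G = N) (hsq : ¬ r ^ 2 ∣ N) {x a : G} (hx : orderOf x = r)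
    (ha : orderOf a = r) : ∃ k : ℕ, 0 < k ∧ k < r ∧ IsConj (x ^ k) a := by
  have := Fact.mk hr
  obtain ⟨P, hP⟩ := exists_syl hr hN hsq hx
  obtain ⟨P', hP'⟩ := exists_syl hr hN hsq ha
  obtain ⟨g, hg⟩ := MulAction.exists_smul_eq G P P'
  have h1 : (P' : Subgroup G) = (P : Subgroup G).map (MulAut.conj g).toMonoidHom := by
    rw [← hg]
    rfl
  rw [hP, hP'] at h1
  have h2 : a ∈ (zpowers x).map (MulAut.conj g).toMonoidHom := by
    rw [← h1]
    exact mem_zpowers a
  obtain ⟨y, hy, hya⟩ := h2
  have hy' : y ∈ Submonoid.powers x := (isOfFinOrder_of_finite x).mem_powers_iff_mem_zpowers.2 hy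
  obtain ⟨k, rfl⟩ := hy'
  refine ⟨k % r, ?_, Nat.mod_lt _ hr.pos, ?_⟩
  · rcases Nat.eq_zero_or_pos (k % r) with h | h
    · exfalso
      have h3 : x ^ k = 1 := by rw [← orderOf_dvd_iff_pow_eq_one, hx]; exact Nat.dvd_of_mod_eq_zero h
      have h4 : a = 1 := by
        rw [← hya]
        show (MulAut.conj g).toMonoidHom (x ^ k) = 1
        rw [h3, map_one]
      rw [h4, orderOf_one] at ha
      exact hr.one_lt.ne ha
    · exact h
  · rw [← hx, pow_mod_orderOf]
    exact isConj_iff.2 ⟨g, hya⟩

/-- the order of the normaliser -/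
theorem card_norm {r N c m : ℕ} (hr : r.Prime) (hN : Nat.card G = N) (hsq : ¬ r ^ 2 ∣ N) {x : G} (hx : orderOf x = r)
    (hc : Nat.card (centralizer ({x} : Set G)) = c)
    (hnum : ∀ e < r, 0 < e → c * e ∣ N → N / (c * e) % r = 1 → e = m) :
    Nat.card (normalizer (zpowers x : Set G)) = c * m := by
  have := Fact.mk hr
  obtain ⟨P, hP⟩ := exists_syl hr hN hsq hx
  have hcent : centralizer (zpowers x : Set G) = centralizer ({x} : Set G) := by
    rw [zpowers_eq_closure, centralizer_closure]
  have hCM : centralizer (zpowers x : Set G) ≤ normalizer (zpowers x : Set G) := centralizer_le_normalizer _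
  obtain ⟨e, he⟩ : ∃ e, e = ((centralizer (zpowers x : Set G)).subgroupOf (normalizer (zpowers x : Set G))).index :=
    ⟨_, rfl⟩
  have hcard : Nat.card (normalizer (zpowers x : Set G)) = c * e := by
    have h1 := ((centralizer (zpowers x : Set G)).subgroupOf (normalizer (zpowers x : Set G))).card_mul_index
    rw [← he, Nat.card_congr (subgroupOfEquivOfLe hCM).toEquiv, hcent, hc] at h1
    exact h1.symm
  have he1 : e ∣ r - 1 := by
    have h1 : e = Nat.card (zpowers x).normalizerMonoidHom.range := by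
      rw [he, ← normalizerMonoidHom_ker, index_ker]
    rw [h1]
    refine (card_subgroup_dvd_card _).trans ?_
    rw [IsCyclic.card_mulAut, Nat.card_zpowers, hx, Nat.totient_prime hr]
  have hepos : 0 < e := Nat.pos_of_dvd_of_pos he1 (Nat.sub_pos_of_lt hr.one_lt)
  have helt : e < r := lt_of_le_of_lt (Nat.le_of_dvd (Nat.sub_pos_of_lt hr.one_lt) he1) (Nat.sub_lt hr.pos one_pos)
  have h2 : c * e ∣ N := by rw [← hcard, ← hN]; exact card_subgroup_dvd_card _
  have h3 : N / (c * e) % r = 1 := by
    have h4 := P.card_eq_index_normalizer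
    have h5 := card_sylow_modEq_one r G
    have hPs : ((P : Sylow r G) : Set G) = (zpowers x : Set G) := by rw [← hP]; rfl
    rw [h4, hPs] at h5
    have h6 := (normalizer (zpowers x : Set G)).card_mul_index
    rw [hcard, hN] at h6
    have h7 : N / (c * e) = (normalizer (zpowers x : Set G)).index := by
      rw [← h6]
      exact Nat.mul_div_cancel_left _ (Nat.pos_of_ne_zero (by
        intro h0
        rw [h0] at hcard
        exact (Nat.card_pos (α := normalizer (zpowers x : Set G))).ne' hcard))
    rw [h7]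
    have h8 : (normalizer (zpowers x : Set G)).index % r = 1 % r := h5
    rw [h8, Nat.mod_eq_of_lt hr.one_lt]
  rw [hcard, hnum e helt hepos h2 h3]

/-- the check of the hypothesis `hj` of `two_classes` -/
def chkJ (r m : ℕ) : Bool := (List.range r).all fun j => j == 1 || j ^ m % r != 1 ||
  (List.range r).all fun k => k == 0 || (List.range m).any fun i => j ^ i % r == k || (j ^ i + k) % r == 0

theorem hj_of {r m : ℕ} (h : chkJ r m = true) :
    ∀ j < r, j ≠ 1 → j ^ m % r = 1 → ∀ k < r, 0 < k → ∃ i < m, j ^ i % r = k ∨ (j ^ i + k) % r = 0 := by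
  intro j hj h1 h2 k hk h0
  unfold chkJ at h
  rw [List.all_eq_true] at h
  have h3 := h j (List.mem_range.2 hj)
  simp only [Bool.or_eq_true, beq_iff_eq, h1, false_or, bne_iff_ne, ne_eq, h2, not_true_eq_false] at h3
  rw [List.all_eq_true] at h3
  have h4 := h3 k (List.mem_range.2 hk)
  rw [Bool.or_eq_true, beq_iff_eq] at h4
  rcases h4 with h4 | h4
  · omega
  rw [List.any_eq_true] at h4
  obtain ⟨i, hi, h5⟩ := h4
  simp only [Bool.or_eq_true, beq_iff_eq] at h5
  exact ⟨i, List.mem_range.1 hi, h5⟩

/-- **Two classes.** -/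
theorem two_classes {r N c m : ℕ} (hr : r.Prime) (hm : m.Prime) (hN : Nat.card G = N) (hsq : ¬ r ^ 2 ∣ N) {x : G}
    (hx : orderOf x = r) (hc : Nat.card (centralizer ({x} : Set G)) = c) (hmc : ¬ m ∣ c)
    (hnum : ∀ e < r, 0 < e → c * e ∣ N → N / (c * e) % r = 1 → e = m)
    (hj : ∀ j < r, j ≠ 1 → j ^ m % r = 1 → ∀ k < r, 0 < k → ∃ i < m, j ^ i % r = k ∨ (j ^ i + k) % r = 0) {a : G}
    (ha : orderOf a = r) : IsConj x a ∨ IsConj x⁻¹ a := by
  have := Fact.mk hm
  have hcard := card_norm hr hN hsq hx hc hnum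
  obtain ⟨n, hn⟩ := exists_prime_orderOf_dvd_card' (G := normalizer (zpowers x : Set G)) m (by
    rw [hcard]; exact dvd_mul_left _ _)
  have hn' : orderOf (n : G) = m := by rw [orderOf_coe, hn]
  -- the action of `n`
  have h1 : (n : G) * x * (n : G)⁻¹ ∈ zpowers x := by
    have h2 := (mem_normalizer_iff.1 n.2 x).1 (mem_zpowers x)
    exact h2
  obtain ⟨j', hj'⟩ := (isOfFinOrder_of_finite x).mem_powers_iff_mem_zpowers.2 h1
  obtain ⟨j, hjdef⟩ : ∃ j, j = j' % r := ⟨_, rfl⟩
  have hjr : j < r := by rw [hjdef]; exact Nat.mod_lt _ hr.pos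
  have hxj : (n : G) * x * (n : G)⁻¹ = x ^ j := by
    rw [hjdef, ← hx, pow_mod_orderOf]
    exact hj'.symm
  have hpow : ∀ i : ℕ, (n : G) ^ i * x * ((n : G) ^ i)⁻¹ = x ^ (j ^ i) := by
    intro i
    induction i with
    | zero => simp
    | succ i ih =>
      have e : (n : G) ^ (i + 1) * x * ((n : G) ^ (i + 1))⁻¹ = n * ((n : G) ^ i * x * ((n : G) ^ i)⁻¹) * (n : G)⁻¹ := by
        rw [pow_succ']; group
      rw [e, ih]
      have e2 : (n : G) * x ^ (j ^ i) * (n : G)⁻¹ = ((n : G) * x * (n : G)⁻¹) ^ (j ^ i) := by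
        rw [conj_pow]
      rw [e2, hxj, ← pow_mul, pow_succ']
  have hjm : j ^ m % r = 1 := by
    have h3 := hpow m
    rw [← hn', pow_orderOf_eq_one, hn'] at h3
    have h4 : x ^ (j ^ m) = x ^ 1 := by rw [← h3]; simp
    rw [pow_inj_mod, hx] at h4
    rw [h4, Nat.mod_eq_of_lt hr.one_lt]
  have hj1 : j ≠ 1 := by
    rintro rfl
    rw [pow_one] at hxj
    have h3 : (n : G) ∈ centralizer ({x} : Set G) := by
      rw [mem_centralizer_singleton_iff]
      calc (n : G) * x = (n : G) * x * (n : G)⁻¹ * n := by group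
        _ = x * n := by rw [hxj]
    apply hmc
    rw [← hc, ← hn', ← orderOf_mk (n : G) h3]
    exact orderOf_dvd_natCard _
  obtain ⟨k, hk0, hkr, hk⟩ := isConj_pow hr hN hsq hx ha
  obtain ⟨i, -, hi⟩ := hj j hjr hj1 hjm k hkr hk0
  have hconj : IsConj x (x ^ (j ^ i)) := isConj_iff.2 ⟨_, hpow i⟩
  rcases hi with hi | hi
  · left
    refine hconj.trans ?_
    have h3 : x ^ (j ^ i) = x ^ k := by
      rw [pow_inj_mod, hx, hi, Nat.mod_eq_of_lt hkr]
    rw [h3]
    exact hk
  · right
    have h3 : (x ^ (j ^ i))⁻¹ = x ^ k := by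
      rw [inv_eq_iff_mul_eq_one, ← pow_add, ← orderOf_dvd_iff_pow_eq_one, hx]
      exact Nat.dvd_of_mod_eq_zero hi
    have h4 : IsConj x⁻¹ (x ^ (j ^ i))⁻¹ := by
      obtain ⟨g, hg⟩ := isConj_iff.1 hconj
      refine isConj_iff.2 ⟨g, ?_⟩
      rw [← hg]; group
    refine h4.trans ?_
    rw [h3]
    exact hk

end Cfsg.Agent.H903.TC.Cls
end

-- part: H570/TC/Abs
section
/-!
# S4173, row B: T1 at the pair (23, 23), from the local data (helper570)

* `mult` : at most 6 characters of degree 91884;
* `prd` : `|C(g)| ≤ 960000000` gives `g ∈ x^G (x⁻¹)^G`, `x` of order 23.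
-/

set_option autoImplicit false
set_option linter.unusedSectionVars false

open Cfsg Subgroup
open scoped ComplexConjugate

namespace Cfsg.Agent.H570.TC.Abs

open Cfsg.Agent.Characters.Core Cfsg.Agent.H570.Ore.Num
open Cfsg.Agent.SmallSimple.ThetaSetup
open Cfsg.Agent.H653.Sieve Cfsg.Agent.H570.TC.Val
open Cfsg.Agent.H570.Ore.Abs (Dt NB exists_blk res real31)

universe u

variable {G : Type u} [Group G] [Finite G] [IsSimpleGroup G] {Z : G}

/-- two classes of elements of order 23 -/
theorem classes (D : Dt G Z) {x : G} (hx : orderOf x = 23) (hc : Nat.card (centralizer ({x} : Set G)) = 46) {a : G}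
    (ha : orderOf a = 23) : IsConj x a ∨ IsConj x⁻¹ a := by
  refine H903.TC.Cls.two_classes (r := 23) (m := 11) (c := 46) (by norm_num) (by norm_num) D.card (by norm_num) hx
    hc (by norm_num) ?_ ?_ ha
  · decide +kernel
  · exact H903.TC.Cls.hj_of (by decide +kernel)

/-- `1` for the exceptional characters -/
def ex (w : ℤ) : ℤ := if w = 1 ∨ w = -1 then 1 else 0

/-- the data at 23 -/
structure Dat (Z x : G) (P : Sylow 23 G) (W U : IrrCharacter G → ℤ) : Prop where
  card : Nat.card P = 23
  col : IsCol (P : Subgroup G) 11 W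
  zcol : ∀ χ : IrrCharacter G, (11 : ℂ) * U χ = zsum (P : Subgroup G) Z (χ : G → ℂ)
  val : ∀ χ : IrrCharacter G, (‖(χ : G → ℂ) x‖ ^ 2 = 0 ∧ W χ = 0) ∨ (‖(χ : G → ℂ) x‖ ^ 2 = 1 ∧ (W χ = 2 ∨ W χ = -2)) ∨
    (‖(χ : G → ℂ) x‖ ^ 2 = 6 ∧ (W χ = 1 ∨ W χ = -1))
  zval : ∀ χ : IrrCharacter G, U χ = W χ ∨ U χ = -W χ
  zdvd : ∀ (χ : IrrCharacter G) (c : ℤ), (χ : G → ℂ) Z = c → (23 : ℤ) ∣ c + 11 * U χ
  comm : ∀ y ∈ (P : Subgroup G), y ≠ 1 → orderOf (y * Z) = 46

theorem exists_dat (D : Dt G Z) {x : G} (hx : orderOf x = 23) (hxZ : x * Z = Z * x)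
    (hc : Nat.card (centralizer ({x} : Set G)) = 46) :
    ∃ (P : Sylow 23 G) (W U : IrrCharacter G → ℤ), Dat Z x P W U ∧
      Nat.card (normalizer ((P : Subgroup G) : Set G)) = 23 * 11 * 2 := by
  have hF23 : Fact (Nat.Prime 23) := ⟨by norm_num⟩
  obtain ⟨P, K, hK, hP, hPx, hp2, ht, he, hKc⟩ := exists_blk D.nonab D.card hx (k := 2) (by rw [hc])
    11 2 [(0, 0), (1, 2), (22, -2), (11, -1), (12, 1)] 0 false (by decide +kernel)
  have hZo : orderOf Z = 2 := orderOf_eq_prime (by rw [pow_two]; exact D.Z_sq) D.Z_ne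
  have hZK : Z ∈ K := by
    rw [hK Z]
    refine ⟨?_, ?_⟩
    · rw [hPx, mem_centralizer_iff]
      rintro _ ⟨i, rfl⟩
      exact ((show Commute x Z from hxZ).zpow_left i).eq
    · rw [hZo]; norm_num
  have : Finite (IrrCharacter G) := finite_irr
  have := Fintype.ofFinite (IrrCharacter G)
  have hval := fun χ : IrrCharacter G => exists_value hK hP he ht χ
  choose W hW1 hW2 using hval
  have hz := fun χ : IrrCharacter G => Val.zval hK hP hKc hZK hp2 he ht χ
  have hU : ∀ χ : IrrCharacter G, ∃ u : ℤ, (11 : ℂ) * u = zsum (P : Subgroup G) Z (χ : G → ℂ) ∧ (u = W χ ∨ u = -W χ) := by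
    intro χ
    have h1 := hW1 χ
    rcases hz χ with h | h
    · refine ⟨W χ, ?_, Or.inl rfl⟩
      rw [h, ← h1]; norm_num
    · refine ⟨-W χ, ?_, Or.inr rfl⟩
      rw [h, ← h1]; push_cast; ring
  choose U hU1 hU2 using hU
  refine ⟨P, W, U, ⟨hP, hW1, hU1, ?_, hU2, ?_, ?_⟩, ?_⟩
  · intro χ
    have h1 := Val.val hK hP hKc.le he ht hx hPx (fun a ha => classes D hx hc ha) χ (hW1 χ)
    rcases h1 with h1 | ⟨h1, h2⟩ | ⟨h1, h2⟩
    · exact Or.inl h1
    · exact Or.inr (Or.inl ⟨h1, by exact_mod_cast h2⟩)
    · refine Or.inr (Or.inr ⟨?_, h2⟩)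
      push_cast at h1
      linarith only [h1]
  · intro χ c hc
    have h1 := Val.zdvd hK hP hKc hZK D.Z_ne χ (e := 11) (u := U χ) hc (by rw [← hU1 χ]; norm_num)
    exact_mod_cast h1
  · intro y hy hy1
    have hyo : orderOf y = 23 := Blocks.CyclicOrtho.orderOf_eq P hP hy hy1
    have hcm : Commute y Z := hK.comm hy hZK
    rw [hcm.orderOf_mul_eq_mul_orderOf_of_coprime (by rw [hyo, hZo]; norm_num), hyo, hZo]
  · have hle : centralizer ((P : Subgroup G) : Set G) ≤ normalizer ((P : Subgroup G) : Set G) :=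
      centralizer_le_normalizer _
    have h3 := Subgroup.index_mul_card ((centralizer ((P : Subgroup G) : Set G)).subgroupOf
      (normalizer ((P : Subgroup G) : Set G)))
    have hCP : Nat.card (centralizer ((P : Subgroup G) : Set G)) = 23 * 2 := by
      rw [SmallSimple.ThetaOrtho.card_centralizer hK hP, hKc]
    rw [Nat.card_congr (Subgroup.subgroupOfEquivOfLe hle).toEquiv, hCP] at h3
    have h4 : ((centralizer ((P : Subgroup G) : Set G)).subgroupOf (normalizer ((P : Subgroup G) : Set G))).index = 11 := he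
    rw [h4] at h3
    rw [← h3]

section Sums

variable [Fintype (IrrCharacter G)] {x : G} {P : Sylow 23 G} {W U : IrrCharacter G → ℤ}

/-- the residue -/
theorem Dat.dvd (H : Dat Z x P W U) (χ : IrrCharacter G) : (23 : ℤ) ∣ (charDegree (χ : G → ℂ) : ℤ) + 11 * W χ := by
  have h1 := H.col.dvd χ
  rw [show Nat.card (P : Subgroup G) = 23 from H.card] at h1
  exact_mod_cast h1

theorem Dat.sq (H : Dat Z x P W U) (hN : Nat.card (normalizer ((P : Subgroup G) : Set G)) = 23 * 11 * 2) :
    ∑ χ : IrrCharacter G, W χ * W χ = 92 := by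
  have hF23 : Fact (Nat.Prime 23) := ⟨by norm_num⟩
  have h1 := IsCol.sq (t := 2) (k := 2) H.card H.col hN (by norm_num)
  rw [h1]; norm_num

theorem not_conj {a b : G} (h : orderOf a ≠ orderOf b) : ¬ IsConj a b := by
  intro hab
  obtain ⟨c, rfl⟩ := isConj_iff.1 hab
  apply h
  exact ((MulAut.conj c).orderOf_eq a).symm

/-- orthogonality of `y` and `y Z` -/
theorem Dat.orth (H : Dat Z x P W U) : ∑ χ : IrrCharacter G, W χ * U χ = 0 := by
  classical
  have hF23 : Fact (Nat.Prime 23) := ⟨by norm_num⟩
  have := Fintype.ofFinite {y : (P : Subgroup G) // y ≠ 1}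
  have h1 := orth_fam (G := G) (f := fun y : {y : (P : Subgroup G) // y ≠ 1} => ((y : (P : Subgroup G)) : G) * 1)
    (g := fun y : {y : (P : Subgroup G) // y ≠ 1} => ((y : (P : Subgroup G)) : G) * Z) (by
      intro i j
      apply not_conj
      rw [mul_one, H.comm _ j.1.2 (fun h => j.2 (Subtype.ext h)),
        Blocks.CyclicOrtho.orderOf_eq P H.card i.1.2 (fun h => i.2 (Subtype.ext h))]
      norm_num)
  have h2 : ∀ χ : IrrCharacter G, (∑ y : {y : (P : Subgroup G) // y ≠ 1}, (χ : G → ℂ) (((y : (P : Subgroup G)) : G) * 1)) *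
      conj (∑ y : {y : (P : Subgroup G) // y ≠ 1}, (χ : G → ℂ) (((y : (P : Subgroup G)) : G) * Z)) =
      121 * ((W χ * U χ : ℤ) : ℂ) := by
    intro χ
    rw [← zsum_eq, ← zsum_eq, ← csum_eq_zsum, ← H.col χ, ← H.zcol χ, map_mul, map_ofNat (starRingEnd ℂ) 11, map_intCast]
    push_cast
    ring
  rw [Finset.sum_congr rfl fun χ _ => h2 χ, ← Finset.mul_sum, mul_eq_zero, ← Int.cast_sum] at h1
  rcases h1 with h1 | h1
  · norm_num at h1
  · exact_mod_cast h1

theorem Dat.orthq (H : Dat Z x P W U) {q : ℕ} [hq : Fact q.Prime] (hq23 : q ≠ 23) {Q : Sylow q G} (hQ : Nat.card Q = q)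
    {e : ℕ} (he : e ≠ 0) {V : IrrCharacter G → ℤ} (hV : IsCol (Q : Subgroup G) e V) :
    ∑ χ : IrrCharacter G, (W χ - U χ) * V χ = 0 := by
  classical
  have hF23 : Fact (Nat.Prime 23) := ⟨by norm_num⟩
  have hWV : ∑ χ : IrrCharacter G, W χ * V χ = 0 :=
    orth_of_ne (Ne.symm hq23) H.card hQ H.col hV (by norm_num) he
  have := Fintype.ofFinite {y : (P : Subgroup G) // y ≠ 1}
  have := Fintype.ofFinite {y : (Q : Subgroup G) // y ≠ 1}
  have h1 := orth_fam (G := G) (f := fun y : {y : (P : Subgroup G) // y ≠ 1} => ((y : (P : Subgroup G)) : G) * Z)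
    (g := fun y : {y : (Q : Subgroup G) // y ≠ 1} => ((y : (Q : Subgroup G)) : G) * 1) (by
      intro i j
      apply not_conj
      rw [mul_one, H.comm _ i.1.2 (fun h => i.2 (Subtype.ext h)),
        Blocks.CyclicOrtho.orderOf_eq Q hQ j.1.2 (fun h => j.2 (Subtype.ext h))]
      intro h
      rw [← h] at hq
      exact absurd hq.out (by norm_num))
  have h2 : ∀ χ : IrrCharacter G, (∑ y : {y : (P : Subgroup G) // y ≠ 1}, (χ : G → ℂ) (((y : (P : Subgroup G)) : G) * Z)) *
      conj (∑ y : {y : (Q : Subgroup G) // y ≠ 1}, (χ : G → ℂ) (((y : (Q : Subgroup G)) : G) * 1)) =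
      (11 * e : ℂ) * ((U χ * V χ : ℤ) : ℂ) := by
    intro χ
    rw [← zsum_eq, ← zsum_eq, ← csum_eq_zsum, ← hV χ, ← H.zcol χ]
    simp only [_root_.map_mul, _root_.map_natCast, _root_.map_intCast, _root_.Int.cast_mul]
    ring
  rw [Finset.sum_congr rfl fun χ _ => h2 χ, ← Finset.mul_sum, mul_eq_zero, ← Int.cast_sum] at h1
  have hUV : ∑ χ : IrrCharacter G, U χ * V χ = 0 := by
    rcases h1 with h1 | h1
    · exact absurd h1 (mul_ne_zero (by norm_num) (by exact_mod_cast he))
    · exact_mod_cast h1
  rw [Finset.sum_congr rfl fun χ _ => sub_mul (W χ) (U χ) (V χ), Finset.sum_sub_distrib, hWV, hUV, sub_zero]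

/-- four exceptional characters -/
theorem Dat.ex (H : Dat Z x P W U) (hN : Nat.card (normalizer ((P : Subgroup G) : Set G)) = 23 * 11 * 2)
    (hc : Nat.card (centralizer ({x} : Set G)) = 46) : ∑ χ : IrrCharacter G, ex (W χ) = 4 := by
  have h1 := H686.CharKit.sum_normSq x
  simp only [Complex.normSq_eq_norm_sq] at h1
  rw [hc] at h1
  have h2 := H.sq hN
  have h3 : ∀ χ : IrrCharacter G, (23 : ℝ) * (Abs.ex (W χ) : ℤ) = 4 * ‖(χ : G → ℂ) x‖ ^ 2 - ((W χ * W χ : ℤ) : ℝ) := by
    intro χ
    unfold Abs.ex
    rcases H.val χ with ⟨h, h'⟩ | ⟨h, h' | h'⟩ | ⟨h, h' | h'⟩ <;> rw [h, h'] <;> norm_num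
  have h4 : (23 : ℝ) * ((∑ χ : IrrCharacter G, Abs.ex (W χ) : ℤ) : ℝ) = 92 := by
    push_cast
    rw [Finset.mul_sum, Finset.sum_congr rfl fun χ _ => h3 χ, Finset.sum_sub_distrib, ← Finset.mul_sum, h1, ← Int.cast_sum, h2]
    norm_num
  have h5 : ((∑ χ : IrrCharacter G, Abs.ex (W χ) : ℤ) : ℝ) = ((4 : ℤ) : ℝ) := by
    push_cast at h4 ⊢
    linarith only [h4]
  exact_mod_cast h5

/-- the values for a character of degree 91884 -/
theorem Dat.deg_special (D : Dt G Z) (H : Dat Z x P W U) (χ : IrrCharacter G)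
    (h : charDegree (χ : G → ℂ) = 91884) (hχ : (χ : G → ℂ) ≠ 1) (hm23 : ∀ m : ℕ, (χ : G → ℂ) Z = ((91884 - 4096 * m : ℤ) : ℂ) →
      m % 23 = 0 ∨ m % 23 = 22) : W χ = -2 ∧ U χ = 2 := by
  have h1 := H.dvd χ
  rw [h] at h1
  have hW : W χ = -2 := by
    rcases H.val χ with ⟨-, h'⟩ | ⟨-, h' | h'⟩ | ⟨-, h' | h'⟩ <;> rw [h'] at h1 <;> first | exact h' | (exfalso; revert h1; norm_num)
  refine ⟨hW, ?_⟩
  obtain ⟨k, hk⟩ := D.ext χ
  have hk1 : 1 ≤ k := Ore.Ext.one_le hχ D.Z_ne (c := 4096) (by norm_num) (by rw [hk]; push_cast; ring)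
  have hp := D.pure χ k hk
  obtain ⟨m, rfl⟩ := Int.eq_ofNat_of_zero_le (by omega : 0 ≤ k)
  rw [h] at hk hp
  have h2 : (χ : G → ℂ) Z = ((91884 - 4096 * m : ℤ) : ℂ) := by rw [hk]; push_cast; ring
  have h3 := hm23 m h2
  have hm : m = 22 := by
    have h4 : 4032 * m ≤ 91884 := by exact_mod_cast hp
    have h5 : 1 ≤ m := by exact_mod_cast hk1
    omega
  rw [hm] at h2
  have h4 := H.zdvd χ _ h2
  rcases H.zval χ with h' | h'
  · rw [h', hW] at h4
    exfalso
    revert h4
    norm_num
  · rw [h', hW]; norm_num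

/-- **At most 6 characters of degree 91884.** -/
theorem mult (D : Dt G Z) (H : Dat Z x P W U) (hN : Nat.card (normalizer ((P : Subgroup G) : Set G)) = 23 * 11 * 2)
    (hc : Nat.card (centralizer ({x} : Set G)) = 46)
    (hm23 : ∀ χ : IrrCharacter G, charDegree (χ : G → ℂ) = 91884 → ∀ m : ℕ,
      (χ : G → ℂ) Z = ((91884 - 4096 * m : ℤ) : ℂ) → m % 23 = 0 ∨ m % 23 = 22) :
    ∑ χ : IrrCharacter G, (if charDegree (χ : G → ℂ) = 91884 then (1 : ℤ) else 0) ≤ 6 := by
  classical
  have hF47 : Fact (Nat.Prime 47) := ⟨by norm_num⟩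
  obtain ⟨x47, hx47, hc47⟩ := D.x47
  obtain ⟨Q, V, hQ, -, hV, hVok⟩ := exists_col D.nonab D.card hx47 (k := 1) (by rw [hc47])
    23 2 [(0, 0), (1, 2), (46, -2), (23, -1), (24, 1)] 2 true (by decide +kernel)
  have horth := H.orthq (by norm_num) hQ (by norm_num) hV
  have hsq := H.sq hN
  have hex := H.ex hN hc
  have hWU := H.orth
  have hwl : ∀ χ : IrrCharacter G, (charDegree (χ : G → ℂ) % 47, V χ) ∈ [(0, 0), (1, 2), (46, -2), (23, -1), (24, 1)] :=
    fun χ => hVok.1 χ
  -- pointwise
  have key : ∀ χ : IrrCharacter G, 32 * (if charDegree (χ : G → ℂ) = 91884 then (1 : ℤ) else 0) - 2 * ((W χ - U χ) * V χ) ≤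
      2 * (W χ * W χ) - 2 * (W χ * U χ) + 4 * ex (W χ) := by
    intro χ
    have h1 := hwl χ
    simp only [List.mem_cons, Prod.mk.injEq, List.not_mem_nil, or_false] at h1
    split_ifs with h
    · have hχ : (χ : G → ℂ) ≠ 1 := by
        intro h2
        have h3 : charDegree (χ : G → ℂ) = 1 := by
          unfold charDegree
          rw [h2]; simp
        omega
      obtain ⟨hW, hU⟩ := H.deg_special D χ h hχ (hm23 χ h)
      have hV2 : V χ = -2 := by
        rw [h] at h1
        rcases h1 with h1 | h1 | h1 | h1 | h1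
        · exact absurd h1.1 (by norm_num)
        · exact absurd h1.1 (by norm_num)
        · exact h1.2
        · exact absurd h1.1 (by norm_num)
        · exact absurd h1.1 (by norm_num)
      rw [hW, hU, hV2]
      unfold ex
      norm_num
    · have hV2 : V χ = 0 ∨ V χ = 2 ∨ V χ = -2 ∨ V χ = -1 ∨ V χ = 1 := by (clear * - h1; tauto)
      unfold ex
      rcases H.val χ with ⟨-, h'⟩ | ⟨-, h' | h'⟩ | ⟨-, h' | h'⟩ <;> rcases H.zval χ with h'' | h'' <;> rw [h'', h'] <;>
        rcases hV2 with h3 | h3 | h3 | h3 | h3 <;> rw [h3] <;> norm_num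
  have h1 := Finset.sum_le_sum fun χ (_ : χ ∈ (Finset.univ : Finset (IrrCharacter G))) => key χ
  rw [Finset.sum_sub_distrib, ← Finset.mul_sum, ← Finset.mul_sum, horth, Finset.sum_add_distrib, Finset.sum_sub_distrib,
    ← Finset.mul_sum, ← Finset.mul_sum, ← Finset.mul_sum, hsq, hWU, hex] at h1
  omega

end Sums

end Cfsg.Agent.H570.TC.Abs
end

-- part: H570/TC/Main
section
/-!
# S4173, row B: T1 at the pair (23, 23) (helper570)

* `fsum` : nonnegativity of the structure constants of two subgroups;
* `core` : `|C(g)| ≤ 960000000` gives `Prd x x⁻¹ g`.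
-/

set_option autoImplicit false
set_option linter.unusedSectionVars false

open Cfsg Subgroup
open scoped ComplexConjugate

namespace Cfsg.Agent.H570.TC.Main

open Cfsg.Agent.Characters.Core Cfsg.Agent.H570.Ore.Num
open Cfsg.Agent.H653.Sieve Cfsg.Agent.H570.TC.Val Cfsg.Agent.H570.TC.Abs
open Cfsg.Agent.H570.Ore.Abs (Dt NB exists_blk res real31)

universe u

variable {G : Type u} [Group G] [Finite G] [Fintype (IrrCharacter G)]

/-- the structure constants of two subgroups -/
theorem fsum (H H' : Subgroup G) (g : G) : ∃ r : ℝ, 0 ≤ r ∧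
    ∑ χ : IrrCharacter G, csum H (χ : G → ℂ) * csum H' (χ : G → ℂ) * (conj ((χ : G → ℂ) g) / (χ : G → ℂ) 1) = r := by
  classical
  have := Fintype.ofFinite H
  have := Fintype.ofFinite H'
  have hG : (Nat.card G : ℂ) ≠ 0 := by exact_mod_cast Nat.card_pos.ne'
  refine ⟨∑ a ∈ (Finset.univ : Finset H).erase 1, ∑ b ∈ (Finset.univ : Finset H').erase 1,
    (Nat.card {p : G × G // p.1 * (a : G) * p.1⁻¹ * (p.2 * (b : G) * p.2⁻¹) = g} : ℝ) / Nat.card G,
    Finset.sum_nonneg fun _ _ => Finset.sum_nonneg fun _ _ => by positivity, ?_⟩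
  have h1 : ∀ χ : IrrCharacter G, csum H (χ : G → ℂ) * csum H' (χ : G → ℂ) * (conj ((χ : G → ℂ) g) / (χ : G → ℂ) 1) =
      ∑ a ∈ (Finset.univ : Finset H).erase 1, ∑ b ∈ (Finset.univ : Finset H').erase 1,
        (χ : G → ℂ) a * (χ : G → ℂ) b * conj ((χ : G → ℂ) g) / (χ : G → ℂ) 1 := by
    intro χ
    rw [csum_eq_erase, csum_eq_erase, Finset.sum_mul_sum, Finset.sum_mul]
    refine Finset.sum_congr rfl fun a _ => ?_
    rw [Finset.sum_mul]
    exact Finset.sum_congr rfl fun b _ => by ring
  rw [Finset.sum_congr rfl fun χ _ => h1 χ, Finset.sum_comm]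
  push_cast
  refine Finset.sum_congr rfl fun a _ => ?_
  rw [Finset.sum_comm]
  refine Finset.sum_congr rfl fun b _ => ?_
  rw [Characters.ClassMul.card_conj_mul_conj (a : G) (b : G) g, mul_div_cancel_left₀ _ hG]

variable [IsSimpleGroup G] {Z x : G} {P : Sylow 23 G} {W U : IrrCharacter G → ℤ}

theorem core (D : Dt G Z) (H : Dat Z x P W U) (hN : Nat.card (normalizer ((P : Subgroup G) : Set G)) = 23 * 11 * 2)
    (hc : Nat.card (centralizer ({x} : Set G)) = 46)
    (hm6 : ∑ χ : IrrCharacter G, (if charDegree (χ : G → ℂ) = 91884 then (1 : ℤ) else 0) ≤ 6)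
    (hdN : ∀ χ : IrrCharacter G, (χ : G → ℂ) ≠ 1 → charDegree (χ : G → ℂ) ≠ 4371 → charDegree (χ : G → ℂ) ≠ 91884 →
      (r2 23 1 (charDegree (χ : G → ℂ)) = true → 1411833 ≤ charDegree (χ : G → ℂ)) ∧
      (r2 23 11 (charDegree (χ : G → ℂ)) = true → 2159274 ≤ charDegree (χ : G → ℂ)))
    {g : G} (hg : Nat.card (centralizer ({g} : Set G)) ≤ 960000000) : H65.Ore.Prd x x⁻¹ g := by
  classical
  have hF23 : Fact (Nat.Prime 23) := ⟨by norm_num⟩
  have hF17 : Fact (Nat.Prime 17) := ⟨by norm_num⟩
  obtain ⟨x17, hx17, hc17⟩ := D.x17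
  obtain ⟨Q, V, hQ, -, hV, hVok⟩ := exists_col D.nonab D.card hx17 (k := 4) (by rw [hc17])
    16 1 [(0, 0), (1, 1), (16, -1), (2, 2), (15, -2)] 0 false (by decide +kernel)
  have hwl : ∀ χ : IrrCharacter G, (charDegree (χ : G → ℂ) % 17, V χ) ∈ [(0, 0), (1, 1), (16, -1), (2, 2), (15, -2)] :=
    fun χ => hVok.1 χ
  have hsq := H.sq hN
  have hex := H.ex hN hc
  by_contra hno
  -- the ratio
  set R : IrrCharacter G → ℝ := fun χ => (conj ((χ : G → ℂ) g) / (χ : G → ℂ) 1).re with hR
  have hdpos : ∀ χ : IrrCharacter G, (0 : ℝ) < charDegree (χ : G → ℂ) := fun χ => by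
    exact_mod_cast H686.CharKit.charDegree_pos χ
  have hdeg : ∀ χ : IrrCharacter G, (χ : G → ℂ) 1 = (charDegree (χ : G → ℂ) : ℂ) := fun χ => Blocks.Knorr.charDegree_eq χ.2
  -- S1
  have hS1 : ∑ χ : IrrCharacter G, ‖(χ : G → ℂ) x‖ ^ 2 * R χ = 0 := by
    have h1 : ∑ χ : IrrCharacter G, (χ : G → ℂ) x * (χ : G → ℂ) x⁻¹ * conj ((χ : G → ℂ) g) / (χ : G → ℂ) 1 = 0 := by
      by_contra h
      exact hno (H65.Ore.prd_of_ne_zero h)
    have h2 : ∀ χ : IrrCharacter G, (χ : G → ℂ) x * (χ : G → ℂ) x⁻¹ * conj ((χ : G → ℂ) g) / (χ : G → ℂ) 1 =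
        ((‖(χ : G → ℂ) x‖ ^ 2 : ℝ) : ℂ) * (conj ((χ : G → ℂ) g) / (χ : G → ℂ) 1) := by
      intro χ
      rw [isCharacter_apply_inv (isIrr_isCharacter χ.2), Complex.mul_conj']
      push_cast
      ring
    have h3 := congrArg Complex.re h1
    rw [Finset.sum_congr rfl fun χ _ => h2 χ, Complex.re_sum, Complex.zero_re] at h3
    rw [← h3]
    exact Finset.sum_congr rfl fun χ _ => (Complex.re_ofReal_mul _ _).symm
  -- S2
  have hS2 : 0 ≤ ∑ χ : IrrCharacter G, ((W χ * V χ : ℤ) : ℝ) * R χ := by
    obtain ⟨r, hr0, hr⟩ := fsum (P : Subgroup G) (Q : Subgroup G) g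
    have h2 : ∀ χ : IrrCharacter G, csum (P : Subgroup G) (χ : G → ℂ) * csum (Q : Subgroup G) (χ : G → ℂ) *
        (conj ((χ : G → ℂ) g) / (χ : G → ℂ) 1) =
        ((176 * ((W χ * V χ : ℤ) : ℝ) : ℝ) : ℂ) * (conj ((χ : G → ℂ) g) / (χ : G → ℂ) 1) := by
      intro χ
      rw [← H.col χ, ← hV χ]
      push_cast
      ring
    have h3 := congrArg Complex.re hr
    rw [Finset.sum_congr rfl fun χ _ => h2 χ, Complex.re_sum, Complex.ofReal_re] at h3
    have h4 : ∑ χ : IrrCharacter G, (((176 * ((W χ * V χ : ℤ) : ℝ) : ℝ) : ℂ) * (conj ((χ : G → ℂ) g) / (χ : G → ℂ) 1)).re =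
        176 * ∑ χ : IrrCharacter G, ((W χ * V χ : ℤ) : ℝ) * R χ := by
      rw [Finset.mul_sum]
      refine Finset.sum_congr rfl fun χ _ => ?_
      rw [Complex.re_ofReal_mul]
      ring
    rw [h4] at h3
    linarith only [hr0, h3]
  -- the coefficient
  set c : IrrCharacter G → ℝ := fun χ => ((W χ * V χ : ℤ) : ℝ) - 4 * ‖(χ : G → ℂ) x‖ ^ 2 with hcdef
  have hS : 0 ≤ ∑ χ : IrrCharacter G, c χ * R χ := by
    have h1 : ∑ χ : IrrCharacter G, c χ * R χ = ∑ χ : IrrCharacter G, ((W χ * V χ : ℤ) : ℝ) * R χ -
        4 * ∑ χ : IrrCharacter G, ‖(χ : G → ℂ) x‖ ^ 2 * R χ := by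
      rw [Finset.mul_sum, ← Finset.sum_sub_distrib]
      exact Finset.sum_congr rfl fun χ _ => by rw [hcdef]; ring
    rw [h1, hS1]
    linarith only [hS2]
  -- the trivial character
  have hone : c (H65.Ore.one1 G) * R (H65.Ore.one1 G) = -2 := by
    have h1 : W (H65.Ore.one1 G) = 2 := by
      have := H.col.one (t := 2) (by norm_num) (by rw [show Nat.card (P : Subgroup G) = 23 from H.card]) (χ := H65.Ore.one1 G) rfl
      exact_mod_cast this
    have h2 : V (H65.Ore.one1 G) = 1 := by
      have := hV.one (t := 1) (by norm_num) (by rw [show Nat.card (Q : Subgroup G) = 17 from hQ]) (χ := H65.Ore.one1 G) rfl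
      exact_mod_cast this
    have h3 : R (H65.Ore.one1 G) = 1 := by
      rw [hR]
      simp [H65.Ore.one1_apply]
    rw [h3, hcdef]
    simp only [h1, h2, H65.Ore.one1_apply]
    norm_num
  rw [← Finset.add_sum_erase Finset.univ _ (Finset.mem_univ (H65.Ore.one1 G)), hone] at hS
  -- Cauchy-Schwarz
  have hCS := Finset.sum_mul_sq_le_sq_mul_sq (Finset.univ.erase (H65.Ore.one1 G))
    (fun χ : IrrCharacter G => |c χ| / charDegree (χ : G → ℂ)) (fun χ : IrrCharacter G => ‖(χ : G → ℂ) g‖)
  rw [H65.Ore.sum_erase_sq] at hCS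
  have hle : ∑ χ ∈ Finset.univ.erase (H65.Ore.one1 G), c χ * R χ ≤
      ∑ χ ∈ Finset.univ.erase (H65.Ore.one1 G), |c χ| / charDegree (χ : G → ℂ) * ‖(χ : G → ℂ) g‖ := by
    refine Finset.sum_le_sum fun χ _ => ?_
    have h1 : |R χ| ≤ ‖(χ : G → ℂ) g‖ / charDegree (χ : G → ℂ) := by
      refine (Complex.abs_re_le_norm _).trans ?_
      rw [norm_div, Complex.norm_conj, hdeg, Complex.norm_natCast]
    calc c χ * R χ ≤ |c χ * R χ| := le_abs_self _
      _ = |c χ| * |R χ| := abs_mul _ _
      _ ≤ |c χ| * (‖(χ : G → ℂ) g‖ / charDegree (χ : G → ℂ)) := mul_le_mul_of_nonneg_left h1 (abs_nonneg _)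
      _ = |c χ| / charDegree (χ : G → ℂ) * ‖(χ : G → ℂ) g‖ := by ring
  -- the energy
  have hen : ∀ χ ∈ Finset.univ.erase (H65.Ore.one1 G), (|c χ| / charDegree (χ : G → ℂ)) ^ 2 ≤
      4 / 91884 ^ 2 * ((if charDegree (χ : G → ℂ) = 91884 then (1 : ℤ) else 0 : ℤ) : ℝ) +
        16 / 1411833 ^ 2 * ((W χ * W χ : ℤ) : ℝ) + 676 / 2159274 ^ 2 * ((ex (W χ) : ℤ) : ℝ) := by
    intro χ hχ
    have hχ1 : (χ : G → ℂ) ≠ 1 := H65.Ore.coe_ne_one (Finset.ne_of_mem_erase hχ)
    have hex0 : (0 : ℝ) ≤ ((ex (W χ) : ℤ) : ℝ) := by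
      unfold ex; split_ifs <;> norm_num
    have hW0 : (0 : ℝ) ≤ ((W χ * W χ : ℤ) : ℝ) := by exact_mod_cast mul_self_nonneg (W χ)
    have hdv := H.dvd χ
    have h1 := hwl χ
    simp only [List.mem_cons, Prod.mk.injEq, List.not_mem_nil, or_false] at h1
    have hd0 := hdpos χ
    rw [div_pow, sq_abs, div_le_iff₀ (by (clear * - hd0; positivity))]
    by_cases h4371 : charDegree (χ : G → ℂ) = 4371
    · -- the coefficient vanishes
      have hW : W χ = 2 := by
        rw [h4371] at hdv
        rcases H.val χ with ⟨-, h'⟩ | ⟨-, h' | h'⟩ | ⟨-, h' | h'⟩ <;> rw [h'] at hdv <;>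
          first | exact h' | (exfalso; revert hdv; norm_num)
      have hV2 : V χ = 2 := by
        rw [h4371] at h1
        rcases h1 with h1 | h1 | h1 | h1 | h1
        · exact absurd h1.1 (by norm_num)
        · exact absurd h1.1 (by norm_num)
        · exact absurd h1.1 (by norm_num)
        · exact h1.2
        · exact absurd h1.1 (by norm_num)
      have hx : ‖(χ : G → ℂ) x‖ ^ 2 = 1 := by
        rcases H.val χ with ⟨-, h'⟩ | ⟨h, -⟩ | ⟨-, h' | h'⟩
        · rw [hW] at h'; norm_num at h'
        · exact h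
        · rw [hW] at h'; norm_num at h'
        · rw [hW] at h'; norm_num at h'
      have hc0 : c χ = 0 := by
        rw [hcdef]
        simp only [hW, hV2, hx]
        norm_num
      rw [hc0, if_neg (by rw [h4371]; norm_num), zero_pow two_ne_zero]
      have e0 : (0 : ℝ) ≤ ((0 : ℤ) : ℝ) := by norm_num
      (clear * - hex0 hW; positivity)
    by_cases h91884 : charDegree (χ : G → ℂ) = 91884
    · have hW : W χ = -2 := by
        rw [h91884] at hdv
        rcases H.val χ with ⟨-, h'⟩ | ⟨-, h' | h'⟩ | ⟨-, h' | h'⟩ <;> rw [h'] at hdv <;>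
          first | exact h' | (exfalso; revert hdv; norm_num)
      have hV2 : V χ = -1 := by
        rw [h91884] at h1
        rcases h1 with h1 | h1 | h1 | h1 | h1
        · exact absurd h1.1 (by norm_num)
        · exact absurd h1.1 (by norm_num)
        · exact h1.2
        · exact absurd h1.1 (by norm_num)
        · exact absurd h1.1 (by norm_num)
      have hx : ‖(χ : G → ℂ) x‖ ^ 2 = 1 := by
        rcases H.val χ with ⟨-, h'⟩ | ⟨h, -⟩ | ⟨-, h' | h'⟩
        · rw [hW] at h'; norm_num at h'
        · exact h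
        · rw [hW] at h'; norm_num at h'
        · rw [hW] at h'; norm_num at h'
      have hc0 : c χ = -2 := by
        rw [hcdef]
        simp only [hW, hV2, hx]
        norm_num
      rw [hc0, h91884, if_pos rfl]
      have h5 : (0 : ℝ) ≤ 16 / 1411833 ^ 2 * ((W χ * W χ : ℤ) : ℝ) + 676 / 2159274 ^ 2 * ((ex (W χ) : ℤ) : ℝ) := by (clear * - hex0 hW0; positivity)
      push_cast at h5 ⊢
      linarith only [hex0, _root_.mul_self_nonneg (1 * ↑(W χ) : ℝ)]
    obtain ⟨hN1, hX1⟩ := hdN χ hχ1 h4371 h91884
    rw [if_neg h91884]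
    have hV2 : (V χ : ℝ) ≤ 2 ∧ -2 ≤ (V χ : ℝ) := by
      rcases h1 with h1 | h1 | h1 | h1 | h1 <;> rw [h1.2] <;> norm_num
    rcases H.val χ with ⟨h, h'⟩ | ⟨h, h'⟩ | ⟨h, h'⟩
    · have hc0 : c χ = 0 := by
        rw [hcdef]
        simp only [h, h']
        norm_num
      rw [hc0, zero_pow two_ne_zero]
      have e0 : (0 : ℝ) ≤ ((0 : ℤ) : ℝ) := by norm_num
      (clear * - hex0 h'; positivity)
    · -- non-exceptional
      have hd : (1411833 : ℝ) ≤ charDegree (χ : G → ℂ) := by
        have h6 : 1411833 ≤ charDegree (χ : G → ℂ) := by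
          refine hN1 (r2_spec.1 ?_)
          rcases h' with h' | h' <;> rw [h'] at hdv
          · left; omega
          · right; omega
        exact_mod_cast h6
      have hcb : (c χ) ^ 2 ≤ 64 := by
        rw [hcdef]
        simp only [h]
        rcases h' with h' | h' <;> rw [h'] <;> push_cast <;> nlinarith only [hV2.1, hV2.2]
      have hWW : ((W χ * W χ : ℤ) : ℝ) = 4 := by
        rcases h' with h' | h' <;> rw [h'] <;> norm_num
      have hx0 : ((ex (W χ) : ℤ) : ℝ) = 0 := by
        unfold ex
        rcases h' with h' | h' <;> rw [h'] <;> norm_num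
      rw [hWW, hx0]
      have h7 : (1411833 : ℝ) ^ 2 ≤ (charDegree (χ : G → ℂ) : ℝ) ^ 2 := pow_le_pow_left₀ (by norm_num) hd 2
      push_cast
      linarith only [hcb, h7]
    · -- exceptional
      have hd : (2159274 : ℝ) ≤ charDegree (χ : G → ℂ) := by
        have h6 : 2159274 ≤ charDegree (χ : G → ℂ) := by
          refine hX1 (r2_spec.1 ?_)
          rcases h' with h' | h' <;> rw [h'] at hdv
          · right; omega
          · left; omega
        exact_mod_cast h6
      have hcb : (c χ) ^ 2 ≤ 676 := by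
        rw [hcdef]
        simp only [h]
        rcases h' with h' | h' <;> rw [h'] <;> push_cast <;> nlinarith only [hV2.1, hV2.2]
      have hx0 : ((ex (W χ) : ℤ) : ℝ) = 1 := by
        unfold ex
        rcases h' with h' | h' <;> rw [h'] <;> norm_num
      rw [hx0]
      have h7 : (2159274 : ℝ) ^ 2 ≤ (charDegree (χ : G → ℂ) : ℝ) ^ 2 := pow_le_pow_left₀ (by norm_num) hd 2
      have h8 : (0 : ℝ) ≤ 16 / 1411833 ^ 2 * ((W χ * W χ : ℤ) : ℝ) * (charDegree (χ : G → ℂ) : ℝ) ^ 2 := by (clear * - hW0; positivity)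
      have h9 : 676 ≤ 676 / 2159274 ^ 2 * (1 : ℝ) * (charDegree (χ : G → ℂ) : ℝ) ^ 2 := by
        have : (676 : ℝ) = 676 / 2159274 ^ 2 * 1 * 2159274 ^ 2 := by norm_num
        calc (676 : ℝ) = 676 / 2159274 ^ 2 * 1 * 2159274 ^ 2 := this
          _ ≤ _ := mul_le_mul_of_nonneg_left h7 (by norm_num)
      push_cast at h8 ⊢
      linarith only [hcb, h7, h8]
  have hE := Finset.sum_le_sum hen
  have hE2 : ∑ χ ∈ Finset.univ.erase (H65.Ore.one1 G), (4 / 91884 ^ 2 *
      ((if charDegree (χ : G → ℂ) = 91884 then (1 : ℤ) else 0 : ℤ) : ℝ) +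
        16 / 1411833 ^ 2 * ((W χ * W χ : ℤ) : ℝ) + 676 / 2159274 ^ 2 * ((ex (W χ) : ℤ) : ℝ)) ≤
      24 / 91884 ^ 2 + 1472 / 1411833 ^ 2 + 2704 / 2159274 ^ 2 := by
    have h1 : ∑ χ ∈ Finset.univ.erase (H65.Ore.one1 G), (4 / 91884 ^ 2 *
        ((if charDegree (χ : G → ℂ) = 91884 then (1 : ℤ) else 0 : ℤ) : ℝ) +
          16 / 1411833 ^ 2 * ((W χ * W χ : ℤ) : ℝ) + 676 / 2159274 ^ 2 * ((ex (W χ) : ℤ) : ℝ)) ≤
        ∑ χ : IrrCharacter G, (4 / 91884 ^ 2 *
        ((if charDegree (χ : G → ℂ) = 91884 then (1 : ℤ) else 0 : ℤ) : ℝ) +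
          16 / 1411833 ^ 2 * ((W χ * W χ : ℤ) : ℝ) + 676 / 2159274 ^ 2 * ((ex (W χ) : ℤ) : ℝ)) := by
      refine Finset.sum_le_sum_of_subset_of_nonneg (Finset.erase_subset _ _) fun χ _ _ => ?_
      have e1 : (0 : ℝ) ≤ ((if charDegree (χ : G → ℂ) = 91884 then (1 : ℤ) else 0 : ℤ) : ℝ) := by
        split_ifs <;> norm_num
      have e2 : (0 : ℝ) ≤ ((ex (W χ) : ℤ) : ℝ) := by
        unfold ex; split_ifs <;> norm_num
      have e3 : (0 : ℝ) ≤ ((W χ * W χ : ℤ) : ℝ) := by exact_mod_cast mul_self_nonneg (W χ)
      (clear * - e2 e3; positivity)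
    refine h1.trans ?_
    rw [Finset.sum_add_distrib, Finset.sum_add_distrib, ← Finset.mul_sum, ← Finset.mul_sum, ← Finset.mul_sum,
      ← Int.cast_sum, ← Int.cast_sum, ← Int.cast_sum, hsq, hex]
    have h6 : ((∑ χ : IrrCharacter G, (if charDegree (χ : G → ℂ) = 91884 then (1 : ℤ) else 0) : ℤ) : ℝ) ≤ 6 := by
      exact_mod_cast hm6
    push_cast at h6 ⊢
    linarith only [h6]
  have hgR : (Nat.card (centralizer ({g} : Set G)) : ℝ) - 1 ≤ 960000000 := by
    have : (Nat.card (centralizer ({g} : Set G)) : ℝ) ≤ 960000000 := by exact_mod_cast hg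
    linarith only [this]
  have hg0 : (0 : ℝ) ≤ (Nat.card (centralizer ({g} : Set G)) : ℝ) - 1 := by
    have : 1 ≤ Nat.card (centralizer ({g} : Set G)) := Nat.card_pos
    have : (1 : ℝ) ≤ (Nat.card (centralizer ({g} : Set G)) : ℝ) := by exact_mod_cast this
    linarith only [this]
  have hE3 := hE.trans hE2
  have h4 : (4 : ℝ) ≤ (∑ χ ∈ Finset.univ.erase (H65.Ore.one1 G), |c χ| / charDegree (χ : G → ℂ) * ‖(χ : G → ℂ) g‖) ^ 2 := by
    have h5 : (2 : ℝ) ≤ ∑ χ ∈ Finset.univ.erase (H65.Ore.one1 G), |c χ| / charDegree (χ : G → ℂ) * ‖(χ : G → ℂ) g‖ := by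
      linarith only [hS, hle]
    have h6 := pow_le_pow_left₀ (by norm_num) h5 2
    linarith only [h6]
  have h5 := h4.trans hCS
  have h6 : (∑ χ ∈ Finset.univ.erase (H65.Ore.one1 G), (|c χ| / charDegree (χ : G → ℂ)) ^ 2) *
      ((Nat.card (centralizer ({g} : Set G)) : ℝ) - 1) ≤
      (24 / 91884 ^ 2 + 1472 / 1411833 ^ 2 + 2704 / 2159274 ^ 2) * 960000000 :=
    mul_le_mul hE3 hgR hg0 (by norm_num)
  have h7 := h5.trans h6
  norm_num at h7

end Cfsg.Agent.H570.TC.Main
end

-- part: H570/TC/Deg
section
/-!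
# S4173, row B: the degrees (helper570)

* `real47` : the characters `χ(1) ≡ ± 23 (47)` are real off the elements of order divisible by 47;
* `degs` : `χ(1) ≥ 1411833`, resp. `2159274`.
-/

set_option autoImplicit false

open Cfsg Subgroup
open scoped ComplexConjugate

namespace Cfsg.Agent.H570.TC.Deg

open Cfsg.Agent.Characters.Core Cfsg.Agent.H570.Ore.Num Cfsg.Agent.H570.Ore
open Cfsg.Agent.SmallSimple.ThetaSetup Cfsg.Agent.SmallSimple.PrimeLocal
open Cfsg.Agent.H653.Sieve Cfsg.Agent.H651.Two
open Cfsg.Agent.H570.Ore.Abs (Dt NB exists_blk res real31)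

universe u

variable {G : Type u} [Group G] [Finite G] [IsSimpleGroup G] {Z : G}

/-- the characters `χ(1) ≡ ± 23 (47)` are real off the elements of order divisible by 47 -/
theorem real47 (D : Dt G Z) (χ : IrrCharacter G) (h : r2 47 23 (charDegree (χ : G → ℂ)) = true) {x : G}
    (hx : ¬ 47 ∣ orderOf x) : conj ((χ : G → ℂ) x) = (χ : G → ℂ) x := by
  classical
  have hp : Nat.Prime 47 := by norm_num
  have hF : Fact (Nat.Prime 47) := ⟨hp⟩
  obtain ⟨x47, hx47, hc47⟩ := D.x47
  obtain ⟨NE, X, h47⟩ := H65.Ore.exists_dat D.nonab hp D.card hx47 hc47 23 2 311 (by decide +kernel)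
  have hmem : ∀ ψ : IrrCharacter G, charDegree (ψ : G → ℂ) = charDegree (χ : G → ℂ) → ψ ∈ X := by
    intro ψ hψ
    have h1 := r2_spec.2 h
    rw [← hψ] at h1
    by_contra hX
    by_cases hNE : ψ ∈ NE
    · have h2 := h47.ne_deg ψ hNE
      omega
    · have h2 : ¬ ψ ∈ X := hX
      have hpg : IsPGroup 47 (zpowers x47) := IsPGroup.of_card (n := 1) (by rw [Nat.card_zpowers, hx47, pow_one])
      have h4 : Nat.card (zpowers x47) = 47 := by rw [Nat.card_zpowers, hx47]
      have hidx : ¬ 47 ∣ (zpowers x47).index := by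
        intro h5
        have h6 : 47 ^ 2 ∣ Nat.card G := by
          rw [← (zpowers x47).card_mul_index, h4, pow_two]
          exact Nat.mul_dvd_mul_left 47 h5
        rw [D.card] at h6
        revert h6
        norm_num
      let P : Sylow 47 G := hpg.toSylow hidx
      have h3 : (47 : ℤ) ∣ charDegree (ψ : G → ℂ) := by
        refine Blk.deg_zero (P := P) (by exact h4) fun y hy => h47.off ψ hNE h2 y ?_
        exact Blocks.CyclicOrtho.orderOf_eq P (by exact h4) y.2 fun h => hy (Subtype.ext h)
      have h6 : 47 ∣ charDegree (ψ : G → ℂ) := by exact_mod_cast h3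
      omega
  let χ' : IrrCharacter G := ⟨fun g => conj ((χ : G → ℂ) g), isIrr_conj χ.2⟩
  have hdeg : charDegree (χ' : G → ℂ) = charDegree (χ : G → ℂ) := by
    have h1 := Blk.deg_cast χ'
    have h2 : (χ' : G → ℂ) 1 = (charDegree (χ : G → ℂ) : ℂ) := by
      show conj ((χ : G → ℂ) 1) = _
      rw [Blk.deg_cast]; simp
    rw [h2] at h1
    exact_mod_cast h1.symm
  exact h47.eq_of χ' (hmem χ' hdeg) χ (hmem χ rfl) x hx

/-- `m` modulo 23 -/
theorem m23 (D : Dt G Z) (χ : IrrCharacter G) (m : ℕ)
    (hk : (χ : G → ℂ) Z = (charDegree (χ : G → ℂ) : ℂ) - 4096 * m) :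
    m % 23 = 0 ∨ m % 23 = charDegree (χ : G → ℂ) % 23 := by
  have hF23 : Fact (Nat.Prime 23) := ⟨by norm_num⟩
  obtain ⟨x23, hx23, hxZ, hc23⟩ := D.x23
  obtain ⟨P', K', hK', hP', hPx', hp2', ht', he', hKc'⟩ := exists_blk D.nonab D.card hx23 (k := 2) (by rw [hc23])
    11 2 [(0, 0), (1, 2), (22, -2), (11, -1), (12, 1)] 0 false (by decide +kernel)
  have hZK : Z ∈ K' := by
    rw [hK' Z]
    refine ⟨?_, ?_⟩
    · rw [hPx', mem_centralizer_iff]
      rintro _ ⟨i, rfl⟩
      exact ((show Commute x23 Z from hxZ).zpow_left i).eq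
    · intro h
      have h1 : orderOf Z ∣ 2 := orderOf_dvd_of_pow_eq_one (by rw [pow_two]; exact D.Z_sq)
      have h2 := h.trans h1
      revert h2
      norm_num
  have h1 := Blk.mod_invol hK' hP' hKc' hZK D.Z_ne he' ht' χ
    (c := (charDegree (χ : G → ℂ) : ℤ) - 4096 * m) (by rw [hk]; push_cast; ring)
  have e23 : ((23 : ℕ) : ℤ) = 23 := rfl
  rw [e23] at h1
  rcases h1 with ⟨h1, h2⟩ | h1 | h1
  · left; (clear * - h1 h2; omega)
  · left; (clear * - h1; omega)
  · right; (clear * - h1; omega)

theorem degs (D : Dt G Z) (h11 : ∀ χ : IrrCharacter G, NumB.r11 (charDegree (χ : G → ℂ)) = true) (χ : IrrCharacter G)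
    (hχ : (χ : G → ℂ) ≠ 1) (h0 : charDegree (χ : G → ℂ) ≠ 4371) (h0' : charDegree (χ : G → ℂ) ≠ 91884) :
    (r2 23 1 (charDegree (χ : G → ℂ)) = true → 1411833 ≤ charDegree (χ : G → ℂ)) ∧
      (r2 23 11 (charDegree (χ : G → ℂ)) = true → 2159274 ≤ charDegree (χ : G → ℂ)) := by
  have hdvd : charDegree (χ : G → ℂ) ∣ NB := by rw [← D.card]; exact H511.Ore.charDegree_dvd χ
  have hn1 : charDegree (χ : G → ℂ) ≠ 1 := by
    have := H511.Ore.two_le_charDegree D.nonab χ hχ
    omega
  obtain ⟨k, hk⟩ := D.ext χ
  have hk1 : 1 ≤ k := Ext.one_le hχ D.Z_ne (c := 4096) (by norm_num) (by rw [hk]; push_cast; ring)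
  obtain ⟨m, rfl⟩ := Int.eq_ofNat_of_zero_le (by omega : 0 ≤ k)
  have hm1 : 1 ≤ m := by exact_mod_cast hk1
  have hm : 4032 * m ≤ charDegree (χ : G → ℂ) := by exact_mod_cast D.pure χ m hk
  have hd : charDegree (χ : G → ℂ) ∣ 47953709766144000 * m := by
    have h1 := Ext.dvd (χ := χ) (c := 4096) (k := m) D.idx (by rw [hk]; push_cast; ring)
    have h2 : 11707448673375 * 4096 * m = 47953709766144000 * m := by norm_num
    rwa [h2] at h1
  -- 47
  have hF47 : Fact (Nat.Prime 47) := ⟨by norm_num⟩
  have hF31 : Fact (Nat.Prime 31) := ⟨by norm_num⟩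
  have hF23 : Fact (Nat.Prime 23) := ⟨by norm_num⟩
  obtain ⟨x47, hx47, hc47⟩ := D.x47
  obtain ⟨P, K, hK, hP, -, hp2, ht, he, hKc⟩ := exists_blk D.nonab D.card hx47 (k := 1) (by rw [hc47])
    23 2 [(0, 0), (1, 2), (46, -2), (23, -1), (24, 1)] 2 true (by decide +kernel)
  obtain ⟨h47, h47'⟩ := res hK hP (by omega) hp2 he ht (by decide) (by norm_num) χ
  -- 31
  obtain ⟨x31, hx31, hc31⟩ := D.x31
  obtain ⟨P₃, K₃, hK₃, hP₃, -, hp2₃, ht₃, he₃, hKc₃⟩ := exists_blk D.nonab D.card hx31 (k := 1) (by rw [hc31])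
    15 2 [(0, 0), (1, 2), (30, -2), (15, -1), (16, 1)] 2 true (by decide +kernel)
  obtain ⟨h31, h31'⟩ := res hK₃ hP₃ (by omega) hp2₃ he₃ ht₃ (by decide) (by norm_num) χ
  -- 23
  obtain ⟨x23, hx23, hxZ, hc23⟩ := D.x23
  obtain ⟨P', K', hK', hP', hPx', hp2', ht', he', hKc'⟩ := exists_blk D.nonab D.card hx23 (k := 2) (by rw [hc23])
    11 2 [(0, 0), (1, 2), (22, -2), (11, -1), (12, 1)] 0 false (by decide +kernel)
  obtain ⟨-, h23'⟩ := res hK' hP' (by omega) hp2' he' ht' (by decide) (by norm_num) χ
  have hm23 := m23 D χ m (by rw [hk]; push_cast; ring)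
  -- 19 and 17
  have h19 : r3 19 (charDegree (χ : G → ℂ)) = true := by
    obtain ⟨x, hx, hc⟩ := D.x19
    have h1 := H511.Ore.res_of_has D.nonab D.card (c := ⟨19, 2, 18, 1, [(0, 0), (1, 1), (18, -1)], 0, false⟩)
      ⟨by norm_num, x, hx, hc.trans (by norm_num)⟩ (by decide +kernel) χ
    simp only [List.any_cons, List.any_nil, Bool.or_false, Bool.or_eq_true, Nat.beq_eq] at h1
    exact r3_spec h1
  have h17 : r3 17 (charDegree (χ : G → ℂ)) = true ∨ r2 17 2 (charDegree (χ : G → ℂ)) = true := by
    obtain ⟨x, hx, hc⟩ := D.x17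
    have h1 := H511.Ore.res_of_has D.nonab D.card
      (c := ⟨17, 4, 16, 1, [(0, 0), (1, 1), (16, -1), (2, 2), (15, -2)], 0, false⟩)
      ⟨by norm_num, x, hx, hc.trans (by norm_num)⟩ (by decide +kernel) χ
    simp only [List.any_cons, List.any_nil, Bool.or_false, Bool.or_eq_true, Nat.beq_eq] at h1
    rcases h1 with h1 | h1 | h1 | h1 | h1
    · exact Or.inl (r3_spec (Or.inl h1))
    · exact Or.inl (r3_spec (Or.inr (Or.inl h1)))
    · exact Or.inl (r3_spec (Or.inr (Or.inr h1)))
    · exact Or.inr (r2_spec.1 (Or.inl h1))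
    · exact Or.inr (r2_spec.1 (Or.inr h1))
  refine NumB.num hdvd hn1 h0 h0' h47 h31 h19 h17 (h11 χ) (fun h => ?_) (fun h => ?_) hm1 hm hd hm23
  · exact h47' fun x hx => real31 D χ h (by rw [hx]; norm_num)
  · have hno : ∀ h3 : r3 23 (charDegree (χ : G → ℂ)) = true, False := by
      intro h3
      have h4 := r2_spec.2 h
      unfold r3 at h3
      rw [Bool.or_eq_true, Bool.or_eq_true, Nat.beq_eq, Nat.beq_eq, Nat.beq_eq] at h3
      omega
    refine ⟨?_, ?_⟩
    · rcases h47 with h5 | h5
      · exact h5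
      · exact (hno (h23' fun x hx => real47 D χ h5 (by rw [hx]; norm_num))).elim
    · rcases h31 with h5 | h5
      · exact h5
      · exact (hno (h23' fun x hx => real31 D χ h5 (by rw [hx]; norm_num))).elim

end Cfsg.Agent.H570.TC.Deg
end

-- part: H570/TC/RowB
section
/-!
# S4173, row B: T1 at the pair (23, 23) for the Baby Monster (helper570)

`prd23` : `|C(g)| ≤ 960000000` and `x` of order 23 give `g = (a x a⁻¹) (b x⁻¹ b⁻¹)`. `SThree.{0}` is the theorem of Feit and
Thompson, `fun _ _ _ X hX hC => S3331.result X hX hC`.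
-/

set_option autoImplicit false

namespace Cfsg.Agent.H570.TC.RowB

open Cfsg Subgroup
open Cfsg.Agent.BabyM Cfsg.Agent.BabyU.ClosModel Cfsg.Agent.BabyU.ClosLane
open Cfsg.Agent.H715.Mon.Grp (SThree)
open Cfsg.Agent.H570.Ore.RowB (fin simple dt)
open Cfsg.Agent.H65.Ore (Prd)

universe u

theorem isConj_inv {G : Type*} [Group G] {a b : G} (h : IsConj a b) : IsConj a⁻¹ b⁻¹ := by
  obtain ⟨c, rfl⟩ := isConj_iff.1 h
  exact isConj_iff.2 ⟨c, by group⟩

theorem prd_model (h3 : SThree.{0}) {x : Inst.M.G} (hx : orderOf x = 23) {g : Inst.M.G}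
    (hg : Nat.card (centralizer ({g} : Set Inst.M.G)) ≤ 960000000) : Prd x x⁻¹ g := by
  have := simple
  have D := dt h3
  obtain ⟨x0, hx0, hx0Z, hc0⟩ := D.x23
  obtain ⟨P, W, U, H, hN⟩ := Abs.exists_dat D hx0 hx0Z hc0
  have : Finite (IrrCharacter Inst.M.G) := Characters.Core.finite_irr
  have := Fintype.ofFinite (IrrCharacter Inst.M.G)
  have hm := Abs.mult D H hN hc0 (fun χ hχ m hm => by
    have h1 := Deg.m23 D χ m (by rw [hm, hχ]; push_cast; ring)
    rw [hχ] at h1
    exact h1)
  have h0 : Prd x0 x0⁻¹ g := Main.core D H hN hc0 hm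
    (fun χ h1 h2 h4 => Deg.degs D Eleven.r11 χ h1 h2 h4) hg
  rcases Abs.classes D hx0 hc0 hx with h1 | h1
  · exact (h0.congr_left h1).congr_right (isConj_inv h1)
  · have h2 := isConj_inv h1
    rw [inv_inv] at h2
    exact (h0.swap.congr_left h1).congr_right h2

/-- **T1 at (23, 23) for the Baby Monster.** -/
theorem prd23 (h3 : SThree.{0}) {S : Type u} [Group S] (h : Spor.IsoB S) {x : S} (hx : orderOf x = 23) {g : S}
    (hg : Nat.card (centralizer ({g} : Set S)) ≤ 960000000) : Prd x x⁻¹ g := by
  obtain ⟨e'⟩ := KFacts.Baby.RowB.exists_iso h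
  let e : S ≃* Inst.M.G := e'.symm
  have h1 : Prd (e x) (e x)⁻¹ (e g) := by
    refine prd_model h3 (by rw [MulEquiv.orderOf_eq, hx]) ?_
    have h2 : Nat.card (centralizer ({e g} : Set Inst.M.G)) = Nat.card (centralizer ({g} : Set S)) := by
      refine Nat.card_congr (e.toEquiv.subtypeEquiv fun a => ?_).symm
      rw [mem_centralizer_singleton_iff, mem_centralizer_singleton_iff]
      show a * g = g * a ↔ e a * e g = e g * e a
      rw [← map_mul, ← map_mul, e.apply_eq_iff_eq]
    rw [h2]
    exact hg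
  obtain ⟨a, b, hab⟩ := h1
  refine ⟨e.symm a, e.symm b, ?_⟩
  apply e.injective
  rw [hab]
  simp only [_root_.map_mul, _root_.MulEquiv.apply_symm_apply, _root_.map_inv]

end Cfsg.Agent.H570.TC.RowB
end

private theorem dce_6443ce364d82 : _root_.True := by
  try have : _root_.True := by simp only [_root_.Cfsg.Agent.H653.Sieve.csum.congr_simp]
  exact _root_.True.intro
end

-- part: H58/TC/RatioM_mg
section
prune_inst 0x43110114025620000000000120200782030000090002b8000302005020005cd64890227004a201402104002002005000000100000000000000084000008040501002010021100a19960001000310c005000281800000000000000000000000000210000000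
set_option linter.all false
open scoped Cfsg.Agent.FastGrp

-- part: H58/TC/Ratio
section
/-!
# Products of two classes: the ratio argument (helper58)

* `exists_prd_of_ratio` : `W`, `U` the columns of two subgroups, orthogonal to each other, `∑_{χ ≠ 1} |W U| ≤ M`; if
  `- r1 χ(1) ≤ Re χ(g) ≤ r2 χ(1)` for all `χ ≠ 1` with `W U ≠ 0`, and `M (r1 + r2) + w (r2 - r1) < 2 w`, `w` the value of
  `W U` at the trivial character, then `g` is a product;
* `conj_full`, `conj_half` : the elements of prime order `p`, if the order of `N(x)` is `p (p - 1)`, `p (p - 1) / 2` (odd).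
-/

set_option autoImplicit false
set_option linter.unusedSectionVars false

open Cfsg Subgroup
open scoped ComplexConjugate

namespace Cfsg.Agent.H58.TC

open Cfsg.Agent.Characters.Core
open Cfsg.Agent.H653.Sieve
open Cfsg.Agent.H65.Ore
open Cfsg.Agent.H938.Pw.Avg (exists_prd_of_ne_zero deg_pos)

universe u

variable {G : Type u} [Group G] [Finite G]

/-- **The ratio argument.** -/
theorem exists_prd_of_ratio [Fintype (IrrCharacter G)] [DecidableEq (IrrCharacter G)] {H K : Subgroup G} {e e' : ℕ}
    {W U : IrrCharacter G → ℤ} (hW : IsCol H e W) (hU : IsCol K e' U) (he : e ≠ 0) (he' : e' ≠ 0)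
    (horth : ∑ χ : IrrCharacter G, W χ * U χ = 0) {g : G} {r1 r2 M : ℝ}
    (hM : ∑ χ ∈ Finset.univ.erase (one1 G), |((W χ * U χ : ℤ) : ℝ)| ≤ M) (hr0 : 0 ≤ r1 + r2)
    (hr : ∀ χ : IrrCharacter G, (χ : G → ℂ) ≠ 1 → W χ * U χ ≠ 0 →
      -(r1 * (H653.Sieve.deg χ : ℝ)) ≤ ((χ : G → ℂ) g).re ∧ ((χ : G → ℂ) g).re ≤ r2 * (H653.Sieve.deg χ : ℝ))
    (hlt : M * (r1 + r2) + ((W (one1 G) * U (one1 G) : ℤ) : ℝ) * (r2 - r1) <
      2 * ((W (one1 G) * U (one1 G) : ℤ) : ℝ)) :
    ∃ x ∈ H, x ≠ 1 ∧ ∃ y ∈ K, y ≠ 1 ∧ Prd x y g := by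
  apply exists_prd_of_ne_zero
  intro h0
  have hc : ((e : ℂ) * e') ≠ 0 := by
    have h1 : (e : ℂ) ≠ 0 := by exact_mod_cast he
    have h2 : (e' : ℂ) ≠ 0 := by exact_mod_cast he'
    exact mul_ne_zero h1 h2
  have h1 : ∑ χ : IrrCharacter G, ((W χ * U χ : ℤ) : ℂ) * conj ((χ : G → ℂ) g) / (χ : G → ℂ) 1 = 0 := by
    have h2 : ((e : ℂ) * e') * ∑ χ : IrrCharacter G, ((W χ * U χ : ℤ) : ℂ) * conj ((χ : G → ℂ) g) / (χ : G → ℂ) 1 = 0 := by
      rw [← h0, Finset.mul_sum]
      refine Finset.sum_congr rfl fun χ _ => ?_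
      rw [← hW χ, ← hU χ]
      push_cast
      ring
    exact (mul_eq_zero.1 h2).resolve_left hc
  -- the real part
  set c : ℝ := (r2 - r1) / 2 with hcdef
  have hterm : ∀ χ : IrrCharacter G, (((W χ * U χ : ℤ) : ℂ) * conj ((χ : G → ℂ) g) / (χ : G → ℂ) 1).re =
      ((W χ * U χ : ℤ) : ℝ) * (((χ : G → ℂ) g).re / (H653.Sieve.deg χ : ℝ)) := by
    intro χ
    rw [deg_cast]
    have h2 : ((W χ * U χ : ℤ) : ℂ) * conj ((χ : G → ℂ) g) / ((H653.Sieve.deg χ : ℕ) : ℂ) =
        (((((W χ * U χ : ℤ) : ℝ) / (H653.Sieve.deg χ : ℝ) : ℝ)) : ℂ) * conj ((χ : G → ℂ) g) := by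
      push_cast
      ring
    rw [h2, Complex.re_ofReal_mul, Complex.conj_re]
    ring
  have h2 := congrArg Complex.re h1
  rw [Complex.re_sum, Complex.zero_re, Finset.sum_congr rfl fun χ _ => hterm χ] at h2
  have h3 : ∑ χ : IrrCharacter G, ((W χ * U χ : ℤ) : ℝ) * (((χ : G → ℂ) g).re / (H653.Sieve.deg χ : ℝ) - c) = 0 := by
    have h4 : ∑ χ : IrrCharacter G, ((W χ * U χ : ℤ) : ℝ) * c = 0 := by
      rw [← Finset.sum_mul, ← Int.cast_sum, horth, Int.cast_zero, zero_mul]
    rw [Finset.sum_congr rfl fun χ _ => mul_sub _ _ _, Finset.sum_sub_distrib, h2, h4, sub_zero]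
  rw [← Finset.add_sum_erase Finset.univ _ (Finset.mem_univ (one1 G))] at h3
  have hdeg1 : (H653.Sieve.deg (one1 G) : ℝ) = 1 := by
    have h4 := deg_cast (one1 G)
    rw [one1_apply] at h4
    exact_mod_cast h4.symm
  rw [one1_apply, hdeg1, Complex.one_re, div_one] at h3
  have h4 : ((W (one1 G) * U (one1 G) : ℤ) : ℝ) * (1 - c) =
      -∑ χ ∈ Finset.univ.erase (one1 G), ((W χ * U χ : ℤ) : ℝ) * (((χ : G → ℂ) g).re / (H653.Sieve.deg χ : ℝ) - c) := by
    linarith only [h3]
  have h5 : ((W (one1 G) * U (one1 G) : ℤ) : ℝ) * (1 - c) ≤ M * ((r1 + r2) / 2) := by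
    rw [h4]
    refine (neg_le_abs _).trans ((Finset.abs_sum_le_sum_abs _ _).trans ?_)
    refine le_trans (Finset.sum_le_sum (g := fun χ => |((W χ * U χ : ℤ) : ℝ)| * ((r1 + r2) / 2)) fun χ hχ => ?_) ?_
    · rw [abs_mul]
      by_cases h0' : W χ * U χ = 0
      · rw [h0', Int.cast_zero, abs_zero, zero_mul, zero_mul]
      · refine mul_le_mul_of_nonneg_left ?_ (abs_nonneg _)
        have hχ1 : (χ : G → ℂ) ≠ 1 := coe_ne_one (Finset.ne_of_mem_erase hχ)
        obtain ⟨h6, h7⟩ := hr χ hχ1 h0'
        have hd : (0 : ℝ) < (H653.Sieve.deg χ : ℝ) := by exact_mod_cast deg_pos χ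
        have h8 : -r1 ≤ ((χ : G → ℂ) g).re / (H653.Sieve.deg χ : ℝ) := by
          rw [le_div_iff₀ hd]; linarith only [h6]
        have h9 : ((χ : G → ℂ) g).re / (H653.Sieve.deg χ : ℝ) ≤ r2 := by
          rw [div_le_iff₀ hd]; exact h7
        rw [abs_le, hcdef]
        constructor <;> linarith only [h8, h9]
    · rw [← Finset.sum_mul]
      exact mul_le_mul_of_nonneg_right hM (by linarith only [hr0])
  rw [hcdef] at h5
  linarith only [hlt, h5]

/-! ### Conjugacy -/

/-- the automorphisms of `⟨x⟩` induced by `N(⟨x⟩)` -/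
theorem exists_aut {x : G} {p e : ℕ} (hc : Nat.card ↥(centralizer ({x} : Set G)) = p) (hp : p.Prime)
    (hn : Nat.card ↥(normalizer ((zpowers x : Subgroup G) : Set G)) = p * e) :
    ∃ I : Subgroup (MulAut ↥(zpowers x)), Nat.card I = e ∧ ∀ σ ∈ I, ∃ g : G, ∀ y : ↥(zpowers x), (σ y : G) = g * y * g⁻¹ := by
  refine ⟨(zpowers x).normalizerMonoidHom.range, ?_, ?_⟩
  · have h1 := Subgroup.card_mul_index (zpowers x).normalizerMonoidHom.ker
    rw [hn] at h1
    have h2 : Nat.card ↥((zpowers x).normalizerMonoidHom.ker) = p := by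
      rw [normalizerMonoidHom_ker, Nat.card_congr (Subgroup.subgroupOfEquivOfLe
        (centralizer_le_normalizer _)).toEquiv, SmallSimple.SelfCentPrime.centralizer_zpowers, hc]
    rw [h2] at h1
    rw [← Subgroup.index_ker]
    exact Nat.eq_of_mul_eq_mul_left hp.pos h1
  · rintro σ ⟨n, rfl⟩
    exact ⟨n, fun y => rfl⟩

/-- transitivity of the automorphisms of a group of prime order -/
theorem exists_map {x y : G} {p : ℕ} (hp : p.Prime) (hx : orderOf x = p) (hy : y ∈ zpowers x) (hy1 : y ≠ 1) :
    ∃ σ : MulAut ↥(zpowers x), σ ⟨x, mem_zpowers x⟩ = ⟨y, hy⟩ := by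
  have hP : Nat.card ↥(zpowers x) = p := by rw [Nat.card_zpowers, hx]
  have : Fact p.Prime := ⟨hp⟩
  have hcyc : IsCyclic ↥(zpowers x) := isCyclic_of_prime_card hP
  let f : MulAut ↥(zpowers x) → {w : ↥(zpowers x) // w ≠ 1} := fun σ =>
    ⟨σ ⟨x, mem_zpowers x⟩, fun h => by
      have h1 : (⟨x, mem_zpowers x⟩ : ↥(zpowers x)) = 1 := σ.injective (by rw [h, map_one])
      have h2 : x = 1 := congrArg Subtype.val h1
      rw [h2, orderOf_one] at hx
      exact hp.ne_one hx.symm⟩
  have hinj : Function.Injective f := by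
    intro σ τ h
    have h1 : σ ⟨x, mem_zpowers x⟩ = τ ⟨x, mem_zpowers x⟩ := congrArg Subtype.val h
    apply MulEquiv.ext
    rintro ⟨w, k, rfl⟩
    have h2 : (⟨x ^ k, ⟨k, rfl⟩⟩ : ↥(zpowers x)) = (⟨x, mem_zpowers x⟩ : ↥(zpowers x)) ^ k := Subtype.ext rfl
    have h3 : (⟨(fun x_1 : ℤ => x ^ x_1) k, ⟨k, rfl⟩⟩ : ↥(zpowers x)) = (⟨x, mem_zpowers x⟩ : ↥(zpowers x)) ^ k :=
      Subtype.ext rfl
    rw [h3, map_zpow, map_zpow, h1]
  have hcard : Nat.card (MulAut ↥(zpowers x)) = Nat.card {w : ↥(zpowers x) // w ≠ 1} := by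
    rw [IsCyclic.card_mulAut, hP, Nat.totient_prime hp]
    have h1 : Nat.card {w : ↥(zpowers x) // w ≠ 1} = Nat.card ↥(zpowers x) - 1 := by
      have := Fintype.ofFinite ↥(zpowers x)
      classical
      rw [Nat.card_eq_fintype_card, Nat.card_eq_fintype_card, Fintype.card_subtype_compl]
      simp only [_root_.Fintype.card_unique]
    rw [h1, hP]
  have hbij := (Nat.bijective_iff_injective_and_card f).2 ⟨hinj, hcard⟩
  obtain ⟨σ, hσ⟩ := hbij.2 ⟨⟨y, hy⟩, fun h => hy1 (congrArg Subtype.val h)⟩
  exact ⟨σ, congrArg Subtype.val hσ⟩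

/-- **Full normalizer.** -/
theorem conj_full {x y : G} {p : ℕ} (hp : p.Prime) (hx : orderOf x = p) (hy : y ∈ zpowers x) (hy1 : y ≠ 1)
    (hc : Nat.card ↥(centralizer ({x} : Set G)) = p)
    (hn : Nat.card ↥(normalizer ((zpowers x : Subgroup G) : Set G)) = p * (p - 1)) : IsConj x y := by
  obtain ⟨I, hI, h⟩ := exists_aut hc hp hn
  have : Fact p.Prime := ⟨hp⟩
  have hP : Nat.card ↥(zpowers x) = p := by rw [Nat.card_zpowers, hx]
  have hcyc : IsCyclic ↥(zpowers x) := isCyclic_of_prime_card hP
  have hfin : Finite (MulAut ↥(zpowers x)) := inferInstance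
  have hA : Nat.card (MulAut ↥(zpowers x)) = p - 1 := by rw [IsCyclic.card_mulAut, hP, Nat.totient_prime hp]
  have htop : I = ⊤ := Subgroup.eq_top_of_card_eq I (by rw [hI, hA])
  obtain ⟨σ, hσ⟩ := exists_map hp hx hy hy1
  obtain ⟨g, hg⟩ := h σ (by rw [htop]; trivial)
  have h1 := hg ⟨x, mem_zpowers x⟩
  rw [hσ] at h1
  exact isConj_iff.2 ⟨g, h1.symm⟩

/-- **Normalizer of index 2, odd.** -/
theorem conj_half {x y : G} {p m : ℕ} (hp : p.Prime) (hx : orderOf x = p) (hy : y ∈ zpowers x) (hy1 : y ≠ 1)
    (hc : Nat.card ↥(centralizer ({x} : Set G)) = p) (hm : p - 1 = 2 * m) (hmo : Odd m)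
    (hn : Nat.card ↥(normalizer ((zpowers x : Subgroup G) : Set G)) = p * m) : IsConj x y ∨ IsConj x y⁻¹ := by
  obtain ⟨I, hI, h⟩ := exists_aut hc hp hn
  have : Fact p.Prime := ⟨hp⟩
  have hP : Nat.card ↥(zpowers x) = p := by rw [Nat.card_zpowers, hx]
  have hcyc : IsCyclic ↥(zpowers x) := isCyclic_of_prime_card hP
  have hfin : Finite (MulAut ↥(zpowers x)) := inferInstance
  have hA : Nat.card (MulAut ↥(zpowers x)) = p - 1 := by rw [IsCyclic.card_mulAut, hP, Nat.totient_prime hp]
  have hm0 : 0 < m := hmo.pos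
  have hidx : I.index = 2 := by
    have h1 := I.card_mul_index
    rw [hI, hA, hm, mul_comm 2 m] at h1
    exact Nat.eq_of_mul_eq_mul_left hm0 h1
  let ι : MulAut ↥(zpowers x) :=
    { toFun := fun w => w⁻¹
      invFun := fun w => w⁻¹
      left_inv := fun w => inv_inv w
      right_inv := fun w => inv_inv w
      map_mul' := fun a b => by rw [mul_inv_rev, mul_comm'] }
  have hι2 : ι * ι = 1 := by
    apply MulEquiv.ext
    intro w
    exact inv_inv w
  have hι1 : ι ≠ 1 := by
    intro h1
    have h2 : ι ⟨x, mem_zpowers x⟩ = ⟨x, mem_zpowers x⟩ := by rw [h1]; rfl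
    have h3 : x⁻¹ = x := congrArg Subtype.val h2
    have h4 : x ^ 2 = 1 := by
      rw [pow_two]
      nth_rewrite 1 [← h3]
      exact inv_mul_cancel x
    have h5 := orderOf_dvd_of_pow_eq_one h4
    rw [hx] at h5
    have h6 := Nat.le_of_dvd (by norm_num) h5
    omega
  have hιI : ι ∉ I := by
    intro hmem
    have h1 : orderOf (⟨ι, hmem⟩ : I) ∣ m := by
      rw [← hI]
      exact _root_.orderOf_dvd_natCard _
    have h2 : orderOf (⟨ι, hmem⟩ : I) = 2 := by
      refine orderOf_eq_prime ?_ ?_
      · rw [pow_two]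
        exact Subtype.ext hι2
      · intro h3
        exact hι1 (congrArg Subtype.val h3)
    rw [h2] at h1
    exact (Nat.not_even_iff_odd.2 hmo) (even_iff_two_dvd.2 h1)
  obtain ⟨σ, hσ⟩ := exists_map hp hx hy hy1
  by_cases hσI : σ ∈ I
  · left
    obtain ⟨g, hg⟩ := h σ hσI
    have h1 := hg ⟨x, mem_zpowers x⟩
    rw [hσ] at h1
    exact isConj_iff.2 ⟨g, h1.symm⟩
  · right
    have h2 : ι * σ ∈ I := (Subgroup.mul_mem_iff_of_index_two hidx).2 ⟨fun h => absurd h hιI, fun h => absurd h hσI⟩
    obtain ⟨g, hg⟩ := h _ h2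
    have h1 := hg ⟨x, mem_zpowers x⟩
    have h3 : (ι * σ) ⟨x, mem_zpowers x⟩ = (⟨y, hy⟩ : ↥(zpowers x))⁻¹ := by
      show ι (σ _) = _
      rw [hσ]
      rfl
    rw [h3] at h1
    exact isConj_iff.2 ⟨g, h1.symm⟩

end Cfsg.Agent.H58.TC
end

-- part: H58/TC/RatioM
section
/-!
# The Monster: products of an element of order 59 and an element of order 41, the ratio argument (helper58)

* `ratio` : `g` conjugate to `g⁻¹`, `- r1 χ(1) ≤ Re χ(g) ≤ r2 χ(1)` for the nontrivial `χ` of degree prime to 59 and 41,
  `30 r2 + 28 r1 < 2`: then `g = a ^ u b ^ v` for all `a`, `b` of orders 59, 41.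
-/

set_option autoImplicit false
set_option maxRecDepth 100000

open Cfsg Subgroup

namespace Cfsg.Agent.H58.TC

open Cfsg.Agent.BpSpor.MBigModel
open Cfsg.Agent.Characters.Core
open Cfsg.Agent.H653.Sieve
open Cfsg.Agent.H65.Ore
open Cfsg.Agent.H606.OreM (not_comm_MG finMG simpleMG)
open Cfsg.Agent.H995.CopEngine (AllKnown)

/-- the order of the Monster -/
abbrev NM : ℕ := 808017424794512875886459904961710757005754368000000000

theorem num59 : numOK NM 59 1 29 2 [(0, 0), (1, 2), (58, -2), (30, 1), (29, -1)] 2 true = true := by decide +kernel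

theorem num41 : numOK NM 41 1 40 1 [(0, 0), (1, 1), (40, -1)] 0 false = true := by decide +kernel

theorem mem59 {d : ℕ} {w : ℤ} (h : (d % 59, w) ∈ ([(0, 0), (1, 2), (58, -2), (30, 1), (29, -1)] : List (ℕ × ℤ))) :
    (59 ∣ d → w = 0) ∧ 2 * |w| = w * w + (bif Nat.beq w.natAbs 1 then (1 : ℤ) else 0) := by
  simp only [List.mem_cons, Prod.mk.injEq, List.not_mem_nil, or_false] at h
  rcases h with ⟨h1, rfl⟩ | ⟨h1, rfl⟩ | ⟨h1, rfl⟩ | ⟨h1, rfl⟩ | ⟨h1, rfl⟩
  · exact ⟨fun _ => rfl, by decide⟩
  all_goals exact ⟨fun h => absurd (Nat.mod_eq_zero_of_dvd h) (by omega), by decide⟩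

theorem mem41 {d : ℕ} {w : ℤ} (h : (d % 41, w) ∈ ([(0, 0), (1, 1), (40, -1)] : List (ℕ × ℤ))) :
    (41 ∣ d → w = 0) ∧ |w| ≤ 1 := by
  simp only [List.mem_cons, Prod.mk.injEq, List.not_mem_nil, or_false] at h
  rcases h with ⟨h1, rfl⟩ | ⟨h1, rfl⟩ | ⟨h1, rfl⟩
  · exact ⟨fun _ => rfl, by decide⟩
  all_goals exact ⟨fun h => absurd (Nat.mod_eq_zero_of_dvd h) (by omega), by decide⟩

/-- the elements of order 59 -/
theorem conj59 (hK : AllKnown.{0}) {a x : MG} (ha : orderOf a = 59) (hx : orderOf x = 59) : IsConj a x ∨ IsConj a x⁻¹ := by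
  have := finite
  obtain ⟨k, hk⟩ := H149.Sp.Eng.exists_conj (r := 59) (by norm_num) (by rw [card_M]; norm_num) hx ha
  have hko : orderOf (k * a * k⁻¹) = 59 := by
    rw [← ha]
    exact MulEquiv.orderOf_eq (MulAut.conj k) a
  obtain ⟨h1, h2⟩ := H58.Cop.M.norm_fiftynine hK hko
  have h3 : IsConj a (k * a * k⁻¹) := isConj_iff.2 ⟨k, rfl⟩
  have hx1 : x ≠ 1 := by
    rintro rfl
    rw [orderOf_one] at hx
    norm_num at hx
  rcases conj_half (m := 29) (by norm_num) hko hk hx1 h1 (by norm_num) (by decide) h2 with h | h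
  · exact Or.inl (h3.trans h)
  · exact Or.inr (h3.trans h)

/-- the elements of order 41 -/
theorem conj41 (hK : AllKnown.{0}) (hS : H715.Mon.Grp.SThree.{0}) {b y : MG} (hb : orderOf b = 41) (hy : orderOf y = 41) :
    IsConj b y := by
  have := finite
  have h0 : H241.NH.Three.{0} := H241.NH.three_of fun X hX hC => hS _ X hX hC
  obtain ⟨k, hk⟩ := H149.Sp.Eng.exists_conj (r := 41) (by norm_num) (by rw [card_M]; norm_num) hy hb
  have hko : orderOf (k * b * k⁻¹) = 41 := by
    rw [← hb]
    exact MulEquiv.orderOf_eq (MulAut.conj k) b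
  obtain ⟨h1, h2⟩ := H979.OreM.norm_41 hK h0 hko
  have h3 : IsConj b (k * b * k⁻¹) := isConj_iff.2 ⟨k, rfl⟩
  have hy1 : y ≠ 1 := by
    rintro rfl
    rw [orderOf_one] at hy
    norm_num at hy
  exact h3.trans (conj_full (by norm_num) hko hk hy1 h1 h2)

theorem prd_inv {G : Type*} [Group G] {x y g : G} (h : Prd x y g) : Prd x⁻¹ y⁻¹ g⁻¹ := by
  obtain ⟨a, b, rfl⟩ := h
  refine Prd.swap ⟨b, a, ?_⟩
  group

/-- **The ratio argument for the Monster.** -/
theorem ratio (hK : AllKnown.{0}) (hS : H715.Mon.Grp.SThree.{0}) {a b g : MG} (ha : orderOf a = 59) (hb : orderOf b = 41)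
    (hg : IsConj g g⁻¹) {r1 r2 : ℝ} (hr0 : 0 ≤ r1 + r2)
    (hr : ∀ χ : IrrCharacter MG, (χ : MG → ℂ) ≠ 1 → ¬ 59 ∣ charDegree (χ : MG → ℂ) → ¬ 41 ∣ charDegree (χ : MG → ℂ) →
      -(r1 * (charDegree (χ : MG → ℂ) : ℝ)) ≤ ((χ : MG → ℂ) g).re ∧
        ((χ : MG → ℂ) g).re ≤ r2 * (charDegree (χ : MG → ℂ) : ℝ))
    (hlt : 30 * r2 + 28 * r1 < 2) : Prd a b g := by
  classical
  have : Finite (IrrCharacter MG) := finite_irr
  have := Fintype.ofFinite (IrrCharacter MG)
  have hp59 : Fact (Nat.Prime 59) := ⟨by norm_num⟩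
  have hp41 : Fact (Nat.Prime 41) := ⟨by norm_num⟩
  have h0 : H241.NH.Three.{0} := H241.NH.three_of fun X hX hC => hS _ X hX hC
  obtain ⟨P, W, hP, he, hcol, hok⟩ := exists_col not_comm_MG card_M ha (k := 1)
    (by rw [(H58.Cop.M.norm_fiftynine hK ha).1]) 29 2 [(0, 0), (1, 2), (58, -2), (30, 1), (29, -1)] 2 true num59
  obtain ⟨P', U, hP', he', hcol', hok'⟩ := exists_col not_comm_MG card_M hb (k := 1)
    (by rw [(H979.OreM.norm_41 hK h0 hb).1]) 40 1 [(0, 0), (1, 1), (40, -1)] 0 false num41
  have horth : ∑ χ : IrrCharacter MG, W χ * U χ = 0 := orth_of_ne (by norm_num) hP hP' hcol hcol' he he'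
  have hone : ((one1 MG : IrrCharacter MG) : MG → ℂ) = 1 := rfl
  have hW1 : W (one1 MG) = 2 := hok.one _ hone
  have hU1 : U (one1 MG) = 1 := hok'.one _ hone
  have hsq : ∑ χ : IrrCharacter MG, W χ * W χ = 118 := hok.sq
  have hcnt : ∑ χ : IrrCharacter MG, (bif Nat.beq (W χ).natAbs 1 then (1 : ℤ) else 0) = 2 := hok.cnt rfl
  have hm59 := fun χ => mem59 (hok.mem χ)
  have hm41 := fun χ => mem41 (hok'.mem χ)
  -- the sum
  have hsum : ∑ χ : IrrCharacter MG, |W χ| = 60 := by
    have h1 : ∑ χ : IrrCharacter MG, 2 * |W χ| = 120 := by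
      rw [Finset.sum_congr rfl fun χ _ => (hm59 χ).2, Finset.sum_add_distrib, hsq, hcnt]
      norm_num
    rw [← Finset.mul_sum] at h1
    omega
  have hsum' : ∑ χ ∈ Finset.univ.erase (one1 MG), |W χ| = 58 := by
    rw [← Finset.add_sum_erase Finset.univ _ (Finset.mem_univ (one1 MG)), hW1] at hsum
    have : |(2 : ℤ)| = 2 := rfl
    rw [this] at hsum
    linarith only [hsum]
  have hM : ∑ χ ∈ Finset.univ.erase (one1 MG), |((W χ * U χ : ℤ) : ℝ)| ≤ 58 := by
    have h1 : ∑ χ ∈ Finset.univ.erase (one1 MG), |((W χ * U χ : ℤ) : ℝ)| ≤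
        ∑ χ ∈ Finset.univ.erase (one1 MG), ((|W χ| : ℤ) : ℝ) := by
      refine Finset.sum_le_sum fun χ _ => ?_
      rw [← Int.cast_abs, abs_mul]
      exact_mod_cast mul_le_of_le_one_right (abs_nonneg _) (hm41 χ).2
    rw [← Int.cast_sum, hsum'] at h1
    exact_mod_cast h1
  obtain ⟨x, hxP, hx1, y, hyP, hy1, hxy⟩ := exists_prd_of_ratio (g := g) hcol hcol' he he' horth hM hr0
    (fun χ hχ hne => by
      refine hr χ hχ (fun h => hne ?_) (fun h => hne ?_)
      · rw [(hm59 χ).1 h, zero_mul]
      · rw [(hm41 χ).1 h, mul_zero]) (by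
    rw [hW1, hU1]
    push_cast
    linarith only [hlt])
  have hord : ∀ {p : ℕ} [Fact p.Prime] {P : Sylow p MG}, Nat.card P = p → ∀ {c : MG}, c ∈ P → c ≠ 1 → orderOf c = p := by
    intro p hp P hP c hc hc1
    have h1 : orderOf c ∣ p := ((P : Subgroup MG).orderOf_dvd_natCard hc).trans (dvd_of_eq hP)
    rcases (Nat.dvd_prime hp.out).1 h1 with h | h
    · exact absurd (orderOf_eq_one_iff.1 h) hc1
    · exact h
  have hxo := hord hP hxP hx1
  have hyo := hord hP' hyP hy1
  have hyb : IsConj y b := conj41 hK hS hyo hb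
  rcases conj59 hK ha hxo with h | h
  · exact (hxy.congr_left h.symm).congr_right hyb
  · have h1 : Prd x⁻¹ y⁻¹ g⁻¹ := prd_inv hxy
    have h2 : IsConj y⁻¹ b := conj41 hK hS (by rw [orderOf_inv, hyo]) hb
    exact ((h1.congr_left h.symm).congr_right h2).of_isConj hg.symm

end Cfsg.Agent.H58.TC
end

-- part: H606/OreM/LstG
section
/-!
# The degrees of the Monster prime to 59 and 41: the test (helper606)
-/

set_option autoImplicit false

namespace Cfsg.Agent.H606.OreM.Num

/-- The test of a degree prime to `59` and `41`. -/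
def certG (T : List (ℕ × List (List ℕ × ℕ))) (d : ℕ) : Bool :=
  Bool.rec (motive := fun _ => Bool) true
    (!(mem [1, 40] (d % 41)) || !(mem [0, 1, 2, 27, 28] (d % 29)) || !(mem [0, 1, 35, 36, 70] (d % 71)) ||
      Nat.blt d 196883 || testD cA cB T d)
    (bit 288230377762324482 (d % 59))

end Cfsg.Agent.H606.OreM.Num
end
end

-- part: H922/TC/HS_mg
section
prune_inst 0x211010450162000000040012620060a11100019000208001d16404040004c126090021004020140a1008220000050048111000f002100000008404000005040188aa4000b308019d46001780318f195c00281800000000000000000000000000214010000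
set_option linter.all false
open scoped Cfsg.Agent.FastGrp

-- part: H922/TC/HS
section
/-!
# `HS`: two fixed classes (7A, 7A) (helper922, S4173, S2464)
-/

set_option autoImplicit false

namespace Cfsg.Agent.H922.TC.HS

open Equiv Cfsg.Agent.HN.HS100 Cfsg.Agent.HN.Pres Cfsg.Agent.SporadicA.PermTab
open Cfsg.Agent.H922.Ore.Gr Cfsg.Agent.H922.Ore.HS Cfsg.Agent.H922.TC

/-- the words -/
def wt : Fin 21 → W2 := ![
  ⟨[], [], [], []⟩,
  ⟨[tWi, tYi, tWi, tYi, tX, tY, tW, tW, tX, tW, tW, tX, tWi, tX],
    [tX, tW, tX, tWi, tWi, tX, tWi, tWi, tYi, tX, tY, tW, tY, tW],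
    [tX, tW, tY, tW, tYi],
    [tY, tWi, tYi, tWi, tX]⟩,
  ⟨[tYi, tWi, tX, tW, tY, tY, tW, tY, tX, tYi, tWi, tWi, tX, tY],
    [tYi, tX, tW, tW, tY, tX, tYi, tWi, tYi, tYi, tWi, tX, tW, tY],
    [tYi, tX, tY, tX, tYi, tWi],
    [tW, tY, tX, tYi, tX, tY]⟩,
  ⟨[tWi, tY, tY, tW, tY, tW, tW, tW, tX, tW],
    [tWi, tX, tWi, tWi, tWi, tYi, tWi, tYi, tYi, tW],
    [tYi, tX, tW, tW, tY],
    [tYi, tWi, tWi, tX, tY]⟩,
  ⟨[tY, tW, tX, tWi, tWi, tYi, tX, tWi, tYi, tX, tW, tW],
    [tWi, tWi, tX, tY, tW, tX, tY, tW, tW, tX, tWi, tYi],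
    [tX, tW, tYi, tYi, tWi],
    [tW, tY, tY, tWi, tX]⟩,
  ⟨[tWi, tWi, tYi, tX, tYi, tYi, tWi, tX, tYi, tX, tWi, tX],
    [tX, tW, tX, tY, tX, tW, tY, tY, tX, tY, tW, tW],
    [tYi, tYi, tW, tX, tWi, tWi],
    [tW, tW, tX, tWi, tY, tY]⟩,
  ⟨[tYi, tX, tWi, tWi, tY, tW, tX, tW, tX, tW, tY, tW],
    [tWi, tYi, tWi, tX, tWi, tX, tWi, tYi, tW, tW, tX, tY],
    [tY, tW, tY, tX, tY, tW],
    [tWi, tYi, tX, tYi, tWi, tYi]⟩,
  ⟨[tX, tWi, tYi, tX, tYi, tWi, tYi, tWi, tWi, tYi, tYi, tWi],
    [tW, tY, tY, tW, tW, tY, tW, tY, tX, tY, tW, tX],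
    [tWi, tX, tWi, tYi, tX],
    [tX, tY, tW, tX, tW]⟩,
  ⟨[tW, tW, tW, tY, tX, tW, tY, tW, tYi, tYi, tWi, tWi],
    [tW, tW, tY, tY, tWi, tYi, tWi, tX, tYi, tWi, tWi, tWi],
    [tYi, tX, tY, tWi, tYi, tW],
    [tWi, tY, tW, tYi, tX, tY]⟩,
  ⟨[tX, tYi, tWi, tY, tY, tW, tW, tX, tW, tW],
    [tWi, tWi, tX, tWi, tWi, tYi, tYi, tW, tY, tX],
    [tWi, tY, tY],
    [tYi, tYi, tW]⟩,
  ⟨[tY, tY, tX, tY, tW, tW, tYi, tWi, tX, tYi, tX, tY],
    [tYi, tX, tY, tX, tW, tY, tWi, tWi, tYi, tX, tYi, tYi],
    [tYi, tX, tYi, tYi, tX],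
    [tX, tY, tY, tX, tY]⟩,
  ⟨[tX, tW, tY, tWi, tX, tYi, tYi, tX, tYi, tX, tYi, tYi, tYi],
    [tY, tY, tY, tX, tY, tX, tY, tY, tX, tW, tYi, tWi, tX],
    [tYi, tW, tY, tW, tW],
    [tWi, tWi, tYi, tWi, tY]⟩,
  ⟨[tX, tY, tX, tY, tY, tY, tX, tY, tW, tW, tX, tY, tY],
    [tYi, tYi, tX, tWi, tWi, tYi, tX, tYi, tYi, tYi, tX, tYi, tX],
    [tY, tWi, tYi, tWi, tY],
    [tYi, tW, tY, tW, tYi]⟩,
  ⟨[tYi, tWi, tWi, tX, tYi, tYi, tWi, tX, tW, tY, tY, tW, tY, tY],
    [tYi, tYi, tWi, tYi, tYi, tWi, tX, tW, tY, tY, tX, tW, tW, tY],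
    [tWi, tWi, tX, tY, tY],
    [tYi, tYi, tX, tW, tW]⟩,
  ⟨[tWi, tYi, tW, tW, tY, tY, tW, tYi, tYi, tWi],
    [tW, tY, tY, tWi, tYi, tYi, tWi, tWi, tY, tW],
    [tYi, tWi, tYi, tW, tYi],
    [tY, tWi, tY, tW, tY]⟩,
  ⟨[tY, tW, tX, tY, tW, tY, tW, tYi, tWi, tWi, tY, tW, tYi],
    [tY, tWi, tYi, tW, tW, tY, tWi, tYi, tWi, tYi, tX, tWi, tYi],
    [tYi, tYi, tX, tYi, tYi, tX],
    [tX, tY, tY, tX, tY, tY]⟩,
  ⟨[tWi, tYi, tYi, tX, tWi, tYi, tWi, tYi, tW, tY, tX, tYi],
    [tY, tX, tYi, tWi, tY, tW, tY, tW, tX, tY, tY, tW],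
    [tX, tW, tW, tYi, tWi, tWi],
    [tW, tW, tY, tWi, tWi, tX]⟩,
  ⟨[tYi, tW, tW, tYi, tX, tWi, tYi, tWi, tYi, tW, tW, tY, tX],
    [tX, tYi, tWi, tWi, tY, tW, tY, tW, tX, tY, tWi, tWi, tY],
    [tYi, tX, tYi, tX, tW],
    [tWi, tX, tY, tX, tY]⟩,
  ⟨[tY, tW, tY, tW, tYi, tWi, tY, tX, tYi, tWi, tWi, tYi, tX],
    [tX, tY, tW, tW, tY, tX, tYi, tW, tY, tWi, tYi, tWi, tYi],
    [tY, tWi, tY, tY],
    [tYi, tYi, tW, tYi]⟩,
  ⟨[tY, tX, tYi, tWi, tWi, tYi, tYi, tWi, tY, tY, tW, tY, tX],
    [tX, tYi, tWi, tYi, tYi, tW, tY, tY, tW, tW, tY, tX, tYi],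
    [tWi, tY, tX],
    [tX, tYi, tW]⟩,
  ⟨[tW, tY, tX, tY, tWi, tWi, tX, tWi, tYi, tX, tY, tX],
    [tX, tYi, tX, tY, tW, tX, tW, tW, tYi, tX, tYi, tWi],
    [tX, tY, tW, tX, tW, tX],
    [tX, tWi, tX, tWi, tYi, tX]⟩]

/-- the word of an odd element centralizing the element of order 7 -/
def w0 : List ℕ := [tWi, tY, tY, tW, tYi, tWi, tYi, tWi, tYi, tYi, tWi, tWi, tYi]

theorem wt_chk : ∀ i : Fin 21, i ≠ 0 → (wt i).chk 100 d12.X d12.X (D i).X = true := by
  intro i
  revert i
  decide +kernel

theorem wt_mem : ∀ i : Fin 21, ∀ P ∈ (wt i).A ++ (wt i).Ai ++ (wt i).B ++ (wt i).Bi, InG Q P := by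
  intro i P hP
  apply in5g
  revert P
  fin_cases i <;> decide +kernel

theorem d0_one : eqv 100 [(D 0).X] [] = true := by decide +kernel

theorem two_Q : ∃ x ∈ Q, orderOf x = 7 ∧ ∀ g ∈ Q, g ≠ 1 → ∃ u ∈ Q, ∃ v ∈ Q, g = (u * x * u⁻¹) * (v * x * v⁻¹) := by
  obtain ⟨h1, h2⟩ := conj_all (R := φ.range) (A := adjA) Q_le_range range_le norm_Q D chk_all mem_all (by
    intro i j
    revert i j
    decide +kernel) (by
    rw [card_range, card_Q_eq]
    decide +kernel)
  obtain ⟨x, hx, hxa⟩ := h1 12
  have hxa' : Acts x [d12.X] := hxa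
  -- the odd element
  obtain ⟨w, hw, hw'⟩ := exists_ev (G := Q) w0 (fun P hP => in5g P (by revert P; decide +kernel))
  have hZ : Acts (φ gz) [tZ] := fun _ => by rw [φ_gz]; rfl
  have hr : Acts (φ gz * w) (w0 ++ [tZ]) := Acts.mul hZ hw'
  have hrx : (φ gz * w) * x = x * (φ gz * w) :=
    Acts.eq (Acts.mul hr hxa') (Acts.mul hxa' hr) (by decide +kernel)
  set r : Perm (Fin 100) := φ gz * w with hrd
  have hrR : r ∈ φ.range := φ.range.mul_mem ⟨gz, rfl⟩ (Q_le_range hw)
  have hsr : Perm.sign r = -1 := by
    rw [hrd, map_mul, (mem_Q_iff (Q_le_range hw)).1 hw, mul_one]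
    exact sgn_gz
  have key : ∀ c ∈ φ.range, ∀ u ∈ Q, ∃ u' ∈ Q, c * (u * x * u⁻¹) * c⁻¹ = u' * x * u'⁻¹ := by
    intro c hc u hu
    rcases Int.units_eq_one_or (Perm.sign c) with h | h
    · refine ⟨c * u, Q.mul_mem ((mem_Q_iff hc).2 h) hu, by group⟩
    · refine ⟨c * u * r⁻¹, ?_, ?_⟩
      · rw [mem_Q_iff (φ.range.mul_mem (φ.range.mul_mem hc (Q_le_range hu)) (φ.range.inv_mem hrR)), map_mul, map_mul,
          map_inv, h, hsr, (mem_Q_iff (Q_le_range hu)).1 hu]
        decide
      · have e : r⁻¹ * x * r = x := by rw [mul_assoc, ← hrx, inv_mul_cancel_left]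
        calc c * (u * x * u⁻¹) * c⁻¹ = c * u * x * (c * u)⁻¹ := by group
          _ = c * u * (r⁻¹ * x * r) * (c * u)⁻¹ := by rw [e]
          _ = _ := by group
  refine ⟨x, hx, ?_, ?_⟩
  · have h7 : Acts (x ^ 7) (List.replicate 7 d12.X) := by
      have e : x ^ 7 = x * (x * (x * (x * (x * (x * x))))) := by
        simp only [pow_succ, pow_zero, one_mul, mul_assoc]
      rw [e]
      exact Acts.mul hxa' (Acts.mul hxa' (Acts.mul hxa' (Acts.mul hxa' (Acts.mul hxa' (Acts.mul hxa' hxa')))))
    refine orderOf_eq_prime (p := 7) (hp := ⟨by norm_num⟩) (Acts.eq h7 Acts.one (by decide +kernel)) ?_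
    intro h1
    have h3 := hxa' 0
    rw [h1] at h3
    revert h3
    decide +kernel
  · intro g hg hg1
    obtain ⟨i, p, hp, hpa, c, hc, rfl⟩ := h2 g hg
    have hi : i ≠ 0 := by
      rintro rfl
      apply hg1
      have : p = 1 := Acts.eq hpa Acts.one d0_one
      rw [this, mul_one, mul_inv_cancel]
    obtain ⟨u, hu, v, hv, e⟩ := W2.ok (wt i) (wt_chk i hi) (wt_mem i) hxa' hxa' hpa
    obtain ⟨u', hu', e1⟩ := key c hc u hu
    obtain ⟨v', hv', e2⟩ := key c hc v hv
    refine ⟨u', hu', v', hv', ?_⟩
    rw [← e1, ← e2, e]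
    group

/-- **The row `HS`.** -/
theorem pp_hs {S : Type*} [Group S] (h : Spor.IsoHS S) : Cfsg.Agent.H494.TC.PP S := by
  obtain ⟨⟨e⟩, -⟩ := Cfsg.Agent.HN.AutHS.nonempty_Q
  obtain ⟨f⟩ := h
  refine Cfsg.Agent.H494.TC.PP.of_equiv (f.trans e.symm) ?_
  obtain ⟨x, hx, h7, h⟩ := two_Q
  have hc : orderOf (⟨x, hx⟩ : Q) = 7 := by rw [← h7]; exact (Subgroup.orderOf_coe _).symm
  refine ⟨⟨x, hx⟩, by rw [hc]; norm_num, by rw [hc]; norm_num, fun g hg => ?_⟩
  obtain ⟨u, hu, v, hv, e1⟩ := h g g.2 (fun h1 => hg (Subtype.ext h1))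
  exact ⟨⟨u, hu⟩, ⟨v, hv⟩, Subtype.ext e1⟩

theorem tc_hs {S : Type*} [Group S] (h : Spor.IsoHS S) : Cfsg.Agent.H140.TC.TC S := (pp_hs h).tc

end Cfsg.Agent.H922.TC.HS
end

-- part: H763/TC/Fi22
section
/-!
# S4173, S2464, S2452: the row `Fi22` (helper763)

Every element of `Fi22` is a product of two elements with seventh power `1` (`q7`); the elements of order `7` form one class
(Sylow, and `h x h⁻¹ = x³` in a subgroup `S₇`).
-/

set_option autoImplicit false
set_option maxRecDepth 100000
set_option exponentiation.threshold 300000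

namespace Cfsg.Agent.H763.TC.Fi22

open Cfsg Cfsg.Agent.H123.Cls Cfsg.Agent.H123.Cls.FiDat
open Cfsg.Agent.H494.F22 (rho rho_injective S S_val wS wS_nil wS_cons wS_append wS_rp rel chkRel rp N card_N tb)
open Cfsg.Agent.H763.Fi22.Pw (q7 el_pow rho_el lt10)
open Cfsg.Agent.H210.TC (Row3)

/-- the word of an element of order seven -/
def xw : List ℕ := [3, 2, 1, 0, 5, 4]

/-- the word of an element conjugating it to its cube -/
def hw : List ℕ := [1, 2, 1, 3, 2, 4, 5]

theorem chk_x : chkRel (rp 7 xw, []) = true := by decide +kernel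

theorem chk_h : chkRel (hw ++ xw, xw ++ (xw ++ (xw ++ hw))) = true := by decide +kernel

theorem xw_lt : ∀ x ∈ xw, x < 9 := by decide

theorem hw_lt : ∀ x ∈ hw, x < 9 := by decide

theorem chk_ne : Nat.beq (lk 12 (tb 3) (lk 12 (tb 2) (lk 12 (tb 1) (lk 12 (tb 0) (lk 12 (tb 5) (lk 12 (tb 4) 0)))))) 0 = false := by
  decide +kernel

theorem ne_one : el xw ≠ 1 := by
  intro h0
  have h1 : wS xw = 1 := by rw [← rho_el xw_lt, h0, map_one]
  have h2 : ((wS xw 0 : Fin 3510) : ℕ) = 0 := by rw [h1]; rfl
  have h3 : ((wS xw 0 : Fin 3510) : ℕ) =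
      lk 12 (tb 3) (lk 12 (tb 2) (lk 12 (tb 1) (lk 12 (tb 0) (lk 12 (tb 5) (lk 12 (tb 4) 0))))) := by
    unfold xw
    simp only [wS_cons, wS_nil, mul_one, Equiv.Perm.mul_apply]
    rw [S_val (by norm_num), S_val (by norm_num), S_val (by norm_num), S_val (by norm_num), S_val (by norm_num),
      S_val (by norm_num)]
    rfl
  rw [h2] at h3
  have h4 := chk_ne
  rw [← h3] at h4
  exact Bool.noConfusion h4

theorem rel_h : el hw * el xw = el xw * (el xw * (el xw * el hw)) := by
  apply rho_injective
  have hx := lt10 xw_lt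
  have hh := lt10 hw_lt
  have h1 := rel (u := hw ++ xw) (u' := xw ++ (xw ++ (xw ++ hw)))
    (fun z hz => (List.mem_append.1 hz).elim (hh z) (hx z))
    (fun z hz => (List.mem_append.1 hz).elim (hx z) fun hz => (List.mem_append.1 hz).elim (hx z) fun hz =>
      (List.mem_append.1 hz).elim (hx z) (hh z)) chk_h
  rw [wS_append, wS_append, wS_append, wS_append, ← rho_el xw_lt, ← rho_el hw_lt] at h1
  simpa only [map_mul] using h1

theorem card22 : Nat.card Spor.Fi22 = 64561751654400 := by
  rw [← card_N]
  exact Nat.card_congr (MonoidHom.ofInjective rho_injective).toEquiv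

theorem row3_Fi22 : Row3 Spor.Fi22 := by
  have : Finite Spor.Fi22 := Finite.of_injective _ rho_injective
  have : Fact (Nat.Prime 7) := ⟨by norm_num⟩
  refine row3_of_seven (x := el xw) (h := el hw) (by rw [card22]; norm_num)
    (orderOf_eq_prime (el_pow xw_lt chk_x) ne_one) ?_ q7
  rw [rel_h, pow_succ, pow_two]
  group

/-- **the row `Fi22` of S4173, S2464, S2452** -/
theorem row3_fi22 {S : Type*} [Group S] (h : Spor.IsoFi22 S) : Row3 S := by
  obtain ⟨e⟩ := h
  exact row3_Fi22.of_equiv e

theorem tc_fi22 {S : Type*} [Group S] (h : Spor.IsoFi22 S) :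
    ∃ a b : S, ∀ g : S, g ≠ 1 → ∃ u v : S, g = (u * a * u⁻¹) * (v * b * v⁻¹) := (row3_fi22 h).tc

end Cfsg.Agent.H763.TC.Fi22
end

-- part: H210/TC/ON
section
/-!
# S4173, S2464, S2452: the row of O'N (helper210)

Every nonidentity element is a product of two elements of order 11 of one class.
-/

set_option autoImplicit false

namespace Cfsg.Agent.H210.TC.ONan

open Cfsg Cfsg.Agent.H535.Ore.ON Cfsg.Agent.H474.ONC

theorem row3_on {S : Type*} [Group S] (h : Spor.IsoON S) : Row3 S := by
  obtain ⟨e⟩ := h
  obtain ⟨x, hx, -⟩ := exists_eleven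
  refine Row3.of_equiv e (Row3.of_sq (x := x) (by rw [hx]; norm_num) (by rw [hx]; norm_num) fun g hg => ?_)
  exact prd_on hx hx hg

end Cfsg.Agent.H210.TC.ONan
end

-- part: H48/OreFi/PForm
section
/-!
# `Fi24'`: the case split, for a general predicate (helper48)

* `nine` : an element of order 9 or 27 commutes with a transposition or `|C(g)| ≤ 78382080`;
* `three` : an element of order 3 commutes with a transposition or is conjugate to `X 4` or its inverse;
* `all_of` : a predicate holds for all elements if it holds for `|C(g)| ≤ 78382080`, for the 2-elements, for the elements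
  commuting with a transposition and for the class of `X 4`.
-/

set_option autoImplicit false
set_option maxRecDepth 100000

namespace Cfsg.Agent.H48.OreFi.PForm

open Subgroup
open Cfsg Cfsg.Agent.H48.OreFi
open Cfsg.Agent.R08.FiTwentyFour (L)
open Cfsg.Agent.H842.ThreeCl (X)
open Cfsg.Spor (Fi24)

theorem pos_width {D : Set Fi24} (h : Cfsg.commutingWidth D ≠ 0) : ∃ d, d ∈ D := by
  by_contra hcon
  push Not at hcon
  apply h
  rw [Set.eq_empty_iff_forall_notMem.2 hcon, Cfsg.commutingWidth]
  apply Nat.eq_zero_of_le_zero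
  apply csSup_le'
  rintro n ⟨E, hE, -, -, rfl⟩
  rw [Set.subset_empty_iff.1 hE, Set.ncard_empty]

/-- **order 3** -/
theorem three {s : Fi24} (h3 : s ^ 3 = 1) (h1 : s ≠ 1) :
    (∃ d ∈ L, Commute s d) ∨ ∃ y : Fi24, y * s * y⁻¹ = X 4 ∨ y * s * y⁻¹ = (X 4)⁻¹ := by
  obtain ⟨i, y, hy⟩ := Cfsg.Agent.H842.ThreeCl.all Cfsg.Agent.H49.Four.TEight.fgroup24'
    Cfsg.Agent.H49.Four.TEight.isT8 h3 h1
  by_cases hi : i = 4
  · right
    rw [hi] at hy
    exact ⟨y, hy⟩
  · left
    have h0 : Cfsg.Agent.H842.ThreeMain.wd i ≠ 0 :=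
      (show ∀ i : Fin 5, i ≠ 4 → Cfsg.Agent.H842.ThreeMain.wd i ≠ 0 by decide) i hi
    rw [← NineA.width_of hy] at h0
    obtain ⟨d, hd, hc⟩ := pos_width h0
    exact ⟨d, hd, mem_centralizer_iff.1 hc s (mem_zpowers s)⟩

/-- **orders 9 and 27** -/
theorem nine (g : Spor.Fi24') (b : ℕ) (hb : 2 ≤ b) (hg : orderOf g = 3 ^ b) :
    (∃ d ∈ L, Commute (g : Fi24) d) ∨ Nat.card (centralizer ({g} : Set Spor.Fi24')) ≤ 78382080 := by
  by_cases hD : ∃ d ∈ L, Commute (g : Fi24) d
  · exact Or.inl hD
  · right
    push Not at hD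
    obtain ⟨s, hs⟩ : ∃ s, s = g ^ 3 ^ (b - 1) := ⟨_, rfl⟩
    have ho : orderOf s = 3 := by
      rw [hs, orderOf_pow, hg]
      obtain ⟨c, rfl⟩ : ∃ c, b = c + 1 := ⟨b - 1, by omega⟩
      rw [Nat.add_sub_cancel, Nat.gcd_eq_right (pow_dvd_pow 3 (Nat.le_succ c)), pow_succ,
        Nat.mul_div_cancel_left _ (by positivity)]
    have hs3' : s ^ 3 = 1 := by rw [← ho]; exact pow_orderOf_eq_one s
    have hs3 : (s : Fi24) ^ 3 = 1 := congrArg Subtype.val hs3'
    have hs1' : s ≠ 1 := by rintro h; rw [h, orderOf_one] at ho; omega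
    have hs1 : (s : Fi24) ≠ 1 := fun h => hs1' (Subtype.ext h)
    have e1 : (s : Fi24) = ((g ^ 3 ^ (b - 2) : Spor.Fi24') : Fi24) ^ 3 := by
      rw [hs]
      show (g : Fi24) ^ 3 ^ (b - 1) = ((g : Fi24) ^ 3 ^ (b - 2)) ^ 3
      rw [← pow_mul, ← pow_succ]
      congr 2
      omega
    obtain ⟨i, y, hy⟩ := Cfsg.Agent.H842.ThreeCl.all Cfsg.Agent.H49.Four.TEight.fgroup24' Cfsg.Agent.H49.Four.TEight.isT8
      hs3 hs1
    have hi : ∀ i : Fin 5, i = 0 ∨ i = 1 ∨ i = 2 ∨ i = 3 ∨ i = 4 := by decide
    rcases hi i with rfl | rfl | rfl | rfl | rfl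
    · exfalso
      rw [e1] at hy
      exact NineA.zero_false hy
    · exact WOne.wd_one g s b hb hg hs hD ⟨y, hy⟩
    · exact Cfsg.Agent.H597.OreFi.NineB.wd_two g s b hb hg hs hD ⟨y, hy⟩
    · refine (NineA.two_bound ?_ hD (s := s) ?_ hs3 hs1 ?_).trans (by norm_num)
      · rw [hg]; exact Odd.pow (by decide)
      · intro x hx
        rw [hs]; exact hx.pow_right _
      · rw [NineA.width_of hy]; rfl
    · exfalso
      rw [e1] at hy
      exact Cfsg.Agent.H48.WFour.no_cube hy

/-- **the frame** -/
theorem all_of {P : Spor.Fi24' → Prop}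
    (hb : ∀ g : Spor.Fi24', Nat.card (centralizer ({g} : Set Spor.Fi24')) ≤ 78382080 → P g)
    (h2 : ∀ (g : Spor.Fi24') (n : ℕ), g ^ 2 ^ n = 1 → P g)
    (hf : ∀ (g : Spor.Fi24') (d : Fi24), d ∈ L → Commute (g : Fi24) d → P g)
    (h4 : ∀ (g : Spor.Fi24') (y : Fi24), y * (g : Fi24) * y⁻¹ = X 4 ∨ y * (g : Fi24) * y⁻¹ = (X 4)⁻¹ → P g)
    (g : Spor.Fi24') : P g := by
  refine cases' (P := P) hb h2 (fun g hg => ?_) (fun g b hb' hg => ?_) (bound_zs bdA) g
  · by_cases h1 : g = 1
    · rw [h1]
      exact h2 1 0 (one_pow _)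
    · rcases three (s := (g : Fi24)) (congrArg Subtype.val hg) (fun h => h1 (Subtype.ext h)) with ⟨d, hd, hc⟩ | ⟨y, hy⟩
      · exact hf g d hd hc
      · exact h4 g y hy
  · rcases nine g b hb' hg with ⟨d, hd, hc⟩ | h
    · exact hf g d hd hc
    · exact hb g h

end Cfsg.Agent.H48.OreFi.PForm
end

-- part: H713/TC/Fi24
section
/-!
# `Fi24'`, the row of S4173 / S2464: the frame (helper713)

* `pi_all` : from the sieve at 23 and the row of `Fi23`, every element of `Fi24'` is a product of a conjugate of `x0` and a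
  conjugate of `x0⁻¹` (`x0` of order 23).
-/

set_option autoImplicit false

open Cfsg Subgroup

namespace Cfsg.Agent.H713.TC.FiTF

theorem pi_all
    (hb : ∀ g : Spor.Fi24', Nat.card (centralizer ({g} : Set Spor.Fi24')) ≤ 78382080 →
      ∃ x : Spor.Fi24', orderOf x = 23 ∧ ∃ u v : Spor.Fi24', g = (u * x * u⁻¹) * (v * x⁻¹ * v⁻¹))
    (h23 : ∀ k : Spor.Fi23, k ≠ 1 →
      ∃ x : Spor.Fi23, orderOf x = 23 ∧ ∃ u v : Spor.Fi23, k = (u * x * u⁻¹) * (v * x⁻¹ * v⁻¹))
    (g : Spor.Fi24') : PI x0 g := by
  refine H48.OreFi.PForm.all_of (P := PI x0) (fun g h => ?_) pi_two (pi_fix h23) pi_four g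
  obtain ⟨x, hx, h'⟩ := hb g h
  exact pi_change hx h'

end Cfsg.Agent.H713.TC.FiTF
end

-- part: H713/TC/Fi24Row
section
/-!
# `Fi24'`, the row of S4173 / S2464 (helper713)
-/

set_option autoImplicit false

open Cfsg Subgroup

namespace Cfsg.Agent.H713.TC.FiTF

/-- the conclusion of the row, in any group isomorphic to `Fi24'` -/
theorem classes_of {S : Type*} [Group S] (h : Spor.IsoFi24' S) (H : ∀ g : Spor.Fi24', PI x0 g) :
    ∃ x y : S, orderOf x = 23 ∧ orderOf y = 23 ∧ ∀ g : S, ∃ u v : S, g = (u * x * u⁻¹) * (v * y * v⁻¹) := by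
  obtain ⟨e⟩ := h
  have hx : orderOf (e.symm x0) = 23 := by rw [MulEquiv.orderOf_eq, order_x0]
  refine ⟨e.symm x0, (e.symm x0)⁻¹, hx, by rw [orderOf_inv, hx], fun g => ?_⟩
  have h1 := (H (e g)).map e.symm.toMonoidHom
  have h2 : e.symm.toMonoidHom (e g) = g := e.symm_apply_apply g
  rw [h2] at h1
  exact h1

theorem tc_of {S : Type*} [Group S] (h : Spor.IsoFi24' S) (H : ∀ g : Spor.Fi24', PI x0 g) : Cfsg.Agent.H140.TC.TC S := by
  obtain ⟨x, y, -, -, hxy⟩ := classes_of h H
  exact ⟨x, y, fun g _ => hxy g⟩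

theorem tc6_of {S : Type*} [Group S] (h : Spor.IsoFi24' S) (H : ∀ g : Spor.Fi24', PI x0 g) :
    ∃ x y : S, Nat.Coprime (orderOf x) 6 ∧ Nat.Coprime (orderOf y) 6 ∧
      ∀ g : S, g ≠ 1 → ∃ u v : S, g = (u * x * u⁻¹) * (v * y * v⁻¹) := by
  obtain ⟨x, y, hx, hy, hxy⟩ := classes_of h H
  exact ⟨x, y, by rw [hx]; norm_num, by rw [hy]; norm_num, fun g _ => hxy g⟩

end Cfsg.Agent.H713.TC.FiTF
end

-- part: H713/TC/Fi24Final
section
/-!
# `Fi24'`, the row of S4173 / S2464 / S2452 (helper713)

* `pi` : every element of `Fi24'` is the product of a conjugate of `x0` and a conjugate of `x0⁻¹` (order 23);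
* `row3_Fi24'`, `tc_Fi24'`, `tc6_Fi24'`.
-/

set_option autoImplicit false

open Cfsg Subgroup

namespace Cfsg.Agent.H713.TC.FiTF

theorem pi (g : Spor.Fi24') : PI x0 g :=
  pi_all H133.TC.prd23 (fun k _ => ⟨H293.PwF.x0, H293.PwF.orderOf_x0, H293.PwF.qx_all k⟩) g

theorem row3_model : Cfsg.Agent.H210.TC.Row3 Spor.Fi24' := by
  have hp : (orderOf x0).Prime := by rw [order_x0]; norm_num
  have h6 : Nat.Coprime (orderOf x0) 6 := by rw [order_x0]; norm_num
  refine ⟨x0, x0⁻¹, hp, h6, by rwa [orderOf_inv], by rwa [orderOf_inv], fun g _ => pi g, fun g => ?_⟩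
  obtain ⟨a, b, hab⟩ := H133.TC.prd (x := x0) (y := x0) order_x0 order_x0 (g := x0⁻¹) (by
    rw [H161.Rec.FiTF.sc23 x0⁻¹ (by rw [orderOf_inv, order_x0])]
    norm_num)
  obtain ⟨u, v, h⟩ := pi g
  refine ⟨u, v * a, v * b, ?_⟩
  rw [h, hab]
  group

/-- **the row `Fi24'` of S4173, S2464, S2452** -/
theorem row3_Fi24' {S : Type*} [Group S] (h : Spor.IsoFi24' S) : Cfsg.Agent.H210.TC.Row3 S := by
  obtain ⟨e⟩ := h
  exact Cfsg.Agent.H210.TC.Row3.of_equiv e row3_model

/-- **the row `Fi24'` of S4173** -/
theorem tc_Fi24' {S : Type*} [Group S] (h : Spor.IsoFi24' S) : Cfsg.Agent.H140.TC.TC S := tc_of h pi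

/-- **the row `Fi24'` of S2464** -/
theorem tc6_Fi24' {S : Type*} [Group S] (h : Spor.IsoFi24' S) :
    ∃ x y : S, Nat.Coprime (orderOf x) 6 ∧ Nat.Coprime (orderOf y) 6 ∧
      ∀ g : S, g ≠ 1 → ∃ u v : S, g = (u * x * u⁻¹) * (v * y * v⁻¹) := tc6_of h pi

end Cfsg.Agent.H713.TC.FiTF
end

-- part: H980/TC/ThPairs
section
/-!
# S4173, row `Th`: explicit pairs (helper980)

`x = w31` of order 31 and `y = y19` of order 19. The involution `a`, the elements `X3`, `X33`, `X333` of order 3 and
`W9a`, `W9b` of order 9 of `C(a)` are products of a conjugate of `x` and a conjugate of `y`: kernel checks in `GL₂₄₈(3)`.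
-/

set_option autoImplicit false
set_option Elab.async false
set_option maxRecDepth 100000

namespace Cfsg.Agent.H980.TC.Th

open Subgroup Cfsg Cfsg.Agent.H964.NoHall Cfsg.Agent.H65.Ore
open Cfsg.Agent.Th.Gen248 Cfsg.Agent.Th.Hom248 Cfsg.Agent.Th.Simple19 Cfsg.Agent.Th.Final
open Cfsg.Agent.Th.IndexUpper (gTh)
open Cfsg.Agent.Th.Word (ev)
open Cfsg.Agent.CpAutTh.Data (X3 X33 X333)
open Cfsg.Agent.H980.Ore.PwTh (W9a W9b)

/-- letters -/
def ltr : ℕ → Lt
  | 1 => .a
  | 2 => .b
  | 3 => .c
  | 4 => .d
  | 5 => .e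
  | 6 => .s
  | 7 => .S
  | 8 => .t
  | 9 => .T
  | 10 => .u
  | _ => .U

theorem thE_ltr (n : ℕ) (h1 : 1 ≤ n) (h2 : n ≤ 11) : thE (.g (ltr n)) = gTh n := by
  interval_cases n <;> rfl

/-- lists of letters -/
def wn (l : List ℕ) : Wd := wl (l.map ltr)

theorem thE_wn : ∀ l : List ℕ, (∀ n ∈ l, 1 ≤ n ∧ n ≤ 11) → thE (wn l) = ev gTh l
  | [], _ => rfl
  | [x], h => by
    have h1 := h x (by simp)
    show thE (.g (ltr x)) = gTh x * 1
    rw [thE_ltr x h1.1 h1.2, mul_one]
  | x :: y :: l, h => by
    have h1 := h x (by simp)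
    have ih := thE_wn (y :: l) fun n hn => h n (List.mem_cons_of_mem _ hn)
    show thE (.g (ltr x)) * thE (wn (y :: l)) = gTh x * ev gTh (y :: l)
    rw [thE_ltr x h1.1 h1.2, ih]

/-- the element of order 31 -/
noncomputable def x31 : Spor.Th := thE H444.ThWord.wW

/-- the element of order 19 -/
noncomputable def y19 : Spor.Th := thE thW

theorem order_x : orderOf x31 = 31 := H444.ThWord.w_order
theorem order_y : orderOf y19 = 19 := thW_order

/-! ### elements of order 19 -/

theorem conj_pow_of {h : Spor.Th} {a : ℕ} (e : h * y19 = y19 ^ a * h) (m : ℕ) : h * y19 ^ m * h⁻¹ = y19 ^ (a * m) := by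
  have h1 : h * y19 * h⁻¹ = y19 ^ a := by rw [e, mul_inv_cancel_right]
  rw [← conj_pow, h1, pow_mul]

theorem isConj_pow {h : Spor.Th} {a : ℕ} (e : h * y19 = y19 ^ a * h) {m : ℕ} (hm : IsConj y19 (y19 ^ m)) :
    IsConj y19 (y19 ^ (a * m)) :=
  hm.trans (isConj_iff.2 ⟨h, conj_pow_of e m⟩)

theorem isConj_six (i : ℕ) : IsConj y19 (y19 ^ (6 ^ i)) := by
  induction i with
  | zero => rw [pow_zero, pow_one]
  | succ i ih => rw [pow_succ']; exact isConj_pow thH_conj ih

theorem isConj_all (m : ℕ) (hm : y19 ^ m ≠ 1) : IsConj y19 (y19 ^ m) := by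
  have h1 : y19 ^ m = y19 ^ (m % 19) := by rw [← order_y, pow_mod_orderOf]
  rw [h1] at hm ⊢
  have h2 : m % 19 < 19 := Nat.mod_lt _ (by norm_num)
  generalize m % 19 = k at hm h2 ⊢
  have key : ∀ k < 19, k ≠ 0 → (∃ i < 9, 6 ^ i % 19 = k) ∨ ∃ i < 9, 18 * 6 ^ i % 19 = k := by decide
  have hk : k ≠ 0 := by
    rintro rfl
    exact hm (pow_zero _)
  have hp : ∀ n, y19 ^ n = y19 ^ (n % 19) := fun n => by rw [← order_y, pow_mod_orderOf]
  rcases key k h2 hk with ⟨i, -, hi⟩ | ⟨i, -, hi⟩
  · rw [← hi, ← hp]
    exact isConj_six i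
  · rw [← hi, ← hp]
    exact isConj_pow thA_conj (isConj_six i)

/-- **the elements of order 19 are conjugate** -/
theorem conj_nineteen {v : Spor.Th} (hv : orderOf v = 19) : ∃ k : Spor.Th, v = k * y19 * k⁻¹ := by
  have : Finite Spor.Th := Nat.finite_of_card_ne_zero (by rw [card_Th]; norm_num)
  have : Fact (Nat.Prime 19) := ⟨by norm_num⟩
  have hf : (Nat.card Spor.Th).factorization 19 = 1 := by
    rw [card_Th, show (90745943887872000 : ℕ) = 19 * 4776102309888000 by norm_num,
      Nat.factorization_mul (by norm_num) (by norm_num), Finsupp.add_apply,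
      Nat.Prime.factorization_self (by norm_num), Nat.factorization_eq_zero_of_not_dvd (by norm_num)]
  obtain ⟨g, m, e⟩ := Cfsg.Agent.H980.Ore.ThLoc.exists_conj_pow hf order_y hv
  rw [conj_pow] at e
  have hm : y19 ^ m ≠ 1 := by
    intro h1
    rw [h1, mul_one, mul_inv_cancel] at e
    rw [e, orderOf_one] at hv
    norm_num at hv
  obtain ⟨k, hk⟩ := isConj_iff.1 (isConj_all m hm)
  refine ⟨g * k, ?_⟩
  rw [e, ← hk]
  group

/-! ### the pairs -/

/-- the second factor -/
def V (h t : List ℕ) : Wd := .mul (.mul (.mul (wn h) (.inv H444.ThWord.wW)) (.inv (wn h))) (wn t)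

theorem thE_inv (w : Wd) : thE (.inv w) = (thE w)⁻¹ := rfl

theorem prd_of {h t : List ℕ} (ht : ∀ n ∈ t, 1 ≤ n ∧ n ≤ 11)
    (h1 : Nat.beq (evN false (p19 (V h t))) (evN false .one) = true)
    (h2 : Nat.beq (evN false (V h t)) (evN false .one) = false) : Prd x31 y19 (ev gTh t) := by
  have h3 : orderOf (thE (V h t)) = 19 := order19 rho_injective h1 h2
  obtain ⟨k, hk⟩ := conj_nineteen h3
  refine ⟨thE (wn h), k, ?_⟩
  rw [← hk, V, thE_mul, thE_mul, thE_mul, thE_inv, thE_inv, thE_wn t ht, x31]
  group

private theorem kall_p0 :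
    Nat.beq (Cfsg.Agent.Th.Bit3.ev3 false (p19 (V [2, 1, 3, 4] [1]))) (Cfsg.Agent.Th.Bit3.ev3 false .one) = true ∧
    Nat.beq (Cfsg.Agent.Th.Bit3.ev3 false (V [2, 1, 3, 4] [1])) (Cfsg.Agent.Th.Bit3.ev3 false .one) = false ∧
    Nat.beq (Cfsg.Agent.Th.Bit3.ev3 false (p19 (V [2, 10] X3))) (Cfsg.Agent.Th.Bit3.ev3 false .one) = true ∧
    Nat.beq (Cfsg.Agent.Th.Bit3.ev3 false (V [2, 10] X3)) (Cfsg.Agent.Th.Bit3.ev3 false .one) = false ∧
    Nat.beq (Cfsg.Agent.Th.Bit3.ev3 false (p19 (V [6, 5, 4] X33))) (Cfsg.Agent.Th.Bit3.ev3 false .one) = true ∧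
    Nat.beq (Cfsg.Agent.Th.Bit3.ev3 false (V [6, 5, 4] X33)) (Cfsg.Agent.Th.Bit3.ev3 false .one) = false := by
  decide +kernel

private theorem kall_p1 :
    Nat.beq (Cfsg.Agent.Th.Bit3.ev3 false (p19 (V [3, 2, 1] X333))) (Cfsg.Agent.Th.Bit3.ev3 false .one) = true ∧
    Nat.beq (Cfsg.Agent.Th.Bit3.ev3 false (V [3, 2, 1] X333)) (Cfsg.Agent.Th.Bit3.ev3 false .one) = false ∧
    Nat.beq (Cfsg.Agent.Th.Bit3.ev3 false (p19 (V [4] W9a))) (Cfsg.Agent.Th.Bit3.ev3 false .one) = true ∧
    Nat.beq (Cfsg.Agent.Th.Bit3.ev3 false (V [4] W9a)) (Cfsg.Agent.Th.Bit3.ev3 false .one) = false ∧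
    Nat.beq (Cfsg.Agent.Th.Bit3.ev3 false (p19 (V [5] W9b))) (Cfsg.Agent.Th.Bit3.ev3 false .one) = true ∧
    Nat.beq (Cfsg.Agent.Th.Bit3.ev3 false (V [5] W9b)) (Cfsg.Agent.Th.Bit3.ev3 false .one) = false := by
  decide +kernel

private theorem kall : Nat.beq (Cfsg.Agent.Th.Bit3.ev3 false (p19 (V [2, 1, 3, 4] [1]))) (Cfsg.Agent.Th.Bit3.ev3 false .one) = true ∧
    Nat.beq (Cfsg.Agent.Th.Bit3.ev3 false (V [2, 1, 3, 4] [1])) (Cfsg.Agent.Th.Bit3.ev3 false .one) = false ∧
    Nat.beq (Cfsg.Agent.Th.Bit3.ev3 false (p19 (V [2, 10] X3))) (Cfsg.Agent.Th.Bit3.ev3 false .one) = true ∧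
    Nat.beq (Cfsg.Agent.Th.Bit3.ev3 false (V [2, 10] X3)) (Cfsg.Agent.Th.Bit3.ev3 false .one) = false ∧
    Nat.beq (Cfsg.Agent.Th.Bit3.ev3 false (p19 (V [6, 5, 4] X33))) (Cfsg.Agent.Th.Bit3.ev3 false .one) = true ∧
    Nat.beq (Cfsg.Agent.Th.Bit3.ev3 false (V [6, 5, 4] X33)) (Cfsg.Agent.Th.Bit3.ev3 false .one) = false ∧
    Nat.beq (Cfsg.Agent.Th.Bit3.ev3 false (p19 (V [3, 2, 1] X333))) (Cfsg.Agent.Th.Bit3.ev3 false .one) = true ∧
    Nat.beq (Cfsg.Agent.Th.Bit3.ev3 false (V [3, 2, 1] X333)) (Cfsg.Agent.Th.Bit3.ev3 false .one) = false ∧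
    Nat.beq (Cfsg.Agent.Th.Bit3.ev3 false (p19 (V [4] W9a))) (Cfsg.Agent.Th.Bit3.ev3 false .one) = true ∧
    Nat.beq (Cfsg.Agent.Th.Bit3.ev3 false (V [4] W9a)) (Cfsg.Agent.Th.Bit3.ev3 false .one) = false ∧
    Nat.beq (Cfsg.Agent.Th.Bit3.ev3 false (p19 (V [5] W9b))) (Cfsg.Agent.Th.Bit3.ev3 false .one) = true ∧
    Nat.beq (Cfsg.Agent.Th.Bit3.ev3 false (V [5] W9b)) (Cfsg.Agent.Th.Bit3.ev3 false .one) = false :=
  ⟨kall_p0.1, kall_p0.2.1, kall_p0.2.2.1, kall_p0.2.2.2.1, kall_p0.2.2.2.2.1, kall_p0.2.2.2.2.2, kall_p1.1, kall_p1.2.1, kall_p1.2.2.1, kall_p1.2.2.2.1, kall_p1.2.2.2.2.1, kall_p1.2.2.2.2.2⟩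

theorem ka : Nat.beq (evN false (p19 (V [2, 1, 3, 4] [1]))) (evN false .one) = true :=
  Cfsg.Agent.Th.Bit3.beq_evN kall.1
theorem na : Nat.beq (evN false (V [2, 1, 3, 4] [1])) (evN false .one) = false :=
  Cfsg.Agent.Th.Bit3.beq_evN kall.2.1
theorem k3 : Nat.beq (evN false (p19 (V [2, 10] X3))) (evN false .one) = true :=
  Cfsg.Agent.Th.Bit3.beq_evN kall.2.2.1
theorem n3 : Nat.beq (evN false (V [2, 10] X3)) (evN false .one) = false :=
  Cfsg.Agent.Th.Bit3.beq_evN kall.2.2.2.1
theorem k33 : Nat.beq (evN false (p19 (V [6, 5, 4] X33))) (evN false .one) = true :=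
  Cfsg.Agent.Th.Bit3.beq_evN kall.2.2.2.2.1
theorem n33 : Nat.beq (evN false (V [6, 5, 4] X33)) (evN false .one) = false :=
  Cfsg.Agent.Th.Bit3.beq_evN kall.2.2.2.2.2.1
theorem k333 : Nat.beq (evN false (p19 (V [3, 2, 1] X333))) (evN false .one) = true :=
  Cfsg.Agent.Th.Bit3.beq_evN kall.2.2.2.2.2.2.1
theorem n333 : Nat.beq (evN false (V [3, 2, 1] X333)) (evN false .one) = false :=
  Cfsg.Agent.Th.Bit3.beq_evN kall.2.2.2.2.2.2.2.1
theorem k9a : Nat.beq (evN false (p19 (V [4] W9a))) (evN false .one) = true :=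
  Cfsg.Agent.Th.Bit3.beq_evN kall.2.2.2.2.2.2.2.2.1
theorem n9a : Nat.beq (evN false (V [4] W9a)) (evN false .one) = false :=
  Cfsg.Agent.Th.Bit3.beq_evN kall.2.2.2.2.2.2.2.2.2.1
theorem k9b : Nat.beq (evN false (p19 (V [5] W9b))) (evN false .one) = true :=
  Cfsg.Agent.Th.Bit3.beq_evN kall.2.2.2.2.2.2.2.2.2.2.1
theorem n9b : Nat.beq (evN false (V [5] W9b)) (evN false .one) = false :=
  Cfsg.Agent.Th.Bit3.beq_evN kall.2.2.2.2.2.2.2.2.2.2.2

theorem prd_a : Prd x31 y19 (gTh 1) := by
  have := prd_of (t := [1]) (by decide) ka na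
  rwa [show ev gTh [1] = gTh 1 from mul_one _] at this

theorem prd_X3 : Prd x31 y19 (ev gTh X3) := prd_of (by decide) k3 n3
theorem prd_X33 : Prd x31 y19 (ev gTh X33) := prd_of (by decide) k33 n33
theorem prd_X333 : Prd x31 y19 (ev gTh X333) := prd_of (by decide) k333 n333
theorem prd_9a : Prd x31 y19 (ev gTh W9a) := prd_of (by decide) k9a n9a
theorem prd_9b : Prd x31 y19 (ev gTh W9b) := prd_of (by decide) k9b n9b

end Cfsg.Agent.H980.TC.Th
end

-- part: H980/TC/ThOne
section
/-!
# S4173, row `Th`: the class product sieve at 31 and 19 (helper980)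

* 4200 is no degree (the Sylow 5-subgroup has order 125 and its nontrivial elements are conjugate);
* `prd_of_card` : `x` of order 31, `y` of order 19, `|C(g)| ≤ 14019231` : `g` is a product of a conjugate of `x` and a
  conjugate of `y`.
-/

set_option autoImplicit false
set_option maxRecDepth 100000

namespace Cfsg.Agent.H980.TC.Th

open Cfsg Subgroup Cfsg.Agent.H511.Ore Cfsg.Agent.H174.Ore Cfsg.Agent.H174.Ore.Th
open Cfsg.Agent.H653.Sieve Cfsg.Agent.H651.Two Cfsg.Agent.H777.Ore Cfsg.Agent.H65.Ore

/-- **4200 is not a degree.** -/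
theorem noDeg' : NoDeg Spor.Th [4200] := by
  have := H174.Ore.Th.finite
  have := H174.Ore.Th.simple
  intro χ hχ
  obtain ⟨_, x, y, z, a, D⟩ := H49.ThFive.exists_dat
  simp only [List.mem_cons, List.not_mem_nil, or_false] at hχ
  have hne : (χ : Spor.Th → ℂ) ≠ 1 := by
    intro h
    rw [h] at hχ
    have : charDegree (1 : Spor.Th → ℂ) = 1 := by
      unfold charDegree
      simp
    rw [this] at hχ
    norm_num at hχ
  obtain ⟨b, hb1, hb2, hb⟩ := fused_val (S := H49.ThFive.PP x y z) (by rw [D.card_P]; norm_num) (z := z)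
    (fun u hu hu1 => isConj_iff.2 (D.conj_z hu hu1)) hne
  rw [D.card_P, hχ] at hb hb2
  have hc : Nat.card (centralizer ({z} : Set Spor.Th)) ≤ 3000 := D.card_C.le
  have h2 := sq_le hb hc
  have h3 : b ≤ 33 := by omega
  have h4 : (b : ℤ) ≤ 33 := by exact_mod_cast h3
  push_cast at h2
  nlinarith

/-- degrees prime to 31 and 19 -/
def pT (d : ℕ) : Bool := !Nat.beq (d % 31) 0 && !Nat.beq (d % 19) 0

theorem degT : DegOn Spor.Th pT 27000 := by
  have := H174.Ore.Th.finite
  have := H174.Ore.Th.simple
  exact degOn_of_check nonab 90745943887872000 card fac chk2 chk3 cd chk1 has minDeg_zero noDeg' (by decide +kernel)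

theorem sc31 : SC Spor.Th 31 143 := by
  have := H174.Ore.Th.finite
  have := H174.Ore.Th.simple
  obtain ⟨f, hf⟩ := exists_emb
  obtain ⟨x, hx⟩ := exists_ord (r := 31) (by norm_num) (by norm_num)
  exact sc_of nonab (by norm_num) card hx (H829.Pw.th_cent31 hf hx) 15 2 143 (by decide +kernel)

theorem sc19 : SC Spor.Th 19 19 := by
  have := H174.Ore.Th.finite
  have := H174.Ore.Th.simple
  obtain ⟨f, hf⟩ := exists_emb
  obtain ⟨x, hx⟩ := exists_ord (r := 19) (by norm_num) (by norm_num)
  exact sc_of nonab (by norm_num) card hx (H829.Pw.th_cent19 hf hx).1 18 1 19 (by decide +kernel)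

/-- **The class product sieve.** -/
theorem prd_of_card {x y g : Spor.Th} (hx : orderOf x = 31) (hy : orderOf y = 19)
    (hg : Nat.card (centralizer ({g} : Set Spor.Th)) ≤ 14019231) : Prd x y g := by
  have := H174.Ore.Th.finite
  refine sc31.prd_two sc19 hx hy (B := 53) (by norm_num) (d := 27000) (fun χ hχ h1 h2 => ?_) hg (by norm_num)
  refine degT χ hχ ?_
  rw [pT, Bool.and_eq_true, Bool.not_eq_true', Bool.not_eq_true', ← Bool.not_eq_true, ← Bool.not_eq_true, Nat.beq_eq,
    Nat.beq_eq]
  exact ⟨fun h => h1 (Nat.dvd_of_mod_eq_zero h), fun h => h2 (Nat.dvd_of_mod_eq_zero h)⟩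

end Cfsg.Agent.H980.TC.Th
end

-- part: H980/TC/ThTC
section
/-!
# S4173 (and S2464), row `Th` (helper980)

`prd_th` : every `g ≠ 1` of the Thompson group is a product of a conjugate of `x31` (order 31) and a conjugate of `y19`
(order 19).
-/

set_option autoImplicit false
set_option maxRecDepth 100000

namespace Cfsg.Agent.H980.TC.Th

open Subgroup Cfsg Cfsg.Agent.H980.Ore.ThLoc Cfsg.Agent.H980.Ore.PwTh Cfsg.Agent.H980.Ore Cfsg.Agent.H65.Ore
open Cfsg.Agent.Th.Base Cfsg.Agent.Th.Word Cfsg.Agent.Th.RelWords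
  Cfsg.Agent.Th.CStruct Cfsg.Agent.Th.COracleDef Cfsg.Agent.Th.IndexUpper
open Cfsg.Agent.KFacts.Th.Mask Cfsg.Agent.KFacts.Th.Struct
open Cfsg.Agent.CpAutTh.Local Cfsg.Agent.CpAutTh.Data Cfsg.Agent.CpAutTh.Alt Cfsg.Agent.H723.Spor.ThMix

universe u

theorem prd_of_conj {G : Type*} [Group G] {x y g c : G} (h : Prd x y (c * g * c⁻¹)) : Prd x y g := by
  have h1 := h.conj c⁻¹
  rwa [show c⁻¹ * (c * g * c⁻¹) * c⁻¹⁻¹ = g by group] at h1

section

variable {G : Type u} [Group G] {γ : ℕ → G} (h : Ctx γ)
  {π : Subgroup.centralizer ({γ 1} : Set G) →* alternatingGroup (Fin 9)}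
  (D : Cfsg.Agent.KFacts.LargeSheet.Data (Q0 γ) (γ 1) (alternatingGroup (Fin 9)) π)
include h D

/-- the noncentral elements of `Q` have at least ten conjugates -/
theorem ten_mul {c : Subgroup.centralizer ({γ 1} : Set G)} (hc : c ∈ π.ker) (h1 : c ≠ 1) (h2 : c ≠ zz γ) :
    10 * Nat.card (centralizer ({c} : Set (Subgroup.centralizer ({γ 1} : Set G)))) ≤
      Nat.card (Subgroup.centralizer ({γ 1} : Set G)) := by
  have hfin := h.fin
  have hz : ∀ g : Subgroup.centralizer ({γ 1} : Set G), g * zz γ = zz γ * g := (es D).central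
  have hzz : zz γ * zz γ = 1 := (es D).sq
  -- `c` and `c z` are conjugate
  obtain ⟨q, hq⟩ : ∃ q : Subgroup.centralizer ({γ 1} : Set G), q * c * q⁻¹ = c * zz γ := by
    have : ∃ y ∈ π.ker, c * y ≠ y * c := by
      by_contra hno
      push Not at hno
      rcases (es D).nd _ hc (fun y hy => hno y hy) with e1 | e1
      · exact h1 e1
      · exact h2 e1
    obtain ⟨y, hy, hne⟩ := this
    rcases (es D).comm c hc y hy with e | e
    · exact absurd e hne
    · refine ⟨y⁻¹, ?_⟩
      rw [inv_inv, mul_assoc, e]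
      group
  have hqe : ∀ e : ℕ, q ^ e * c * (q ^ e)⁻¹ = c * zz γ ^ e := by
    intro e
    induction e with
    | zero => simp
    | succ e ih =>
      calc q ^ (e + 1) * c * (q ^ (e + 1))⁻¹ = q * (q ^ e * c * (q ^ e)⁻¹) * q⁻¹ := by rw [pow_succ']; group
        _ = (q * c * q⁻¹) * (q * zz γ ^ e * q⁻¹) := by rw [ih]; group
        _ = c * zz γ * zz γ ^ e := by
            rw [hq, (Commute.pow_right (show Commute q (zz γ) from hz q) e).eq, mul_inv_cancel_right]
        _ = _ := by rw [pow_succ', mul_assoc]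
  have key : ∀ (i e : ℕ) (d : Subgroup.centralizer ({γ 1} : Set G)), d * c = c * d →
      (yy h ^ i * q ^ e * d) * c * (yy h ^ i * q ^ e * d)⁻¹ = yy h ^ i * c * (yy h ^ i)⁻¹ * zz γ ^ e := by
    intro i e d hd
    calc (yy h ^ i * q ^ e * d) * c * (yy h ^ i * q ^ e * d)⁻¹
        = yy h ^ i * (q ^ e * (d * c * d⁻¹) * (q ^ e)⁻¹) * (yy h ^ i)⁻¹ := by group
      _ = yy h ^ i * (c * zz γ ^ e) * (yy h ^ i)⁻¹ := by rw [hd, mul_inv_cancel_right, hqe]
      _ = (yy h ^ i * c) * (zz γ ^ e * (yy h ^ i)⁻¹) := by group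
      _ = (yy h ^ i * c) * ((yy h ^ i)⁻¹ * zz γ ^ e) := by
          rw [(Commute.pow_right (show Commute (yy h ^ i)⁻¹ (zz γ) from hz _) e).eq]
      _ = _ := by group
  have h5 : ∀ n : ℕ, yy h ^ n = yy h ^ (n % 5) := by
    intro n
    conv_lhs => rw [← Nat.div_add_mod n 5, pow_add, pow_mul, yy_pow, one_pow, one_mul]
  have hze : ∀ e : ℕ, zz γ ^ e = 1 ∨ zz γ ^ e = zz γ := by
    intro e
    induction e with
    | zero => left; rw [pow_zero]
    | succ e ih =>
      rcases ih with ih | ih
      · right; rw [pow_succ, ih, one_mul]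
      · left; rw [pow_succ, ih, hzz]
  let F : (Fin 5 × Fin 2) × centralizer ({c} : Set (Subgroup.centralizer ({γ 1} : Set G))) →
      Subgroup.centralizer ({γ 1} : Set G) := fun p => yy h ^ (p.1.1 : ℕ) * q ^ (p.1.2 : ℕ) * p.2
  have hF : Function.Injective F := by
    rintro ⟨⟨i, e⟩, d⟩ ⟨⟨j, f⟩, d'⟩ hp
    have hp' : yy h ^ (i : ℕ) * q ^ (e : ℕ) * (d : Subgroup.centralizer ({γ 1} : Set G)) =
        yy h ^ (j : ℕ) * q ^ (f : ℕ) * (d' : Subgroup.centralizer ({γ 1} : Set G)) := hp
    have k1 := key i e d (mem_centralizer_singleton_iff.1 d.2)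
    have k2 := key j f d' (mem_centralizer_singleton_iff.1 d'.2)
    rw [hp', k2] at k1
    -- `i = j`
    have hij : i = j := by
      by_contra hne
      have hfx : Fx γ c (yy h ^ ((i : ℕ) + 4 * j)) := by
        have e1 : yy h ^ ((i : ℕ) + 4 * j) = (yy h ^ (j : ℕ))⁻¹ * yy h ^ (i : ℕ) := by
          rw [eq_inv_mul_iff_mul_eq, ← pow_add, h5, h5 i]
          congr 1
          omega
        rw [Fx, e1]
        have e2 : (yy h ^ (j : ℕ))⁻¹ * yy h ^ (i : ℕ) * c * ((yy h ^ (j : ℕ))⁻¹ * yy h ^ (i : ℕ))⁻¹ =
            (yy h ^ (j : ℕ))⁻¹ * (yy h ^ (i : ℕ) * c * (yy h ^ (i : ℕ))⁻¹) * yy h ^ (j : ℕ) := by group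
        have hzi : ∀ e : ℕ, (zz γ ^ e)⁻¹ = zz γ ^ e := by
          intro e
          rcases hze e with h3 | h3 <;> rw [h3]
          · exact inv_one
          · exact inv_eq_of_mul_eq_one_left hzz
        have e3 : yy h ^ (i : ℕ) * c * (yy h ^ (i : ℕ))⁻¹ =
            yy h ^ (j : ℕ) * c * (yy h ^ (j : ℕ))⁻¹ * (zz γ ^ (f : ℕ) * zz γ ^ (e : ℕ)) := by
          have := congrArg (fun t => t * (zz γ ^ (e : ℕ))⁻¹) k1
          simp only [mul_inv_cancel_right] at this
          rw [← this, hzi, mul_assoc]
        have e4 : (yy h ^ (j : ℕ))⁻¹ * (yy h ^ (j : ℕ) * c * (yy h ^ (j : ℕ))⁻¹ * (zz γ ^ (f : ℕ) * zz γ ^ (e : ℕ))) *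
            yy h ^ (j : ℕ) = c * (zz γ ^ (f : ℕ) * zz γ ^ (e : ℕ)) := by
          have hc1 : Commute (yy h ^ (j : ℕ)) (zz γ ^ (f : ℕ) * zz γ ^ (e : ℕ)) :=
            (Commute.pow_right (hz _) _).mul_right (Commute.pow_right (hz _) _)
          calc (yy h ^ (j : ℕ))⁻¹ * (yy h ^ (j : ℕ) * c * (yy h ^ (j : ℕ))⁻¹ * (zz γ ^ (f : ℕ) * zz γ ^ (e : ℕ))) *
              yy h ^ (j : ℕ) = c * (yy h ^ (j : ℕ))⁻¹ * ((zz γ ^ (f : ℕ) * zz γ ^ (e : ℕ)) * yy h ^ (j : ℕ)) := by group
            _ = c * (yy h ^ (j : ℕ))⁻¹ * (yy h ^ (j : ℕ) * (zz γ ^ (f : ℕ) * zz γ ^ (e : ℕ))) := by rw [hc1.eq]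
            _ = _ := by group
        rw [e2, e3, e4, ← pow_add]
        rcases hze ((f : ℕ) + e) with h3 | h3 <;> rw [h3]
        · left; rw [mul_one]
        · right; rfl
      -- hence `yy` fixes `c`
      obtain ⟨m, hm⟩ : ∃ m : ℕ, (((i : ℕ) + 4 * j) * m) % 5 = 1 := by
        have key2 : ∀ i j : Fin 5, i ≠ j → ∃ m < 5, (((i : ℕ) + 4 * j) * m) % 5 = 1 := by decide
        obtain ⟨m, -, hm⟩ := key2 i j hne
        exact ⟨m, hm⟩
      have hfx2 := Fx.pow D hfx m
      rw [← pow_mul, h5, hm, pow_one] at hfx2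
      rcases yy_fpf h D hc hfx2 with h3 | h3
      · exact h1 h3
      · exact h2 h3
    subst hij
    have hef : zz γ ^ (f : ℕ) = zz γ ^ (e : ℕ) := mul_left_cancel k1
    have hef' : e = f := by
      have hne : zz γ ≠ 1 := (es D).ne
      fin_cases e <;> fin_cases f <;> simp_all
    subst hef'
    have hd : d = d' := Subtype.ext (mul_left_cancel hp')
    rw [hd]
  have h3 := Nat.card_le_card_of_injective F hF
  rwa [Nat.card_prod, Nat.card_prod, Nat.card_fin, Nat.card_fin] at h3

end

/-! ### involutions -/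

theorem prd_card {g : Spor.Th} (hg : Nat.card (centralizer ({g} : Set Spor.Th)) ≤ 14019231) : Prd x31 y19 g :=
  prd_of_card order_x order_y hg

/-- elements of even order -/
theorem prd_even {g : Spor.Th} (hg : 2 ∣ orderOf g) : Prd x31 y19 g := by
  have hfin : Finite Spor.Th := H174.Ore.Th.finite
  obtain ⟨k, hk⟩ : ∃ k, orderOf (g ^ k) = 2 := ⟨_, orderOf_pow_orderOf_div (orderOf_pos g).ne' hg⟩
  obtain ⟨t, ht⟩ := isConj_iff.1 (MonsterX.ThOneClass.oneClass (g ^ k) (gTh 1) hk MonsterX.ThOneClass.orderOf_a)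
  refine prd_of_conj (c := t) ?_
  have hk' : (t * g * t⁻¹) ^ k = gTh 1 := by rw [← ht, conj_pow]
  generalize t * g * t⁻¹ = y at hk' ⊢
  have hyz : y * gTh 1 = gTh 1 * y := by rw [← hk']; exact ((Commute.refl y).pow_right k).eq
  have hyC : y ∈ Subgroup.centralizer ({gTh 1} : Set Spor.Th) := Subgroup.mem_centralizer_singleton_iff.2 hyz
  obtain ⟨π, D⟩ := Cfsg.Agent.KFacts.Th.Main.exists_data Cfsg.Agent.KFacts.Th.Main.ctx
  have hle : Nat.card (centralizer ({y} : Set Spor.Th)) ≤ Nat.card (centralizer
      ({(⟨y, hyC⟩ : Subgroup.centralizer ({gTh 1} : Set Spor.Th))} : Set (Subgroup.centralizer ({gTh 1} : Set Spor.Th)))) := by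
    refine Nat.card_le_card_of_injective (fun c => ⟨⟨(c : Spor.Th), ?_⟩, ?_⟩) ?_
    · rw [Subgroup.mem_centralizer_singleton_iff, ← hk']
      have h1 : Commute (c : Spor.Th) y := mem_centralizer_singleton_iff.1 c.2
      exact (h1.pow_right k).eq
    · exact mem_centralizer_singleton_iff.2 (Subtype.ext (mem_centralizer_singleton_iff.1 c.2))
    · intro a b hab
      have h1 : (a : Spor.Th) = b := by simpa using hab
      exact Subtype.ext h1
  by_cases hker : (⟨y, hyC⟩ : Subgroup.centralizer ({gTh 1} : Set Spor.Th)) ∈ π.ker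
  · by_cases hz : (⟨y, hyC⟩ : Subgroup.centralizer ({gTh 1} : Set Spor.Th)) = zz gTh
    · have h1 : y = gTh 1 := congrArg Subtype.val hz
      rw [h1]
      exact prd_a
    · have hy1 : (⟨y, hyC⟩ : Subgroup.centralizer ({gTh 1} : Set Spor.Th)) ≠ 1 := by
        intro h1
        have h2 : y = 1 := congrArg Subtype.val h1
        rw [h2, one_pow] at hk'
        have h3 := MonsterX.ThOneClass.orderOf_a
        rw [← hk', orderOf_one] at h3
        norm_num at h3
      have h3 := ten_mul Cfsg.Agent.KFacts.Th.Main.ctx D hker hy1 hz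
      rw [MonsterX.ThOneClass.card_a] at h3
      exact prd_card (by omega)
  · exact prd_card (hle.trans ((card_cent_le Cfsg.Agent.KFacts.Th.Main.ctx D hker).trans (by norm_num)))

/-! ### elements of odd order -/

section

variable {f : sub gTh isC →* alternatingGroup (Fin 9)} (F : Epi gTh f)
include F

omit F in
theorem prd_of' {X : List ℕ} (hX : ∀ x ∈ X, isC x = true) (hp : Prd x31 y19 (ev gTh X)) {x : sub gTh isC}
    (hx : ∃ g : sub gTh isC, g * x * g⁻¹ = ⟨ev gTh X, ev_mem_sub hX⟩) : Prd x31 y19 (x : Spor.Th) := by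
  obtain ⟨g, hg⟩ := hx
  have h1 : (g : Spor.Th) * x * (g : Spor.Th)⁻¹ = ev gTh X := congrArg Subtype.val hg
  rw [← h1] at hp
  exact prd_of_conj hp

theorem prd_three {x : sub gTh isC} (hx : orderOf x = 3) : Prd x31 y19 (x : Spor.Th) := by
  obtain ⟨g, h1⟩ := exists_rep_three Cfsg.Agent.KFacts.Th.Main.ctx F hx
  rcases h1 with h1 | h1 | h1
  · exact prd_of' c3 prd_X3 ⟨g, h1⟩
  · exact prd_of' c33 prd_X33 ⟨g, h1⟩
  · exact prd_of' c333 prd_X333 ⟨g, h1⟩

theorem prd_nine {x : sub gTh isC} (hx : orderOf x = 9)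
    (ht : ((f x : alternatingGroup (Fin 9)) : Equiv.Perm (Fin 9)).cycleType = {9}) : Prd x31 y19 (x : Spor.Th) := by
  have h := Cfsg.Agent.KFacts.Th.Main.ctx
  have := finC h
  obtain ⟨σ, hσ⟩ := isConj_iff.1 (Equiv.Perm.isConj_iff_cycleType_eq.2 (ht.trans t9a.symm))
  have key : ∀ (X : List ℕ) (hX : ∀ x ∈ X, isC x = true) (h1 : corc (pw X 9) = true)
      (h2 : (pm9 X).cycleType = {9}) (π : Equiv.Perm (Fin 9)) (hπ : Equiv.Perm.sign π = 1)
      (hc : π * ((f x : alternatingGroup (Fin 9)) : Equiv.Perm (Fin 9)) * π⁻¹ = pm9 X),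
      ∃ g : sub gTh isC, g * x * g⁻¹ = ⟨ev gTh X, ev_mem_sub hX⟩ := by
    intro X hX h1 h2 π hπ hc
    obtain ⟨k, hk⟩ := F.surj ⟨π, Equiv.Perm.mem_alternatingGroup.2 hπ⟩
    have h3 : f (k * x * k⁻¹) = f ⟨ev gTh X, ev_mem_sub hX⟩ := by
      apply Subtype.ext
      rw [F.word X hX, ← hc, map_mul, map_mul, map_inv, hk]
      rfl
    have h4 : orderOf (k * x * k⁻¹) = 3 ^ 2 := by
      rw [show (3 ^ 2 : ℕ) = 9 by norm_num, ← hx]
      exact MulEquiv.orderOf_eq (MulAut.conj k) x
    obtain ⟨q, hq⟩ := conj_of_quot Nat.prime_two Nat.prime_three (by norm_num) f (ker_two h F) h4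
      (order9 h F hX h1 h2) h3
    refine ⟨q * k, ?_⟩
    rw [← hq]
    group
  rcases Int.units_eq_one_or (Equiv.Perm.sign σ) with h1 | h1
  · exact prd_of' c9a prd_9a (key W9a c9a PwTh.k9a t9a σ h1 hσ)
  · refine prd_of' c9b prd_9b (key W9b c9b PwTh.k9b t9b (tau * σ) ?_ ?_)
    · rw [map_mul, h1, tau_sign]; decide
    · have h2 : tau * pm9 W9a * tau⁻¹ = pm9 W9b := by rw [tau_conj, mul_inv_cancel_right]
      rw [← h2, ← hσ]
      group

end

/-- elements over an element of order 5 or 7 -/
theorem prd_five_seven {g : Spor.Th} {p : ℕ} (hp : p = 5 ∨ p = 7) (hd : p ∣ orderOf g) : Prd x31 y19 g := by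
  have hfin : Finite Spor.Th := H174.Ore.Th.finite
  have ho : orderOf (g ^ (orderOf g / p)) = p := orderOf_pow_orderOf_div (orderOf_pos g).ne' hd
  have hle : Nat.card (centralizer ({g} : Set Spor.Th)) ≤ Nat.card (centralizer ({g ^ (orderOf g / p)} : Set Spor.Th)) := by
    apply Subgroup.card_le_of_le
    intro c hc
    have h2 : Commute c g := mem_centralizer_singleton_iff.1 hc
    exact mem_centralizer_singleton_iff.2 (h2.pow_right _).eq
  apply prd_card
  refine hle.trans ?_
  rcases hp with rfl | rfl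
  · obtain ⟨_, x', y', z', a', D⟩ := H49.ThFive.exists_dat
    obtain ⟨w, hw⟩ := D.all ho
    have h2 : Nat.card (centralizer ({g ^ (orderOf g / 5)} : Set Spor.Th)) = Nat.card (centralizer ({z'} : Set Spor.Th)) :=
      (Cfsg.Agent.Blocks.SylowIn.card_centralizer_of_isConj (isConj_iff.2 ⟨w, hw⟩)).symm
    rw [h2, D.card_C]
    norm_num
  · rw [Cfsg.Agent.H468.PW.ThP.card_cent ho]
    norm_num

/-- elements of odd order which commute with an involution -/
theorem prd_odd {g i : Spor.Th} (hg1 : g ≠ 1) (hi : orderOf i = 2) (hgi : g * i = i * g) (hg : ¬ 2 ∣ orderOf g) :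
    Prd x31 y19 g := by
  have hfin : Finite Spor.Th := H174.Ore.Th.finite
  by_cases h5 : 5 ∣ orderOf g
  · exact prd_five_seven (Or.inl rfl) h5
  by_cases h7 : 7 ∣ orderOf g
  · exact prd_five_seven (Or.inr rfl) h7
  obtain ⟨t, ht⟩ := isConj_iff.1 (MonsterX.ThOneClass.oneClass i (gTh 1) hi MonsterX.ThOneClass.orderOf_a)
  refine prd_of_conj (c := t) ?_
  have hy : (t * g * t⁻¹) * gTh 1 = gTh 1 * (t * g * t⁻¹) := by
    rw [← ht]
    calc t * g * t⁻¹ * (t * i * t⁻¹) = t * (g * i) * t⁻¹ := by group
      _ = t * (i * g) * t⁻¹ := by rw [hgi]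
      _ = _ := by group
  have ho : orderOf (t * g * t⁻¹) = orderOf g := MulEquiv.orderOf_eq (MulAut.conj t) g
  have hne : t * g * t⁻¹ ≠ 1 := fun h => hg1 (by
    have h1 : t * g = t := by rw [mul_inv_eq_one] at h; exact h
    exact mul_eq_left.1 h1)
  rw [← ho] at hg h5 h7
  generalize t * g * t⁻¹ = y at hy hg hne h5 h7 ⊢
  have h := Cfsg.Agent.KFacts.Th.Main.ctx
  obtain ⟨f, F⟩ := exists_epi h
  have hyC : y ∈ sub gTh isC := h.mem_C.2 hy
  obtain ⟨x, hx⟩ : ∃ x : sub gTh isC, (x : Spor.Th) = y := ⟨⟨y, hyC⟩, rfl⟩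
  rw [← hx, Subgroup.orderOf_coe] at hg h5 h7
  rw [← hx] at hne
  rw [← hx]
  -- the order of the image
  have hof : orderOf (f x) = orderOf x := by
    apply Nat.dvd_antisymm (orderOf_map_dvd f x)
    apply orderOf_dvd_of_pow_eq_one
    have h1 : x ^ orderOf (f x) ∈ f.ker := by rw [MonoidHom.mem_ker, map_pow, pow_orderOf_eq_one]
    obtain ⟨n, hn⟩ := (ker_two h F) ⟨_, h1⟩
    have h2 : (x ^ orderOf (f x)) ^ 2 ^ n = 1 := congrArg Subtype.val hn
    have h3 := orderOf_dvd_of_pow_eq_one h2
    have h4 : orderOf (x ^ orderOf (f x)) ∣ orderOf x := orderOf_pow_dvd _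
    have h5 : (orderOf x).Coprime (2 ^ n) :=
      Nat.Coprime.pow_right n ((Nat.Prime.coprime_iff_not_dvd Nat.prime_two).2 hg).symm
    have h6 := Nat.Coprime.eq_one_of_dvd (Nat.Coprime.of_dvd_left h4 h5) h3
    exact orderOf_eq_one_iff.1 h6
  by_cases hf1 : f x = 1
  · rw [hf1, orderOf_one] at hof
    exact absurd (by rw [orderOf_eq_one_iff.1 hof.symm]; rfl) hne
  obtain ⟨l, hl, ht⟩ := exists_type (f x) hf1
  have hol : orderOf x = Multiset.lcm (l : Multiset ℕ) := by
    rw [← hof, ← Subgroup.orderOf_coe, ← Equiv.Perm.lcm_cycleType, ht]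
  simp only [Cfsg.Agent.H683.Ore.A9.types, List.mem_cons, List.not_mem_nil, or_false] at hl
  rcases hl with rfl | rfl | rfl | rfl | rfl | rfl | rfl | rfl | rfl | rfl | rfl | rfl | rfl | rfl | rfl
  · exact absurd (hol ▸ (by decide : 2 ∣ Multiset.lcm (([2, 2] : List ℕ) : Multiset ℕ))) hg
  · exact absurd (hol ▸ (by decide : 2 ∣ Multiset.lcm (([2, 2, 2, 2] : List ℕ) : Multiset ℕ))) hg
  · exact prd_three F (hol.trans (by decide))
  · exact absurd (hol ▸ (by decide : 2 ∣ Multiset.lcm (([3, 2, 2] : List ℕ) : Multiset ℕ))) hg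
  · exact prd_three F (hol.trans (by decide))
  · exact prd_three F (hol.trans (by decide))
  · exact absurd (hol ▸ (by decide : 2 ∣ Multiset.lcm (([4, 2] : List ℕ) : Multiset ℕ))) hg
  · exact absurd (hol ▸ (by decide : 2 ∣ Multiset.lcm (([4, 3, 2] : List ℕ) : Multiset ℕ))) hg
  · exact absurd (hol ▸ (by decide : 2 ∣ Multiset.lcm (([4, 4] : List ℕ) : Multiset ℕ))) hg
  · exact absurd (by rw [hol]; decide) h5
  · exact absurd (hol ▸ (by decide : 2 ∣ Multiset.lcm (([5, 2, 2] : List ℕ) : Multiset ℕ))) hg
  · exact absurd (by rw [hol]; decide) h5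
  · exact absurd (hol ▸ (by decide : 2 ∣ Multiset.lcm (([6, 2] : List ℕ) : Multiset ℕ))) hg
  · exact absurd (by rw [hol]; decide) h7
  · exact prd_nine F (hol.trans (by decide)) ht

/-- **Every `g ≠ 1` of the Thompson group is a product of a conjugate of `x31` and a conjugate of `y19`.** -/
theorem prd_th {g : Spor.Th} (hg : g ≠ 1) : Prd x31 y19 g := by
  have := H174.Ore.Th.finite
  by_cases hodd : Odd (Nat.card (centralizer ({g} : Set Spor.Th)))
  · exact prd_card (by have := ThRow.bound hg hodd; omega)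
  rw [Nat.not_odd_iff_even, even_iff_two_dvd] at hodd
  by_cases h2 : 2 ∣ orderOf g
  · exact prd_even h2
  · obtain ⟨i, hiF, hi⟩ := H502.TO.exists_of_dvd Nat.prime_two hodd
    exact prd_odd hg hi (mem_centralizer_singleton_iff.1 hiF).symm h2

/-- **the row, with elements of orders 31 and 19** -/
theorem exists_th {S : Type u} [Group S] (h : Spor.IsoTh S) : ∃ x y : S, orderOf x = 31 ∧ orderOf y = 19 ∧
    ∀ g : S, g ≠ 1 → ∃ u v : S, g = (u * x * u⁻¹) * (v * y * v⁻¹) := by
  obtain ⟨e⟩ := h
  refine ⟨e.symm x31, e.symm y19, by rw [MulEquiv.orderOf_eq]; exact order_x, by rw [MulEquiv.orderOf_eq]; exact order_y,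
    fun g hg => ?_⟩
  obtain ⟨u, v, h1⟩ := prd_th (g := e g) fun h1 => hg (e.injective (by rw [h1, map_one]))
  refine ⟨e.symm u, e.symm v, e.injective ?_⟩
  rw [h1]
  simp

/-- **S2464, row `Th`** -/
theorem tc6_th {S : Type u} [Group S] (h : Spor.IsoTh S) : ∃ x y : S, Nat.Coprime (orderOf x) 6 ∧
    Nat.Coprime (orderOf y) 6 ∧ ∀ g : S, g ≠ 1 → ∃ u v : S, g = (u * x * u⁻¹) * (v * y * v⁻¹) := by
  obtain ⟨x, y, hx, hy, hp⟩ := exists_th h
  exact ⟨x, y, by rw [hx]; decide, by rw [hy]; decide, hp⟩

end Cfsg.Agent.H980.TC.Th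
end

private theorem dce_a361187508e8 : _root_.True := by
  try have : _root_.True := by simp only [_root_.Cfsg.Agent.H980.TC.Th.x31.eq_1]
  try have : _root_.True := by simp only [_root_.Cfsg.Agent.H980.TC.Th.pT.eq_1]
  try have : _root_.True := by simp only [_root_.Cfsg.Agent.H980.Ore.ThLoc.Fx.eq_1]
  try have : _root_.True := by simp only [_root_.Cfsg.Agent.H980.TC.Th.V.eq_1]
  exact _root_.True.intro
end

-- part: H58/TC/Frame
section
set_option linter.all false
open scoped Cfsg.Agent.FastGrp

-- part: H529/MSev/T5941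
section
/-!
# S4173, row M: the classes of elements of orders 59 and 41 (helper529)

* `t1_5941` : `g` is a product of a conjugate of `a` (order 59) and a conjugate of `b` (order 41) as soon as
  `58 (B - 1) < D²`, `|C(g)| ≤ B`, `D ≤ χ(1)` for all nontrivial `χ` of degree prime to 59 and 41;
* `t1_5941'` : the same with the degree hypothesis in the form of the residues.
-/

set_option autoImplicit false
set_option maxRecDepth 100000

namespace Cfsg.Agent.H529.MSev.T5941

open Cfsg Subgroup
open Cfsg.Agent.BpSpor.MBigModel (MG zz cls finite)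
open Cfsg.Agent.H995.CopEngine (AllKnown)
open Cfsg.Agent.H715.Mon.Grp (SThree)
open Cfsg.Agent.Characters.Core
open Cfsg.Agent.H65.Ore (Prd)

/-- the order -/
theorem card_MG : Nat.card MG = 808017424794512875886459904961710757005754368000000000 :=
  BpSpor.MBigModel.card_M

theorem not_comm {x : MG} {p : ℕ} (hp : p < 100) (hc : Nat.card (centralizer ({x} : Set MG)) = p) :
    ¬ IsMulCommutative MG := by
  intro h
  have h1 : centralizer ({x} : Set MG) = ⊤ := by
    rw [eq_top_iff]
    intro y _
    rw [mem_centralizer_singleton_iff]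
    exact h.is_comm.comm y x
  rw [h1, Subgroup.card_top, card_MG] at hc
  omega

theorem cent_59 (hK : AllKnown.{0}) {x : MG} (hx : orderOf x = 59) : Nat.card (centralizer ({x} : Set MG)) = 59 :=
  (H58.Cop.M.norm_fiftynine hK hx).1

theorem cent_41 (hK : AllKnown.{0}) (hS : SThree.{0}) {x : MG} (hx : orderOf x = 41) :
    Nat.card (centralizer ({x} : Set MG)) = 41 :=
  H979.OreM.cent_41 hK (H241.NH.three_of fun X hX hC => hS _ X hX hC) hx

/-- **The pair (59, 41)**, with the residues. -/
theorem t1_5941' (hK : AllKnown.{0}) (hS : SThree.{0}) {D B : ℕ}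
    (hdeg : ∀ χ : IrrCharacter MG, (χ : MG → ℂ) ≠ 1 → charDegree (χ : MG → ℂ) % 59 ∈ [1, 58, 29, 30] →
      charDegree (χ : MG → ℂ) % 41 ∈ [1, 40] → D ≤ charDegree (χ : MG → ℂ))
    (hnum : 58 * (B - 1) < D ^ 2) {a b : MG} (ha : orderOf a = 59) (hb : orderOf b = 41) {g : MG}
    (hg : Nat.card (centralizer ({g} : Set MG)) ≤ B) : Prd a b g := by
  have hsim : IsSimpleGroup MG := BpSpor.MBigModel.simple
  have hfin : Finite MG := finite
  have p41 : Nat.Prime 41 := by norm_num
  have p59 : Nat.Prime 59 := by norm_num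
  have c59 := cent_59 hK ha
  have c41 := cent_41 hK hS hb
  have hna := not_comm (by norm_num) c59
  obtain ⟨NE, X, hD⟩ := H65.Ore.exists_dat hna p41 card_MG hb c41 40 1 (41 ^ 4) (by decide +kernel)
  obtain ⟨NE', X', hD'⟩ := H65.Ore.exists_dat hna p59 card_MG ha c59 29 2 (59 ^ 4) (by decide +kernel)
  have hle : ∀ χ : IrrCharacter MG, ‖(χ : MG → ℂ) b‖ ^ 2 ≤ ((1 : ℕ) : ℝ) := by
    intro χ
    have h1 := H529.Inv.Pair.sq_le_of_dat hD (by norm_num) hb χ
    norm_num at h1 ⊢
    exact h1
  refine (H529.Inv.Pair.prd_pair (mx := 1) (cy := 59) (c := B) (d := D) hle c59.le ?_ hg (by norm_num; exact hnum)).swap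
  intro χ h1 h2 h3
  refine hdeg χ h1 (H529.Inv.Pair.mod_of_dat hD' ha h3) ?_
  have h7 := H529.Inv.Pair.mod_of_dat hD hb h2
  simp only [List.mem_cons, List.not_mem_nil, or_false] at h7 ⊢
  omega

/-- **The pair (59, 41).** -/
theorem t1_5941 (hK : AllKnown.{0}) (hS : SThree.{0}) {D B : ℕ}
    (hdeg : ∀ χ : IrrCharacter MG, (χ : MG → ℂ) ≠ 1 → ¬ 59 ∣ charDegree (χ : MG → ℂ) →
      ¬ 41 ∣ charDegree (χ : MG → ℂ) → D ≤ charDegree (χ : MG → ℂ))
    (hnum : 58 * (B - 1) < D ^ 2) {a b : MG} (ha : orderOf a = 59) (hb : orderOf b = 41) {g : MG}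
    (hg : Nat.card (centralizer ({g} : Set MG)) ≤ B) : Prd a b g := by
  refine t1_5941' hK hS (fun χ h1 h2 h3 => hdeg χ h1 ?_ ?_) hnum ha hb hg
  · simp only [List.mem_cons, List.not_mem_nil, or_false] at h2
    omega
  · simp only [List.mem_cons, List.not_mem_nil, or_false] at h3
    omega

end Cfsg.Agent.H529.MSev.T5941
end

-- part: H529/MSev/Cube59
section
/-!
# S2452, row M: the cube of the class of elements of order 59 (helper529)

* `prd_59` : `a`, `a'` of order 59, `|C(g)| ≤ 59`: `g` is a product of a conjugate of `a` and a conjugate of `a'`;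
* `row3_MG` : the pair (59, 41) gives `Row3`.
-/

set_option autoImplicit false
set_option maxRecDepth 100000

namespace Cfsg.Agent.H529.MSev.Cube59

open Cfsg Subgroup
open Cfsg.Agent.BpSpor.MBigModel
open Cfsg.Agent.H995.CopEngine (AllKnown)
open Cfsg.Agent.H715.Mon.Grp (SThree)
open Cfsg.Agent.Characters.Core
open Cfsg.Agent.H65.Ore (Prd)
open Cfsg.Agent.H529.MSev.T5941 (card_MG cent_59 cent_41 not_comm)

theorem prd_59 (hK : AllKnown.{0}) {a a' : MG} (ha : orderOf a = 59) (ha' : orderOf a' = 59) {g : MG}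
    (hg : Nat.card (centralizer ({g} : Set MG)) ≤ 59) : Prd a a' g := by
  have hsim : IsSimpleGroup MG := BpSpor.MBigModel.simple
  have hfin : Finite MG := finite
  have p59 : Nat.Prime 59 := by norm_num
  have c59 := cent_59 hK ha
  have hna := not_comm (by norm_num) c59
  obtain ⟨NE', X', hD'⟩ := H65.Ore.exists_dat hna p59 card_MG ha c59 29 2 (59 ^ 4) (by decide +kernel)
  have hle : ∀ χ : IrrCharacter MG, ‖(χ : MG → ℂ) a‖ ^ 2 ≤ ((30 : ℕ) : ℝ) := by
    intro χ
    have h1 := H529.Inv.Pair.sq_le_of_dat hD' (by norm_num) ha χ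
    norm_num at h1 ⊢
    exact h1
  exact H529.Inv.Pair.prd_pair (mx := 30) (cy := 59) (c := 59) (d := 196883) hle (cent_59 hK ha').le
    (fun χ h1 _ _ => H606.OreM.min_deg χ h1) hg (by norm_num)

/-- **The row from the pair (59, 41).** -/
theorem row3_MG (hK : AllKnown.{0}) (hS : SThree.{0}) {a b : MG} (ha : orderOf a = 59) (hb : orderOf b = 41)
    (h : ∀ g : MG, g ≠ 1 → Prd a b g) : H210.TC.Row3 MG := by
  refine H210.TC.Row3.of_pair (x := a) (y := b) (by rw [ha]; norm_num) (by rw [ha]; norm_num) (by rw [hb]; norm_num)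
    (by rw [hb]; norm_num) (fun g hg => h g hg) ?_ ?_
  · exact prd_59 hK ha ha (by rw [cent_41 hK hS hb]; norm_num)
  · exact prd_59 hK ha ha (by rw [cent_59 hK (by rw [orderOf_inv, ha])])

end Cfsg.Agent.H529.MSev.Cube59
end

-- part: H606/OreM/CertG
section
/-! # The certificate for the degrees of the Monster prime to 59 and 41 (helper606) -/

set_option autoImplicit false
set_option maxRecDepth 100000

namespace Cfsg.Agent.H606.OreM.Num

/-! ### all the products of powers of two and three at once -/

/-- the numbers `2^i 3^j`, sorted -/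
private noncomputable def sS : ℕ := 0x1e0d84d2cb9aa400006d7935800d800000019fa83722334200000614f4c000c00000001717914902d9000000567f60000a435d04014400000026718000048fb79000900000001151acf6c222c0000040df88000800000000f650b8601e600000039aa400006d7935800d800000019fa83722334200000614f4c000c00000001717914902d9000000567f60000a435d04014400000026718000048fb79000900000001151acf6c222c0000040df88000800000000f650b8601e600000039aa400006d7935800d800000019fa83722334200000614f4c000c00000001717914902d9000000567f60000a435d04014400000026718000048fb79000900000001151acf6c222c0000040df88000800000000f650b8601e600000039aa400006d7935800d800000019a10000030a7a6000600000000b8bc8a4816c8000002b3fb0000521ae8200a20000001338c0000247dbc8004800000008a8d67b6111600000206fc40004000000007b285c300f30000001cd52000036bc9ac006c0000000cd0800001853d30003000000005c5e45240b6400000159fd8000290d7410051000000099c60000123ede40024000000044580000081bf10001000000001eca170c03cc000000735480000daf26b001b0000000334200000614f4c000c00000001717914902d9000000567f600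00a435d04014400000026718000048fb7900090000000111600000206fc40004000000007b285c300f30000001cd52000036bc9ac006c0000000cd0800001853d30003000000005b2000000acfec0001486ba0802880000004ce30000091f6f200120000000222c0000040df88000800000000f650b8601e600000039aa400006d7935800d800000019a10000030a7a6000600000000b6400000159fd8000290d7410051000000099c60000123ede40024000000044580000081bf10001000000001e600000039aa400006d7935800d800000019a10000030a7a6000600000000b6400000159fd8000290d7410051000000099c60000123ede40024000000044580000081bf10001000000001e600000039aa400006d7935800d800000019a10000030a7a6000600000000b6400000159fd80002880000004ce30000091f6f200120000000222c0000040df88000800000000f30000001cd52000036bc9ac006c0000000cd0800001853d30003000000005b2000000acfec00014400000026718000048fb7900090000000111600000206fc4000400000000798000000e6a900001b0000000334200000614f4c000c000000016c8000002b3fb000051000000099c60000123ede40024000000044580000081bf10001000000001e600000039aa400006c0000000cd0800001853d30003000000005b2000000acfec0001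4400000026718000048000000088b000001037e20002000000003cc000000735480000d800000019a10000030a7a6000600000000b6400000159fd80002880000004ce30000090000000111600000206fc4000400000000798000000e6a900001b0000000334200000600000000b6400000159fd80002880000004ce30000090000000111600000206fc4000400000000798000000e6a900001b0000000334200000600000000b6400000159fd80002880000004ce300000900000001116000002000000003cc000000735480000d800000019a1000003000000005b2000000acfec00014400000026718000048000000088b000001000000001e600000039aa400006c0000000cd0800001800000002d900000051000000099c60000120000000222c00000400000000798000000e6a900001b0000000334200000600000000b640000014400000026718000048000000088b000001000000001e6000000360000000668400000c000000016c8000002880000004ce300000900000001116000002000000003cc0000006c0000000cd0800001800000002d9000000510000000900000001116000002000000003cc0000006c0000000cd0800001800000002d9000000510000000900000001116000002000000003cc0000006c0000000c000000016c80000028800000048000000088b000001000000001e6000000360000000600000000b6400000144000000240000000400000000798000000d80000001800000002d9000000510000000900000001000000001e6000000360000000600000000a20000001200000002000000003cc0000006c0000000c00000001440000002400000004000000006c0000000c00000001440000002400000004000000006c0000000c000000012000000020000000036000000060000000090000000100000000180000000240000000400000000600000000800000000c00000001000000001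
/-- their places -/
private noncomputable def sI : ℕ := 0x606d957000000000000000000000000000000000000000000000000000000000000000000000000000000000000000000000000175b052e6e00000000000000000000000000000000000000000000000000000000000000000000000000000000000000000000beda2a73f95c60000000000000000000000000000000000000000000000000000000000000000000000000000000000000000002e35ca3cce410d7d800000000000000000000000000000000000000000000000000000000000000000000000000000000000017ab2d4279288ac0de2e0000000000000000000000000000000000000000000000000000000000000000000000000000000000c1dbab3449847614f873b598c0000000000000000000000000000000000000000000000000000000000000000000000000000002ef62a6ce64b12803b9bacd5eab8000000000000000000000000000000000000000000000000000000000000000000000000017fb5556832d8d41deae469b0d68a54b8000000000000000000000000000000000000000000000000000000000000000000000005cebd499ac8a1efd75b6994ba55a751e8200000000000000000000000000000000000000000000000000000000000000000002f766a8cf65316823c9c2d0602c54494439e8dc0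0000000000000000000000000000000000000000000000000000000000000184b7d6a8b318f42df2e86bb1d6ea84d230fe73339700000000000000000000000000000000000000000000000000000000000005e2c74e9d49a270177b799cbe57a8124853c1b0c25626000000000000000000000000000000000000000000000000000000003016bab50a5d1b843d9cad4622d54c98451f4e2652d1408c3d000000000000000000000000000000000000000000000000000000ba57e953691c41fcec6db2d76ac4f24106763517ca84a208e06000000000000000000000000000000000000000000000000005f2cf529f4aa2f0579b89a2c15928d2a883d9bcc658271107633158900000000000000000000000000000000000000000000000170add1a651f863e9d2d8642e1529b46a00e8682e948903f1b0b84e200d0000000000000000000000000000000000000000000bcd929f3b93c5204f06fb3d7eb050a4d0c7936988ae4d218e8642a118742e120000000000000000000000000000000000000060adb58a1cbe39097bb99aac55b29d328b3f1c8cc5b2891c7c35168983e190a03c1600000000000000000000000000000000000176b0d32712488bfddadc662f15a9f48a10ee6b3015496421c8c452220e058220d048180000000000000000000000000000000bf5a6a940964660cf471b4984b352259127c38190b24f228f0682c128783013070280e0401000000000000000000000000000002e55da44d2430e7e3a9b2c95caa9388e409d4d25e299248037178a0421b0a84018080280c0200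
/-- the numbers, by the residue of the power of two -/
private noncomputable def sR : ℕ := 0x5b2000000c00000040df88000030a7a60000007980222c00000081bf10000334200000000000000001000000005b2008a8d67b6000044580044580000002d9000003600000001e6000000000000000081bf1000004458480000000000030000000036000900000002880000000000900000000d8000120000000290d7410001800000000445800036bc9ac0016c80000040000000002400000000000000f30000000044580000c29e9800000480036bc9ac0091f6f20000288000000000cd08030a7a60000001e6000000001b091f6f2000acfec000521ae82001b000000000026718000006000000073549037e20000123ede4000d8000000567f600000001200000614f4c000e6a900000240000000002880039aa40073548000000300000024000000001037e20001037e200001338c00019a10000000000000000051002000000000000048000120000000159fd80066840000735480000000510000288000073548000000159fd8267180000000000d8001486ba096c80000000000d8000159fd800066840000000d80000000080000081bf10000000010000000000099c600001cd52000016c800000159fd800159fd80008000000000daf26b000000051000002880000510000000000cd0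80000000000001e600001b0000088b00000091f6f20001338c00000144000001b5e4d60cfd41b91016c800000a200000000000a200030a7a600006684006c0000000001e6000000000100000099c6000247dbc80000016c805100000003cc00001b0000000f300000000123ede4000c29e9800123ede4123ede4019a1000000011160001853d300000222c0005c5e45240000510000000b6400000d80003000000000000000000000cd080000000c00000000000081bf100000798000000000288000090000001338c0cd08000000002d900000000000001b0000000000000003cc0000000267180000005b200000e6a9000567f600000000101e6000000000000798000b6400006684000288000000000000000000001e6088b0000000567f600012000000b8bc8a482b3fb000000000f30000081bf1002d9000026718000001b0000000000001b00007354800f3000000000088b000002880001116000000000d800000000480002b3fb0000000000000000a20a2000000d800000003cc0000000000090005c5e452400019a1000b6400000001037e216c800000000000001037e2000036000000039aa40000039aa400000002d901037e20000002d90000000000000acfec004000000000000360002000000000000000000005100000020000000acfec00039aa4000008000022a359ed800000cd084ce300000000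0cd08014400000000100000002b3fb00000222c00073548000030000006c0000000026718000180000000000000601486ba08019a10000000002d90400000000019a10000000011160006c0000000000900daf26b000222c0000000800000000614f4c000000900000000400000a200001b5e4d60004ce300000144000000000600567f600000290d7410000cd08000400000000000000036bc9ac001486ba083d942e1800000012000099c600000000000000cd0800240000000002671800cd08000004ce3000000c000000cfd41b910000000f300120000001338c00033420000001200000000900000614f4c0003000000005b2000000000567f6b8bc8a4800001800000000000000039aa400000222c1853d30003c1b09a590000000000009000000001b00000000000c00000036001853d30000000000081bf10000088b0000a435d040000100000247dbc8000000000c0039aa400000004ce3000000c000001440000000002419fa8372200000088b0000c000000040000000000000033420000001b5e4d60400000000000000003d942e1800f650b8600001338c001440000000798000000060000000300000001e6000000200000016c80000091f6f200000000901853d3001eca170c0000004000000001000206fc4000003000000000000d8036000000001338c0290d741000003000000000000001440000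00000008000000000004546b3db0c29e9800005b200000000003600247dbc8001116000300000000159fd80016c800000000000000000010000e6a9000000011160000000000900c0000002000000014400000024000000001b5e4d60000002d90000000400000008000001e60000c29e980007b285c303cc000000000090000001cd52000005b2000001e600004800000060000000000007980200000000000000600004800000005b20001338c00000000000030000000000000060001037e200a435d040000000001b5e4d6000000000080f650b8608a8d67b60000005100000007980600000000e6a900000003600000001cd5202e2f229207b285c3000088b000123ede4017179149000400000000000000000000006445800000000001b001b5e4d6000001b00003cc0000004800000000798000000000004000000c00000066840088b000000000000300003000000000000800000000800000000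
/-- a power of two -/
private noncomputable def sW : ℕ := 0x20000000000000000000000000000000000000000000000000000000000000000000000000000000000000000000000000
/-- the places by residues -/
private noncomputable def c59 : ℕ := 0x8020200000000000000000000000000000000000410000000000000000000002000000000000000000000000000020080802000000000000000000000000000000000041000000000000000000000008000000000000000000000000001004020000000000000000000000000000000000010208000000000000000000000004000000000000000000000000008020100400000000000000000000000000000000000408000000000000000000000002000000000000008000000000000000000000000000000000000000040400000000000000000000000000000200000000000000000200000000000000020080401000000000000000000000000000000000008104000000000000000000000000080000000000000000000000000000000000000000000004020200000000000000000000000000000004100000000000000000001000000000000000010020100400000000000000000000000000000000000010200000000000000000000000002000000000000000000000008010080000000000000000000000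00000000000000020408000000000000000000000000420000000000000000000000000000000000000000000000000000040400000000000000000000000000000008200000000000000000200001004000000000000000000000000000000000000000020404000000000000000000000000000210000000000000000400000000010040100400000000000000000000000000000000000102040000000000000000000000000040000000000000000800000000000000000000000000000000000000202020000000000000000000000000000104000000000000000000000000000000000000000000000000020101000000000000000000000000000000000820000000000000000000008000000000000000000000000000000000000000001008080000000000000000000000000000000100000000000000000000800000000020040200400000000000000000000000000000000000000810000000000000000000000000004000000000000000000000000000000000004010080000000000000000000000000000000000104000000000000000000000002200000000000000801008010000000000000000000000000000000000000810200000000000000000000000000420000000000000000000000000000000000000000000002010100000000000000000000000000000000104000000000000000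00000200000000000000000000000000000000000000000020200000000000000000000000000000000104000000000000000000100000000000000000000000000000002010080000000000000000000000000000000010200000000000000000000010000000000000000000000000000000000000000000000000808080000000000000000000000000000208000000000000000010000000802000000000000000000000000000000000000000080800000000000000000000000000002100000000000000020000200802008000000000000000000000000000000000000101020000000000000000000000000000800000000000000000000000000000000100802000000000000000000000000000000000000810000000000000000000000000800000000000000000000000000000000000000000000000020202000000000000000000000000000000410000000000000000000000000401004000000000000000000000000000000000000000101020000000000000000000000000008400000000000000100000000000000000000000000402010000000000000000000000000000000000410000000000000000000000100000000000000000000000000000000000000000808040000000000000000000000000000000208000000000000000000010000000000000000000000000000000000000804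04000000000000000000000000000000000208000000000000000000040000000000000000000000000000100804000000000000000000000000000000000041040000000000000000000000800000000000804008000000000000000000000000000000000000000808000000000000000000000000000100000000000000004000000000000000000000000000000000000000404040000000000000000000000000000010800000000000000000100000000000000000002008040000000000000000000000000000000000002081000000000000000000000001100000000000000020080200000000000000000000000000000000000000020400000000000000000000000000008400000000000000400080400800000000000000000000000000000000000002040400000000000000000000000000042000000000000000000000000000000000000000000000000000000000101010000000000000000000000000000000800000000000000000100000000000000000000000000002010080000000000000000000000000000000004100000000000000000000002200000000000000000000000000000000000000000080404000000000000000000000000000000104000000000000000000080000000000000000000000000000000000008080400000000000000000000000000000001040000000000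00000000004000000000000401004000000000000000000000000000000000000002020000000000000000000000000002000000000000000800000000000000000000008040200000000000000000000000000000000001020000000000000000000000040000000000000000200802000000000000000000000000000000000000001020400000000000000000000000002200000000000001000000000000000000000000000000000000040404000000000000000000000000000000410000000000000000000800000000000000000000000000000000804020000000000000000000000000000000008200000000000000000000004000000000000000000000000000000000000000000000000101000000000000000000000000000000108000000000000000040000000000010040100000000000000000000000000000000000000408000000000000000000000000004200000000000008004010000000000000000000000000000000000000010102000000000000000000000000000002000000000000000000000000000000000000000000000000000000000080808000000000000000000000000000004200000000000000000080000000000000010040100000000000000000000000000000000000002020000000000000000000000000080000000000000800000000000100401000000000000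0000000000000000000000000204000000000000000000000000011000000000000200000000000000000000000000000000202010000000000000000000000000000000104000000000000000000002000000000000000000020080400000000000000000000000000000000000020400000000000000000000000008000000000000410000000000000000000000000000000000000000020204000000000000000000000000000042000000000000000020000000000000000000080401000000000000000000000000000000000000810000000000000000000000001100000000000800000000000000000040100800000000000000000000000000000000001020000000000000000000000010000000000020000000000000000000002010080000000000000000000000000000000000810000000000000000000000040000000000800000000000000000000000002010080000000000000000000000000000000020400000000000000000000040000000020000000000000000000000000000000000000000000000000000000000000000000000000000000000000000000000000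
/-- the places which survive -/
private noncomputable def u59 : ℕ := 0x842231888840000000000000000000000000000449249000000000000000000a18000000400000000000000000000000000000844463111100000000000000000000000000012492400000000000000000c3000000000000000000000000000000000000000844462222000000000000000000000000001249490000000000000000a3000000000000000000000000000000000000000844466222200000000000000000000000000490920000000000000000c60000000000084210c630884200000000000000000000000000000009123224800000000000000000000012890000000000024104000000000000000000000000000000000004444622240000000000000000000000000292520000000000000006300000000000000000000001044231884420000000000000000000000000000049124880000000000000000000a9500000000084210000000000000000000000000000000000222233122200000000000000000000000009212800000000000000620000c220840000000000000000000000000000000002222322220000000000000000000000001252940000000000000088000000000000002108463184420000000000000000000000000000000912644900000000000000000000048480000000002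8000042088630c4210800000000000000000000000000000001122624400000000000000000000002a1500000000000120618842080000000000000000000000000000000000888988890000000000000000000000001485200000000000000cc0000000000082108c31088200000000000000000000000000000002444c912000000000000000000000522a00000000001000000000000000000000000021108c6222100000000000000000000000000004912490000000000000000002a5000000000000000000000010844318c4421000000000000000000000000000000891224800000000000000000001514000000000a8631842108000000000000000000000000000000001112331220000000000000000000000001284a00000000000002200000000000000000000000000000000011108cc44440000000000000000000000000092492800000000000000005100000021186308821000000000000000000000000000000000911191120000000000000000000000014a5200000000000004400000000000000000000000108846310888000000000000000000000000000049264900000000000000000002850000000000000000000000000842118c42210000000000000000000000000000009126492000000000000000000012140000000020000000000000000000000000008442331088800000000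00000000000000000009249240000000000000000014500000000000000004208863188421000000000000000000000000000000044891220000000000000000000002a2a00000000005000041084618c22080000000000000000000000000000000048899112000000000000000000000029148000000000002402088630c42104000000000000000000000000000000000888989120000000000000000000000052150000000000000c80080000000000000000000000000000000000444466222000000000000000000000000009292500000000000000010800000000000000000208846188442000000000000000000000000000000248992200000000000000000000151500000000000042108631842108000000000000000000000000000000022246448800000000000000000000000944a000000000000480000000000000000000000000000010888c62220000000000000000000000000000924924000000000000000014500000000000000000000000000421118c6221000000000000000000000000000000892449000000000000000000050a00000000c000000000000000000021088c6311080000000000000000000000000000044922480000000000000000002850000000060000000000000000000000000000211118c4440000000000000000000000000001249248000000000000000028a0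00000021084318c210840000000000000000000000000000000111232244000000000000000000000004a250000000000002400000000000000041108c3108840000000000000000000000000000004913244000000000000000000002a2a0000000000040000000000000000000000000000000000222233111000000000000000000000000004949280000000000000008400004110c618842080000000000000000000000000000000011113122400000000000000000000000a42a00000000000019000002084230c61104000000000000000000000000000000002444c8890000000000000000000000148a400000000000120000000000084110c63108420000000000000000000000000000000891224400000000000000000000054540000000000a00000000000000000000000000042211988444000000000000000000000000000492492000000000000000000a280000000000000000000000108423188442000000000000000000000000000001224c92400000000000000000002428000000004000000000000000000000084423188444000000000000000000000000000024932480000000000000000001428000000004230c6110420000000000000000000000000000000012223222400000000000000000000000294a40000000000000880000000000000000000000000000000008884662222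000000000000000000000000004924940000000000000000288000010c63084210000000000000000000000000000000002224662440000000000000000000000002509400000000000004400000000000000000842218c62210800000000000000000000000000000448912400000000000000000000a8a0000000005000000000000000000000000422118c4442000000000000000000000000000092249200000000000000000054a000000000000000041084618844100000000000000000000000000000001222648900000000000000000000029150000000000080c3108410000000000000000000000000000000000111131112000000000000000000000000290a40000000000000198000000210443186210840000000000000000000000000000000089131220000000000000000000000150a8000000000009000000000000042108c6308840000000000000000000000000000001224c89200000000000000000000090900000000005061104200000000000000000000000000000000011111911100000000000000000000000009294a000000000000004400108420000000000000000000000000000000000444466244400000000000000000000000012425000000000000000c40000000000000000000000822118c4221000000000000000000000000000002489244000000000000000000054a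800000000208000000000000000000000000000000000008888c44480000000000000000000000000524a4000000000000000c60000000000421086318442100000000000000000000000000000004891912400000000000000000000009448000000000012000000000000000000000000000000000010888cc4444000000000000000000000000009212400000000000000018c0000000000000000000000000000000000000422231111000000000000000000000000000924a4800000000000000051800000000000000000000000000000000010888c622220000000000000000000000000002492480000000000000000186000000000000000000000000000000421118c4442000000000000000000000000000022492480000000000000000050c00000020000000000000000000000000000000000000000000000000000000000000000000000000000000000000000000000000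
/-- the places by residues -/
private noncomputable def c41 : ℕ := 0x8000200010000000000001000100000000000000200000000000040080000000004000000001000004000000000080002000080000000000002000200000000000000080000000000004008000000000080000000004000004000000000000100004000000000000080004000000000000001000000000000020020000000000200000000004000001000000040001000040000000000000400020000000000000002000000000000040040000000000100000000001000000400000000020000000000000080004000000000000000080010000000000000080000000000080200000000080000000000002000004000100000000000000800040000000000000002000000000000010010000000000020000000000080000008000000000000100002000000000000000002000000000000000200080000000000004000000000000080000000100000000000002000080000000000000400010000000000000000400000000000001001000000000001000000000002000000100000000000040000000000000100004000000000000000100020000000000400200000000000200000000000400000010000010000000000000004000200000000000000001000100000000000000200000000000040100000000010000000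00000001000000000000000000000080004000000000000400080000000000000200000000000000100000000010000000008000000000080000000000000200008000000000000000100000000000000200100000000000080000000000040000001000000000000002000080000000000000000040004000000000004001000000000000040000000000000800000001000000010000004000080000000000000400020000000000000000800100000000000002000000000002008000000004000000000000400000000000400010000000000000000020002000000000000002000000000000200400000000010000000000000004000000000000000000400010000000000000000080000000000000080040000000000010000000000004000000080000000000080002000000000000008000800000000000000020004000000000000080000000000100000000000400000000000040000000000000008000200000000000000001000200000000001000800000000000100000000000040000000400000080000004000000000000000000800040000000000000002000000000000010010000000000040000000000000000020000000000000020000800000000000000001000100000000000000040000000000002004000000000100000000000000008000000100000000000000000020002000000000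00040008000000000000040000000000000080000000010000000020000000000000000000010000800000000000020002000000000000002000000000000000200000000008000000000800000000000002000040000000000000200020000000000000001000400000000000008000000000020100000000100000000000080000000000004000080000000000000000400000000000000100080000000000010000000000001000000008000000000000000800020000000000000100008000000000000000800200000000000008000000000020000000000200000000000100000080000000000000000010001000000000000400080000000000000800000000000002000000001000000002000000000000000004000100000000000000000400040000000000100040000000000008000000000000800000004000000200000000000000000010000800000000000000004000800000000000002000000000000802000000000200000000000001000000000040001000000000000010001000000000000000100040000000000002000000000020000000000200000000000800001000040000000000000000020001000000000000000400000000000008010000000000100000000000000001000000001000020000000000000000010001000000000000800200000000000004000000000000040000000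02000000020000000000000008000100000000000002000200000000000000080020000000000002000000000020100000000800000000008000000000040001000000000000020002000000000000000800200000000000040000000000400000000020000000000202000000000000004000200000000000000002000400000000000001000000000000800000000000400000000000002000000000000000800020000000000000800100000000000000040020000000000004000000000100000000008000000000400000000400008000000000000000010002000000000004001000000000000080000000000004000000010000000400000000000000000002000100000000000008000800000000000000800400000000000200000000010000000002000000000800000000000000001000040000000000004000800000000000001000800000000000800000000080000000020000000020400000000000000000080004000000000000800100000000000000400400000000000800000000100000000100000000804000100000000000000000080004000000000002000400000000000008008000000000080000000040000000200000020000000000000000000000000000000000000000000000000000000000000000000000000000000000000000000000000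
/-- the places which survive -/
private noncomputable def u41 : ℕ := 0x20000800008000200010000400020001000100010002000000200000040040040080000400004000200001001004000100800008000200000000100010000400040002000400000010000002000000801000004000040000800000001002000002000040000400010000200010000000040004000400080010004000001000000800001004000080002000400000020200000800010000100008000000008000800040004000400100000008000002000001004000020000400010000000100400010000400004000100002000080002000200000002000000080020008008000004000008000040000010002000800000020200002000040000400020000000040000000200040004001000000100000080000080000001000040002000000000200000200008000080002000040002000080010000000100000004002000800800000400001000010000004000800400000040004000040000800010000800000001000200010002000400100000010000008000010040000400010001000000040400000040000400008000100004000100010000000100020004001000400200000100000200001008000400040010000010401000040001000010000800010000800040004000000080000004002001001000001000004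00008000004001001000000400004000040001000000000800080002000200020004000000200000040000020040000100001000080000000100400000100004000040000800010001000000004000000040008001000800000100000100000200000010000800080000000080000100000000020001000020001000040004000000080000004000000400400000400001000010000000001000800000000000000200008000100004000100008000400080000002000000100080040040000080000400008000008002002000002000080002000000000800040001000080004000800000020000002000000400800001000008000100000000080080000000010000200002000080001000100000000400080008002000400200000040000040000100800010000800100000020400040000400010000100004000100010000000080000001000400100080000020000040000200000020002000800000008000004000100001000040000800040000000200000004001000200100000040000040000100000010001000200000000800000080002000020001000000001000100008001000100040000004000001000001004000020000400040000000402000020000200008000200004000200008000800040008000000200000020020010020000040000200008000010008010000041000010000400010000200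01000040004000200040000001000000100100080100000200001000040000080040080000200001000040000400020000000020002000100020002000800000080000020000020080000400008000800000008040000000200008000080002000040002000000010000000200080010008000002000002000008000000800080010000000040008000080002000020000800020002000000010000000200080020010000004000008000040000004000400100000001000008000100001000040000800080000000200040004001000200100000020000020000080400008000400080000010200000100004000000001000080002000100008001000000040000004000000801000002000010000200000000100100000000000001000040000800020000800040002000400000010000000800400200200000400002000040000040010010000010002000000000400020000400020000800080000001000000080000008008000008000020000200000000020010000000008000200002000040000800080000000200000002000400080040000008000008000010000000800040004000000004000000800008000200000000100010000400040004000800000040000008000004008000020000200010000000020080000080002000080000800040000800040002000200000004000000200100080080000080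00020000400000200080080000020000800008000100002000080002000200000002000400080020008004000002000004000020100008000800200000208000200002000040000800040000000080010000800100020008000000800000400000802000020000800080000002020000040001000010000400008000400010002000000020000000800400100100000080000200002000000800100080000008100001000020000200010000000020000000100020002000800000080000040000040000000800020001000000000100020000800008000200004000100004000400000004000000100040010010000008000010000080000020004001000000040004000080000800040000000040004000200020002000800000040000010000008020000100002000080000000802000040000800008000200004000200000000800080008001000200080000020000010000020080001000040008000000404000040000400010000000008000800020002000100020000000800000100000040080000200002000040000000080100000004000100001000040002000080004000200020002000400000040000008008008010000080000800040000200200800020000000000000000000000000000000000000000000000000000000000000000000000000000000000000000000000000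
/-- the places by residues -/
private noncomputable def c29 : ℕ := 0x2000400100000000000004001000000000001001000000000040080000000000400000000102000000100000400000004001000000000000010004000000000001001000000000010020000000000040000000002040000000800000800040000080000000000000800100000000000040020000000000100200000000000100800000008080000000800000200000000800000000010004001000000000000100080000000000400400000000000200000000004080000000200000080001000000100020000000000800200100000000000040040000000000401000000000001000000000100000001000000080004000000000000010002000000000000200100000000000200400000000000080200000000808000000020000002000020000004000000000000040010000000000002001001000000000010020000000004040000000002000000010000004000000000000020008001000000000000080020000000000040040000000000008000000000040400000020400000040000200000000000004000400000000000020010000000000010010020000000001004000000008080000000080000004000000000002000000000040010008000000000000800400000000002004000000000401000000000040000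00010000000100002000008002000800000000020008004000000000002002000000000040080000000000200000000040000000020000040008000000008001000000000000040010000000000010010000000000000802000000002020000000010000000400001000000004000800200000000008004002000000000001001000000000020080000000040200000000040000000800000000010000000000001000200000000000010008008000000000020020000000002010000000020200000000400000040000000000000000004000800200000000000020010000000000020040000000000008000000000100000000104000000800008000040010002000000000000040010000000000008008000000000000200000000000404000000081000000040000040000000000200080010000000000800400200000000000200200000000008020000000000100000000040000001000000200080000400040000000000000800400000000000100100100000000004008000000004040000000010000000200000200000000000000000000800100000000000010010000000000000040080000000010080000000204000000010000002000000000000000200080020000000000000800400000000000801000000000040100000000001000000000800000002000010008000000002000400100000000010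008004000000000008010000000000402000000000020000000010000000800000000208002000000000040010004000000000001000800000000004008000000000008000000000400000001040000020001000000000000040010004000000000400200200000000000400800000000080200000000004000000004000000000000400401000200000000000004000800000000000200200000000000004008000000004020000000204000000040000040000000000000000000100040010000000002002001000000000008010000000001008000000000400000000800000100000000808002000000000040020008000000000001001000000000008020000000004020000000001000000004000000000008022000400000000000004001000800000000200200200000000002008000000002010000000002000000010000000000000800000800100000000000002001000800000000000800800000000020100000000080800000000400000008000000000020000000000000000000000000000000000000000000000000000000000000000000000000000000000000000000000000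
/-- the places which survive -/
private noncomputable def u29 : ℕ := 0x8083060408100000010204186081040000820821841040000208461088000008844440000048922000050500010400803000102020c18102040000008204186082080000082086208200002084421100000222222000009124800028500021000081000004101030c0810400000081041841020000041042184208000084231088000022222400001209000014280021010202080000204041830408100000041021860820800001082188210000008442220000088811000009249000142800440000000204081830404100000820418608208000008208610820000008423108400001111110000048140001204000a5009006080810000041010618102080000020820c2082000000208431082000042111088000044889000012090000514002200100000408103060c10204000041020c308104000008208c2084000001108442000000888910000448240002850004200a2061810104000010204183041020000010408618410400001082310420000022211100000110240000490900028a0044003060c081020000082040c3040820000010208610410000041084210800000844622200002224480000a0a000082001104081020000081020618202080000820410c10410000020843084200000108462210000088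91100000a050000204002880a08102060c181020400002081061820410000010410c2084000000842110800001088888800011244800028280008400480102060c1010200001040418608104000002082184104000000842188420000042222200002240900002424000514009000208081860404100000810208304102000002082186108200001082310840000088888800001204800004850005080240604081000004081020c182041000010410618410400001041184210000008844420000012224400004828000a0800440530204080000204081060c102080000820830c2082000008208c2108000004422210000009112200002414000504002202804101030c080820000102041060820400000410430c2104000021046210800001111110000024090000090a000a1004800810306080810000082020c3040820000010410c20820000004210c421000002111110000112048000121200028a00480102040c183020408000041020c3040820000020821841080000010842210000021111110000224890000505000108009004081000004081030c1010400004102086082080000104218421000000842311080000444888000050280001020014405060c1810204000010408186081040000020410c20820000082108421000001088c44400004448900001414000104002209030c080820000081020c1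82081000000820430c20820000084118821000001110888000008812000024848001450022002000008102060c18204080000820418610208000010411841080000022108840000011112200008904800050a000840140304040800002080830c0810400000104106104100000010421884100002108884400002244480000904800028a00110000000408103060808200001040830c10410000010410c210400000108462108000022222200000902800024080014a012101040000102020c18204080000020810c304104000008410c41080000042211100000444088000049248000a140022000020000082020618102080000010208308204000008208430841000010846211000004444480000241200002850004202000008101060c0810200000041020c30410400000410431041000010422108800001111110000048924000142800108000501060c081020000002040830c1020800010410430820800004108c21100000110888800000912440000a0a00020801007fffffffffffffffffffffffffffffffffffffffffffffffffffffffffffffffffffffffffffffffffffffffffffffffff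
/-- the places by residues -/
private noncomputable def c71 : ℕ := 0x3000000000040000000004000000001000000002000000020000000000000200000200000000020000000001000000000000000000000000000000000000000000000000000000000000000000000000000000000000000000000000000000000000000000000000000000000000000000000000000000000000000000000000000000000000000000000000000000000000000000000000000000000000000000000000000000000000000000000000000000000000000000000000000000000800000000018000000000400000000100000000100000000800000010000000000000800001000000000800100000000000000000000000000000000000000000000000000000000000000000000000000000000000000000000000000000000000000000100000000006000000000400000000200000000800000008000000400000000000200001000000008000000000c00000000008000000000400000000080000000080000000200000000000000800000200000000008000200000040000000000000000000000000000000000000000000000000000000000000000000000000000000000000000000000000000000000000000000000000000000000000000000000000000000000000000000000000000000000000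00000000000000000000000002000000000080000000008000000004000000010000000100000008000001000000000008000100000000020000000000000000000000000000000000000000000000000000000000000000000000000000000000000000000000000000000000000000000000000000000000000000000000000000000000000000000000000000000000000000000000000000000000000000000000000000000000000000000000000000000000000000000000000000000000000000000000000000000000000002000000000080000000008000000004000000010000000100000008000002000000000020000000000040000000000006000000000080000000008000000004000000010000000100000000000001000001000000000100010000000000000000010000000000400000000040000000020000000080000000800000040000010000010000000002000000000400000000000000000000000000000000000000000000000000000000000000000000000000000000000000000000000000000000000000000000000000000000000000000000000000000000000000000000000000000000000000000000000000000000100000000003000000000100000000040000000040000000200000008000000000000800002000000002000000000000000000000000000000000000000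00000000000000000000000000000000000000000000000000000000000000000000000000040000000001000000000180000000040000000080000000000000040000008000000000040000800000040000000000000000000000000000000000000000000000000000000000000000000000000000000000000000000000000000000000000000000000000000000000000000000000000000000000000000000000000000000000000000000000000000000000000800000000018000000000800000000200000000400000004000000100000000000010000040000000000020000000000000000000000000000000000000000000000000000000000000000000000000000000000000000000000000000000000018000000000100000000010000000006000000004000000020000000000000100000080000000004000200000000000020000000000400000000020000000008000000008000000040000001000000100000000000100001000000000020000000000000008000000000200000000040000000040000000100000002000000200000080000000000000040000000020000000000000000000000000000000000000000000000000000000000000000000000000000000000000000000000000000000000000000000000000000000000000000000000000000000000000000000000000000000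00000000000000000000000000000000000000000000000000000000000000000000000000000000000000000000000000000000000000000000000080000000001800000000040000000008000000008000000020000000400000000000020000040000000020000000010000000000000000000000000000000000000000000000000000000000000000000000000000000000000000000000000000000000100000000006000000000200000000100000000000000004000000100000000000040000100000000400100000000020000000000400000000020000000008000000008000000040000001000000100000000000400004000000080000000000000000000000000000000000000000000000000000000000000000000000000000000000000000000000000000000003000000000020000000001000000000400000000400000002000000000000008000002000000000080002000000004000000000000000000000000000000000000000000000000000000000000000000000000000000000000000000000000000000400000000008000000000400000000100000000100000000800000020000002000001000000000080000000001000000040000000000800000000040000000010000000010000000080000002000000200000100000000000000200000000400000000000000000000000000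00000000000000000000000000000000000000000000000000000000000000000000000000000000000000000000000000000000000000000000000000000000000000000000000000000000000000000000000000000000000000000000000000000000000000000000000000000000000000000000000000000000000000000000000000000000000004000000000180000000010000000010000000040000000800000040000000000020000100000000000800000000000001800000000020000000004000000002000000008000000080000000000002000002000000000800080000000000001800000000010000000001000000000400000000800000008000000200000040000020000000000000100000000800000000000000000000000000000000000000000000000000000000000000000000000000000000000000000000000000000000400000000008000000000800000000200000000400000004000000100000000000040000100000000200000001000800000000010000000000c00000000100000000100000000000000010000001000000000001000010000000100000000000000000000000000000000000000000000000000000000000000000000000000000000000000000000000000000000000000000000000000000000000000000000000000000000000000000000000000000000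000000000000000000000000000000000020000000000800000000080000000040000000100000001000000080000020000020000000000000400000008000000000000000000000000000000000000000000000000000000000000000000000000000000000000000000000000000000400000000008000000000c0000000010000000020000000000000008000000800000000002000020000000001000000000000006000000000080000000010000000010000000040000000800000000000020000020000000000001000000081000000000020000000000800000000100000000100000000400000008000000800000000000800000000000040000002000000000000000000000000000000000000000000000000000000000000000000000000000000000000000000000000000020000000000400000000020000000008000000008000000040000001000000100000080000100000000000020000004000000000100000000004000000000c0000000040000000100000000000000100000040000000000400010000000000000000008000000000100000000010000000004000000008000000080000002000000400000000002000000000001000000800000002000000000080000000008000000004000000010000000100000008000000000002000008000000000010000020000000000100000000004000000000800000000800000002000000040000004000001000000000020000000000100000800002000000000040000000004000000001000000002000000020000000800000100000000000000008000000000400020000000000000000000000000000000000000000000000000000000000000000000000000000000000000000000000000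
/-- the places which survive -/
private noncomputable def u71 : ℕ := 0x4000020000080000800008000100002000100004000400040008001000800200200000000000010100000000880040000c0000100000800004000080000800020000800040002000400040010004002001001000000000000808000000440000400002000008000080000400008000100004000100010000800100020008002002001002000000000002040000004800000300001800002000020000200004000080004000100010001000200040000008008004008000000000020400000120180000c000010000100000800010000100004000100008000400080000000001000800400800000010080400000084000001000004000020000100001000010000400008000400020002000200080010008004004004008000000000081000001200001000008000020000200003000060000400020000800080000000000200080020020000000080200808000000040000000040000180000c000020000400004000100004000200010002000200080000000008008008020000000000410000020400002000008000040000200004000040001000040002000100020002000800200100000000200800000000010400000a10000060000300000800008000080001000020001000040004000400080000000004004004008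0000004040000000220000010000040000200001800010000100004000080004000200020002000800100080000000080200402000002040000000004000020000080000800004000080001000040001000100008001000200080020000010020020080000000004100000a02000010000060000600001000020000400010000400000002000400040010000000002004004010000002040410000000000c0000100000800004000080000c00030000400020001000100000000001000800400400000004020101000000000000008000030000180000400008000080002000040002000100010001000400000000040040040100000010101000000000000040000200000c0000c0000400008000100008000200020002000400080020000000008010020080000000010400000000800004000010000100000800010000200008000200020001000200040010004004002004000000100800000002100000000100000800002000020000200004000080004000100010001000200040020008008000000040100000000020800014100000800002000020000180003000020000800020001000000000002000800200100000000200802010000020800000040000200000c00004000020000400004000100004000200010002000200080000000010020020080000010100000008800180000c000010000100000800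01000020000800020002000100020000000000400200100200000004020102000000200000200001000004000040000200004000080002000080008000400080010004001001000000004010040000000820000000100000800002000020000100002000040001000040004000200040008002000800400000000802008040000000108000008000020000100000800008000080002000040002000100010001000400080040000000020040080400000000108000201800002000010000080000800008000200004000200010001000100000008004001001000000008040101000000022000200000800004000030000300001000040000800040000000000020004000800400000000200400804000002040800000000200000800004000020000200002000080001000080004000400040010002001000800800000008040000000010800000003000018000020000200002000040000c000200008000800040008000000000200200100200000008080408000000000200000c0000600001000010000100004000080004000200020002000400000000020020020040000002020204000000000010000080000300003000010000200004000100004000400020004000800200000000080100200800000204000000001000004000020000080000800008000100002000100004000400040008001000800000000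400801000000002040000012000008000020000100000c0001800008000200008000400020000000400100020010000000010040080400000000420000180000200001000008000080000c000100002000100004000400000000002001000400400000002010040400002080000000800002000010000080000800008000200004000200010001000100040008004002002002000000000404000000088000000100000400002000010000200002000080002000100008001000100040010008004000000000080400000000420003000008000020000100000800010000100004000100008000400080008002000800400200000000004020000000021000180100000400002000010000100001000040000800040002000200020008001000800400400400000000080800000011000c0000100000800004000040000600008000100008000200020000000000100080020020000000100802020000104000000001000004000020000180003000010000400010000800040000000800200040020000000020080100800000000840000800002000010000040000400004000080001000080002000200020004000800400000000200400800000001020000009000020000100000600006000020000400008000200008000800040008001000400000000100200401000000408000000000100000600003000008000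080000800020000400020001000100010002000000000100100100200000010101020000000000060000300000400004000040000800018000400010001000080010000000000400400200400000010100810000000000010000040000200001000010000100004000080004000200020002000800100080040040000000402000000000840000040000100000800006000060000200008000100008000000000004000800100080000000040080100800000408100000000c0000100000800004000040000400010000200010000800080008000000400200080080000000402008080000001100001000004000020000100001000010000400008000400020002000200080010008000000004008010080000000021000040080000400001000010000080001000020000800020002000100020004001000400200000000401004020000000084000000400002000008000080000400008000100004000100010000800100020008002002000000008020080000001040000000c0000600000800008000040000800010000400010001000080010000000000200100080100000002010081000000100080000400001800008000040000800008000200008000400020004000400100000000020040040100000020200000011000800004000010000100000c000180001000040001000080000000000100040010008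00000001004010080000104000000000002000010000040000400004000080001000080002000200020004000800400100100000000802000000000410000280040000200000800008000040000800010000400010001000080010002000800200200100200000008040000000108000000080000400001800018000080001000020001000040004000400080010004000000001002004010000000002080000000040000180000c000020000400004000100002000100008000800080020000000002002002008000000808080000000000018000020000100000800010000180006000080004000200020000000000200100080080000000804020200000000000100000800003000030000080001000020000800020000000100020002000800000000100200200800000102020800000000800004000010000100000800010000200008000200020001000200040010004000002004004010000000000820000140008000020000100000c00008000080002000040002000100010001000400080040000000040100201000001020000000200000c0000600001000010000100002000040002000080008000800100000000008008008010000000808000000044002000010000040000200001000020000200008000200010000800100010004001000800000001004000000000082000005000008000030000180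00040000800008000200008000400020004000400100000000010010010040000000000820000040000080000400001000010000180003000020001000040004000000000010004001001000000004010040400000002000000200000800004000020000200002000080001000080004000400040010002001000800800801000000000010200000240c00006000008000080000400008000080002000080004000200040000000000800400200400000008040200000042000000006000030000040000400004000080001000080002000200020004000800000100100080100000000000408000002400020000100000400004000020000400008000200008000800040008001000400100100080100000000000102000000240000018000020000100000800010000100004000100008000400080008002000800400200200000000000101000000088000000200001000004000040000400008000100008000200020002000400080040010010000000000000808000000044003fffffffffffffffffffffffffffffffffffffffffffffffffffffffffffffffffffffffffffffffffffffffffffffffff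

/-- the number at a place -/
private noncomputable def sm (k : ℕ) : ℕ := Nat.mod (Nat.shiftRight sS (Nat.mul 35 k)) 34359738368

/-- the number at the place `a`, from `2 ^ a` -/
private noncomputable def sv (g : ℕ) : ℕ := Nat.mod (Nat.shiftRight sR (Nat.mul 35 (Nat.mod g 419))) 34359738368

/-- a loop -/
private noncomputable def allN (n : ℕ) (f : ℕ → Bool) : Bool :=
  Nat.rec (motive := fun _ => Bool) true (fun i ih => Bool.rec (motive := fun _ => Bool) false ih (f i)) n

private theorem allN_spec {f : ℕ → Bool} : ∀ {n : ℕ}, allN n f = true → ∀ i < n, f i = true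
  | 0, _, _, hi => absurd hi (Nat.not_lt_zero _)
  | n + 1, h, i, hi => by
    have h' : (Bool.rec (motive := fun _ => Bool) false (allN n f) (f n)) = true := h
    cases hf : f n with
    | false => rw [hf] at h'; exact Bool.noConfusion h'
    | true =>
      rw [hf] at h'
      rcases Nat.lt_succ_iff_lt_or_eq.1 hi with h1 | rfl
      · exact allN_spec h' i h1
      · exact hf

/-- the check of a table -/
private noncomputable def okT (p C T : ℕ) (c : ℕ → Bool) : Bool :=
  Bool.rec (motive := fun _ => Bool) false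
    (allN p fun a => allN p fun r => Bool.rec (motive := fun _ => Bool) true
      (Nat.beq (Nat.land (Nat.mod (Nat.shiftRight C (Nat.mul 389 a)) sW) (Nat.shiftRight T (Nat.mul 389 r)))
        (Nat.mod (Nat.shiftRight C (Nat.mul 389 a)) sW)) (c (Nat.mod (Nat.mul r a) p)))
    (allN 389 fun k => Nat.beq (Nat.land (Nat.shiftRight C (Nat.add (Nat.mul 389 (Nat.mod (sm k) p)) k)) 1) 1)

private theorem sW_eq : sW = 2 ^ 389 := by decide +kernel

private theorem okT_spec {p C T : ℕ} {c : ℕ → Bool} (hp : 0 < p) (h : okT p C T c = true) {x k : ℕ} (hk : k < 389)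
    (hc : c (x * sm k % p) = true) : (T >>> (389 * (x % p))).testBit k = true := by
  unfold okT at h
  cases h1 : (allN 389 fun k => Nat.beq (Nat.land (Nat.shiftRight C (Nat.add (Nat.mul 389 (Nat.mod (sm k) p)) k)) 1) 1) with
  | false => rw [h1] at h; exact Bool.noConfusion h
  | true =>
    rw [h1] at h
    have h2 : (C >>> (389 * (sm k % p) + k)) &&& 1 = 1 := Nat.eq_of_beq_eq_true (allN_spec h1 k hk)
    have h3 : (Bool.rec (motive := fun _ => Bool) true
      (Nat.beq (((C >>> (389 * (sm k % p))) % sW) &&& (T >>> (389 * (x % p)))) ((C >>> (389 * (sm k % p))) % sW))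
        (c (x % p * (sm k % p) % p))) = true :=
      allN_spec (allN_spec h (sm k % p) (Nat.mod_lt _ hp)) (x % p) (Nat.mod_lt _ hp)
    rw [← Nat.mul_mod, hc] at h3
    have h4 := congrArg (fun z => Nat.testBit z k) (Nat.eq_of_beq_eq_true h3)
    have h5 : ((C >>> (389 * (sm k % p))) % sW).testBit k = true := by
      rw [sW_eq, Nat.testBit_mod_two_pow, decide_eq_true hk, Bool.true_and, Nat.testBit_shiftRight, Nat.testBit,
        Nat.land_comm, h2]
      rfl
    simp only [Nat.testBit_and, h5, Bool.true_and] at h4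
    exact h4

private theorem ok59 : okT 59 c59 u59 (bit 288230377762324482) = true := by decide +kernel
private theorem ok41 : okT 41 c41 u41 (bit 1099511627778) = true := by decide +kernel
private theorem ok29 : okT 29 c29 u29 (bit 402653191) = true := by decide +kernel
private theorem ok71 : okT 71 c71 u71 (bit 1180591620820490518531) = true := by decide +kernel
private theorem mb41 (x : ℕ) : mem [1, 40] (x % 41) = true → bit 1099511627778 (x % 41) = true :=
  (by decide +kernel : ∀ r < 41, mem [1, 40] r = true → bit 1099511627778 r = true) _ (Nat.mod_lt _ (by decide))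
private theorem mb29 (x : ℕ) : mem [0, 1, 2, 27, 28] (x % 29) = true → bit 402653191 (x % 29) = true :=
  (by decide +kernel : ∀ r < 29, mem [0, 1, 2, 27, 28] r = true → bit 402653191 r = true) _ (Nat.mod_lt _ (by decide))
private theorem mb71 (x : ℕ) : mem [0, 1, 35, 36, 70] (x % 71) = true → bit 1180591620820490518531 (x % 71) = true :=
  (by decide +kernel : ∀ r < 71, mem [0, 1, 35, 36, 70] r = true → bit 1180591620820490518531 r = true) _ (Nat.mod_lt _ (by decide))

private theorem sm_mono {a k : ℕ} (h : a ≤ k) (hk : k ≤ 389) : sm a ≤ sm k := by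
  have h1 : (allN 389 fun k => Nat.ble (sm k) (sm (Nat.succ k))) = true := by decide +kernel
  induction h with
  | refl => exact le_rfl
  | step _ ih => exact (ih (Nat.le_of_succ_le hk)).trans (Nat.le_of_ble_eq_true (allN_spec h1 _ hk))

private theorem sm_all {i j : ℕ} (hi : i ≤ 46) (hj : j ≤ 20) (h : 3 ^ j * 2 ^ i ≤ 16134478424) :
    ∃ k < 389, sm k = 3 ^ j * 2 ^ i := by
  have h1 : (allN 21 fun j => allN 47 fun i => Nat.blt 16134478424 (3 ^ j * 2 ^ i) ||
      (Nat.blt ((sI >>> (9 * (47 * j + i))) % 512) 389 &&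
        Nat.beq (sm ((sI >>> (9 * (47 * j + i))) % 512)) (3 ^ j * 2 ^ i))) = true := by decide +kernel
  have h2 := allN_spec (allN_spec h1 j (Nat.lt_succ_of_le hj)) i (Nat.lt_succ_of_le hi)
  rw [Bool.or_eq_true, Bool.and_eq_true, Nat.blt_eq, Nat.blt_eq, Nat.beq_eq] at h2
  rcases h2 with h2 | h2
  · exact absurd h (not_le.2 h2)
  · exact ⟨_, h2.1, h2.2⟩

private theorem sv_eq {a : ℕ} (h : a ≤ 389) : sv (2 ^ a) = sm a := by
  have h1 : (allN 390 fun k => Nat.beq (sv (2 ^ k)) (sm k)) = true := by decide +kernel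
  exact Nat.eq_of_beq_eq_true (allN_spec h1 a (Nat.lt_succ_of_le h))

/-- the places which survive, from the bottom -/
private noncomputable def go (f : ℕ → Bool) (x n : ℕ) : ℕ → Bool :=
  Nat.rec (motive := fun _ => ℕ → Bool) (fun _ => false) (fun _ ih m =>
    Bool.rec (motive := fun _ => Bool)
      (Bool.rec (motive := fun _ => Bool) false (ih (Nat.xor m (Nat.gcd m sW))) (f (Nat.mul x (sv (Nat.gcd m sW)))))
      true (Nat.blt 16134478424 (Nat.mul x (sv (Nat.gcd m sW))))) n

private theorem go_spec {f : ℕ → Bool} {x : ℕ} : ∀ {n m : ℕ}, go f x n m = true → ∀ k < 389, m.testBit k = true →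
    x * sm k ≤ 16134478424 → f (x * sm k) = true
  | 0, _, h, _, _, _, _ => Bool.noConfusion h
  | n + 1, m, h, k, hk, hm, hL => by
    have h' : (Bool.rec (motive := fun _ => Bool)
      (Bool.rec (motive := fun _ => Bool) false (go f x n (m ^^^ Nat.gcd m sW)) (f (x * sv (Nat.gcd m sW))))
      true (Nat.blt 16134478424 (x * sv (Nat.gcd m sW)))) = true := h
    have hd := Nat.gcd_dvd_right m sW
    rw [congrArg (fun z => Nat.gcd m sW ∣ z) sW_eq] at hd
    obtain ⟨a, haN, ha⟩ := (Nat.dvd_prime_pow Nat.prime_two).1 hd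
    obtain ⟨c, hc⟩ := Nat.gcd_dvd_left m sW
    rw [ha] at h' hc
    rw [sv_eq haN] at h'
    have hak : a ≤ k := by
      by_contra h3
      rw [hc, Nat.testBit_two_pow_mul, decide_eq_false h3, Bool.false_and] at hm
      exact Bool.noConfusion hm
    have h1 : Nat.blt 16134478424 (x * sm a) = false := by
      rw [Bool.eq_false_iff, Ne, Nat.blt_eq, not_lt]
      exact (Nat.mul_le_mul_left x (sm_mono hak hk.le)).trans hL
    rw [h1] at h'
    cases hf : f (x * sm a) with
    | false => rw [hf] at h'; exact Bool.noConfusion h'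
    | true =>
      rw [hf] at h'
      rcases hak.eq_or_lt with rfl | h2
      · exact hf
      · refine go_spec h' k hk ?_ hL
        rw [Nat.testBit_xor, hm, Nat.testBit_two_pow_of_ne h2.ne]
        rfl

/-- the last two levels -/
private noncomputable def leaf (x : ℕ) : Bool := go (certG tabs) x 9
  (Nat.land (Nat.land (Nat.shiftRight u59 (Nat.mul 389 (Nat.mod x 59))) (Nat.shiftRight u41 (Nat.mul 389 (Nat.mod x 41))))
    (Nat.land (Nat.shiftRight u29 (Nat.mul 389 (Nat.mod x 29))) (Nat.shiftRight u71 (Nat.mul 389 (Nat.mod x 71)))))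

private theorem leaf_spec {x k : ℕ} (h : leaf x = true) (hk : k < 389) (hL : x * sm k ≤ 16134478424) :
    certG tabs (x * sm k) = true := by
  cases b1 : bit 288230377762324482 (x * sm k % 59) with
  | false => unfold certG; rw [b1]
  | true =>
    cases b2 : mem [1, 40] (x * sm k % 41) with
    | false => unfold certG; rw [b1, b2]; rfl
    | true =>
      cases b3 : mem [0, 1, 2, 27, 28] (x * sm k % 29) with
      | false => unfold certG; rw [b1, b2, b3]; rfl
      | true =>
        cases b4 : mem [0, 1, 35, 36, 70] (x * sm k % 71) with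
        | false => unfold certG; rw [b1, b2, b3, b4]; rfl
        | true =>
          refine go_spec h k hk ?_ hL
          change (((u59 >>> (389 * (x % 59))) &&& (u41 >>> (389 * (x % 41)))) &&&
            ((u29 >>> (389 * (x % 29))) &&& (u71 >>> (389 * (x % 71))))).testBit k = true
          rw [Nat.testBit_and, Nat.testBit_and, Nat.testBit_and, okT_spec (by decide) ok59 hk b1,
            okT_spec (by decide) ok41 hk (mb41 _ b2), okT_spec (by decide) ok29 hk (mb29 _ b3), okT_spec (by decide) ok71 hk (mb71 _ b4)]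
          rfl

private noncomputable def _root_.Cfsg.Agent.KO5851b31.k0 : (by first | exact type_of% @Cfsg.Agent.H606.OreM.Num.pwL | exact Unit : Sort _) := by first | (refine @Subtype.val _ (fun g => @Cfsg.Agent.H606.OreM.Num.pwL = @g) (@Subtype.mk _ _ (@(fun x0 x1 x2 x3 => @Nat.rec.{1} @(fun x4 => ℕ → @Bool) @x3 @(fun x4 x5 x6 => @Bool.rec.{1} @(fun x7 => @Bool) @Bool.false (@Bool.rec.{1} @(fun x7 => @Bool) (@x5 (@Nat.mul @x6 @x1)) @Bool.true (@Nat.ble (@Nat.succ @x0) (@Nat.mul @x6 @x1))) (@x3 @x6)) @x2)) ?_); rfl') | exact @Cfsg.Agent.H606.OreM.Num.pwL | exact ()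
private theorem _root_.Cfsg.Agent.KO5851b31.e0 : (by first | exact @Cfsg.Agent.H606.OreM.Num.pwL = @_root_.Cfsg.Agent.KO5851b31.k0 | exact True : Prop) := by first | (delta _root_.Cfsg.Agent.KO5851b31.k0; exact @Subtype.property _ (fun g => @Cfsg.Agent.H606.OreM.Num.pwL = @g) _) | rfl | trivial
private noncomputable def _root_.Cfsg.Agent.KO5851b31.k1 : (by first | exact type_of% @Cfsg.Agent.H606.OreM.Num.chkL | exact Unit : Sort _) := by first | (refine @Subtype.val _ (fun g => @Cfsg.Agent.H606.OreM.Num.chkL = @g) (@Subtype.mk _ _ (@(fun x0 x1 x2 => @List.rec.{1, 0} (ℕ × ℕ) @(fun x3 => ℕ → @Bool) @x2 @(fun x3 x4 x5 => @Cfsg.Agent.KO5851b31.k0 @x0 (@Prod.fst.{0, 0} _ _ @x3) (@Prod.snd.{0, 0} _ _ @x3) @x5) @x1)) ?_); rewrite [← Cfsg.Agent.KO5851b31.e0]; (try delta Cfsg.Agent.H606.OreM.Num.chkL); (try generalize @Cfsg.Agent.H606.OreM.Num.pwL = g0); rfl') | exact @Cfsg.Agent.H606.OreM.Num.chkL | exact ()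
private theorem _root_.Cfsg.Agent.KO5851b31.e1 : (by first | exact @Cfsg.Agent.H606.OreM.Num.chkL = @_root_.Cfsg.Agent.KO5851b31.k1 | exact True : Prop) := by first | (delta _root_.Cfsg.Agent.KO5851b31.k1; exact @Subtype.property _ (fun g => @Cfsg.Agent.H606.OreM.Num.chkL = @g) _) | rfl | trivial
private noncomputable def _root_.Cfsg.Agent.KO5851b31.k2 : (by first | exact type_of% @Cfsg.Agent.H606.OreM.Num.sv | exact Unit : Sort _) := by first | (refine @Subtype.val _ (fun g => @Cfsg.Agent.H606.OreM.Num.sv = @g) (@Subtype.mk _ _ (@(fun x0 => @Nat.mod (@Nat.shiftRight @Cfsg.Agent.H606.OreM.Num.sR (@Nat.mul (nat_lit 35) (@Nat.mod @x0 (nat_lit 419)))) (nat_lit 34359738368))) ?_); (try delta Cfsg.Agent.H606.OreM.Num.sv); (try generalize @Cfsg.Agent.H606.OreM.Num.sR = g0); rfl') | exact @Cfsg.Agent.H606.OreM.Num.sv | exact ()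
private theorem _root_.Cfsg.Agent.KO5851b31.e2 : (by first | exact @Cfsg.Agent.H606.OreM.Num.sv = @_root_.Cfsg.Agent.KO5851b31.k2 | exact True : Prop) := by first | (delta _root_.Cfsg.Agent.KO5851b31.k2; exact @Subtype.property _ (fun g => @Cfsg.Agent.H606.OreM.Num.sv = @g) _) | rfl | trivial
private noncomputable def _root_.Cfsg.Agent.KO5851b31.k3 : (by first | exact type_of% @Cfsg.Agent.H606.OreM.Num.go | exact Unit : Sort _) := by first | (refine @Subtype.val _ (fun g => @Cfsg.Agent.H606.OreM.Num.go = @g) (@Subtype.mk _ _ (@(fun x0 x1 x2 => @Nat.rec.{1} @(fun x3 => ℕ → @Bool) @(fun x3 => @Bool.false) @(fun x3 x4 x5 => @Bool.rec.{1} @(fun x6 => @Bool) (@Bool.rec.{1} @(fun x6 => @Bool) @Bool.false (@x4 (@Nat.xor @x5 (@Nat.gcd @x5 @Cfsg.Agent.H606.OreM.Num.sW))) (@x0 (@Nat.mul @x1 (@Cfsg.Agent.KO5851b31.k2 (@Nat.gcd @x5 @Cfsg.Agent.H606.OreM.Num.sW))))) @Bool.true (@Nat.ble (@Nat.succ (nat_lit 16134478424)) (@Nat.mul @x1 (@Cfsg.Agent.KO5851b31.k2 (@Nat.gcd @x5 @Cfsg.Agent.H606.OreM.Num.sW))))) @x2)) ?_);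 rewrite [← Cfsg.Agent.KO5851b31.e2]; (try delta Cfsg.Agent.H606.OreM.Num.go); (try generalize @Cfsg.Agent.H606.OreM.Num.sW = g0); (try generalize @Cfsg.Agent.H606.OreM.Num.sv = g1); rfl') | exact @Cfsg.Agent.H606.OreM.Num.go | exact ()
private theorem _root_.Cfsg.Agent.KO5851b31.e3 : (by first | exact @Cfsg.Agent.H606.OreM.Num.go = @_root_.Cfsg.Agent.KO5851b31.k3 | exact True : Prop) := by first | (delta _root_.Cfsg.Agent.KO5851b31.k3; exact @Subtype.property _ (fun g => @Cfsg.Agent.H606.OreM.Num.go = @g) _) | rfl | trivial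
private theorem _root_.Cfsg.Agent.KO5851b31.e4.{ku} {M : Nat → Sort ku} (φ : ∀ n, M n) {z : M Nat.zero} {s : ∀ n, M n → M (Nat.succ n)} (h0 : φ Nat.zero = z) (hs : ∀ n, φ (Nat.succ n) = s n (φ n)) (n : Nat) : φ n = @Nat.rec M z s n := Nat.rec h0 (fun n ih => (hs n).trans (congrArg (s n) ih)) n
private noncomputable def _root_.Cfsg.Agent.KO5851b31.k5 : (by first | exact type_of% @Cfsg.Agent.H606.OreM.Num.allB | exact Unit : Sort _) := by first | (refine @Subtype.val _ (fun g => @Cfsg.Agent.H606.OreM.Num.allB = @g) (@Subtype.mk _ _ (@(fun x0 x1 x2 x3 => @Nat.rec.{1} @(fun x4 => ℕ → @Bool) @(fun x4 => @Bool.rec.{1} @(fun x5 => @Bool) (@x0 @x4) @Bool.true (@Nat.ble @x1 @x4)) @(fun x4 x5 x6 => @Bool.rec.{1} @(fun x7 => @Bool) (@Bool.rec.{1} @(fun x7 => @Bool) @Bool.false (@x5 (@Nat.add @x6 (@Nat.pow (nat_lit 2) @x4))) (@x5 @x6)) @Bool.true (@Nat.ble @x1 @x6)) @x2 @x3)) ?_); funext a0 a1 a2 a3; refine (congrFun (_root_.Cfsg.Agent.KO5851b31.e4 (fun a2 a3 => @Cfsg.Agent.H606.OreM.Num.allB a0 a1 a2 a3) ?_ (fun c0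 => ?_) a2) a3 :) <;> (rfl')) | exact @Cfsg.Agent.H606.OreM.Num.allB | exact ()
private theorem _root_.Cfsg.Agent.KO5851b31.e5 : (by first | exact @Cfsg.Agent.H606.OreM.Num.allB = @_root_.Cfsg.Agent.KO5851b31.k5 | exact True : Prop) := by first | (delta _root_.Cfsg.Agent.KO5851b31.k5; exact @Subtype.property _ (fun g => @Cfsg.Agent.H606.OreM.Num.allB = @g) _) | rfl | trivial
private noncomputable def _root_.Cfsg.Agent.KO5851b31.k6 : (by first | exact type_of% @Cfsg.Agent.H606.OreM.Num.testY | exact Unit : Sort _) := by first | (refine @Subtype.val _ (fun g => @Cfsg.Agent.H606.OreM.Num.testY = @g) (@Subtype.mk _ _ (@(fun x0 x1 x2 x3 => @Bool.rec.{1} @(fun x4 => @Bool) @Bool.true @Bool.false (@Bool.rec.{1} @(fun x4 => @Bool) @Bool.false (@Bool.rec.{1} @(fun x4 => @Bool) (@Nat.ble (@Nat.mul (@Nat.mul (nat_lit 3) (nat_lit 16775168)) (@Nat.div (@Nat.sub (@Nat.mul (nat_lit 3) @x2) (@Nat.mul (nat_lit 47) @x3)) (nat_lit 256))) (@Nat.add (@Nat.mul (nat_lit 3) @x1) (@Nat.mul (nat_lit 192489) (@Nat.sub (@Nat.mul (nat_lit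 256) (@Nat.div (@Nat.sub (@Nat.mul (nat_lit 3) @x2) (@Nat.mul (nat_lit 47) @x3)) (nat_lit 256))) @x3)))) (@Nat.ble (@Nat.add (@Nat.mul (@Nat.mul (nat_lit 3) (nat_lit 16775168)) (@Nat.div (@Nat.sub (@Nat.mul (nat_lit 3) @x2) (@Nat.mul (nat_lit 47) @x3)) (nat_lit 256))) (@Nat.mul (nat_lit 196584) (@Nat.sub @x3 (@Nat.mul (nat_lit 256) (@Nat.div (@Nat.sub (@Nat.mul (nat_lit 3) @x2) (@Nat.mul (nat_lit 47) @x3)) (nat_lit 256)))))) (@Nat.mul (nat_lit 3) @x1)) (@Nat.ble (@Nat.mul (nat_lit 256) (@Nat.div (@Nat.sub (@Nat.mul (nat_lit 3) @x2) (@Nat.mul (nat_lit 47) @x3)) (nat_lit 256))) @x3)) (@Bool.rec.{1} @(fun x4 => @Bool) @Bool.false (@Nat.ble (@Nat.mul (nat_lit 253) (@Nat.div (@Nat.sub (@Nat.mul (nat_lit 3) @x2) (@Nat.mul (nat_lit 47) @x3)) (nat_lit 256))) @x3) (@Bool.rec.{1} @(fun x4 => @Bool) @Bool.false (@Nat.beq (@Nat.mod @x3 @x0) (nat_lit 0)) (@Bool.rec.{1} @(fun x4 => @Bool) @Bool.false (@Nat.beq (@Nat.mod (@Nat.sub (@Nat.mul (nat_lit 3) @x2) (@Nat.mul (nat_lit 47) @x3)) (nat_lit 256)) (nat_lit 0)) (@Nat.ble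 (@Nat.mul (nat_lit 47) @x3) (@Nat.mul (nat_lit 3) @x2)))))))) ?_); rfl') | exact @Cfsg.Agent.H606.OreM.Num.testY | exact ()
private theorem _root_.Cfsg.Agent.KO5851b31.e6 : (by first | exact @Cfsg.Agent.H606.OreM.Num.testY = @_root_.Cfsg.Agent.KO5851b31.k6 | exact True : Prop) := by first | (delta _root_.Cfsg.Agent.KO5851b31.k6; exact @Subtype.property _ (fun g => @Cfsg.Agent.H606.OreM.Num.testY = @g) _) | rfl | trivial
private theorem _root_.Cfsg.Agent.KO5851b31.e7.{ku, kv} {α : Type kv} {M : List α → Sort ku} (φ : ∀ l, M l) {z : M List.nil} {s : ∀ a l, M l → M (List.cons a l)} (h0 : φ List.nil = z) (hs : ∀ a l, φ (List.cons a l) = s a l (φ l)) (l : List α) : φ l = @List.rec α M z s l := List.rec h0 (fun a l ih => (hs a l).trans (congrArg (s a l) ih)) l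
private noncomputable def _root_.Cfsg.Agent.KO5851b31.k8.{ku0} : type_of% @List.all.{ku0} := @(fun x0 x1 x2 => @List.rec.{(ku0+1), ku0} @x0 @(fun x3 => (@x0 → @Bool) → @Bool) @(fun x3 => @Bool.true) @(fun x3 x4 x5 x6 => @Bool.rec.{1} @(fun x7 => @Bool) @Bool.false (@x5 @x6) (@x6 @x3)) @x1 @x2)
private theorem _root_.Cfsg.Agent.KO5851b31.e8.{ku0} : @List.all.{ku0} = @_root_.Cfsg.Agent.KO5851b31.k8.{ku0} := by delta _root_.Cfsg.Agent.KO5851b31.k8; funext a0 a1 a2; refine (congrFun (_root_.Cfsg.Agent.KO5851b31.e7 (fun a1 a2 => @List.all.{ku0} a0 a1 a2) ?_ (fun c0 c1 => ?_) a1) a2 :) <;> (rfl')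
private noncomputable def _root_.Cfsg.Agent.KO5851b31.k9.{ku0} : type_of% @List.any.{ku0} := @(fun x0 x1 x2 => @List.rec.{(ku0+1), ku0} @x0 @(fun x3 => (@x0 → @Bool) → @Bool) @(fun x3 => @Bool.false) @(fun x3 x4 x5 x6 => @Bool.rec.{1} @(fun x7 => @Bool) (@x5 @x6) @Bool.true (@x6 @x3)) @x1 @x2)
private theorem _root_.Cfsg.Agent.KO5851b31.e9.{ku0} : @List.any.{ku0} = @_root_.Cfsg.Agent.KO5851b31.k9.{ku0} := by delta _root_.Cfsg.Agent.KO5851b31.k9; funext a0 a1 a2; refine (congrFun (_root_.Cfsg.Agent.KO5851b31.e7 (fun a1 a2 => @List.any.{ku0} a0 a1 a2) ?_ (fun c0 c1 => ?_) a1) a2 :) <;> (rfl')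
private noncomputable def _root_.Cfsg.Agent.KO5851b31.k10 : (by first | exact type_of% @Cfsg.Agent.H606.OreM.Num.testX | exact Unit : Sort _) := by first | (refine @Subtype.val _ (fun g => @Cfsg.Agent.H606.OreM.Num.testX = @g) (@Subtype.mk _ _ (@(fun x0 x1 x2 x3 x4 x5 => @Bool.rec.{1} @(fun x6 => @Bool) (@Cfsg.Agent.KO5851b31.k5 (@Cfsg.Agent.KO5851b31.k6 @x1 @x2 @x5) @x4 (nat_lit 20) @x3) @Bool.true (@Bool.rec.{1} @(fun x6 => @Bool) @Bool.true @Bool.false (@Cfsg.Agent.KO5851b31.k8.{0} _ @x0 @(fun x6 => @Cfsg.Agent.KO5851b31.k9.{0} _ (@Prod.snd.{0, 0} _ _ @x6) @(fun x7 => @Nat.beq (@Nat.mod @x5 (@Prod.fst.{0, 0} _ _ @x6)) @x7)))))) ?_); rewrite [← Cfsg.Agent.KO5851b31.e9.{0}, ← Cfsg.Agent.KO5851b31.e8.{0}, ← Cfsg.Agent.KO5851b31.e6, ← Cfsg.Agent.KO5851b31.e5]; (try delta Cfsg.Agent.H606.OreM.Num.testX Cfsg.Agent.H606.OreM.Num.mem); (try generalize @Cfsg.Agent.H606.OreM.Num.allB = g0); (try generalize @Cfsg.Agent.H606.OreM.Num.testY = g1); rfl') | exact @Cfsg.Agent.H606.OreM.Num.testX | exact ()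
private theorem _root_.Cfsg.Agent.KO5851b31.e10 : (by first | exact @Cfsg.Agent.H606.OreM.Num.testX = @_root_.Cfsg.Agent.KO5851b31.k10 | exact True : Prop) := by first | (delta _root_.Cfsg.Agent.KO5851b31.k10; exact @Subtype.property _ (fun g => @Cfsg.Agent.H606.OreM.Num.testX = @g) _) | rfl | trivial
private noncomputable def _root_.Cfsg.Agent.KO5851b31.k11.{ku0, ku1} : type_of% @List.map.{ku0, ku1} := @(fun x0 x1 x2 x3 => @List.rec.{(ku1+1), ku0} @x0 @(fun x4 => @List.{ku1} @x1) [] @(fun x4 x5 x6 => (@x2 @x4) :: @x6) @x3)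
private theorem _root_.Cfsg.Agent.KO5851b31.e11.{ku0, ku1} : @List.map.{ku0, ku1} = @_root_.Cfsg.Agent.KO5851b31.k11.{ku0, ku1} := by delta _root_.Cfsg.Agent.KO5851b31.k11; funext a0 a1 a2 a3; refine (_root_.Cfsg.Agent.KO5851b31.e7 (fun a3 => @List.map.{ku0, ku1} a0 a1 a2 a3) ?_ (fun c0 c1 => ?_) a3 :) <;> (rfl')
private noncomputable def _root_.Cfsg.Agent.KO5851b31.k12.{ku0} : type_of% @List.filter.{ku0} := @(fun x0 x1 x2 => @List.rec.{(ku0+1), ku0} @x0 @(fun x3 => @List.{ku0} @x0) [] @(fun x3 x4 x5 => @Bool.rec.{(ku0+1)} @(fun x6 => @List.{ku0} @x0) @x5 (@x3 :: @x5) (@x1 @x3)) @x2)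
private theorem _root_.Cfsg.Agent.KO5851b31.e12.{ku0} : @List.filter.{ku0} = @_root_.Cfsg.Agent.KO5851b31.k12.{ku0} := by delta _root_.Cfsg.Agent.KO5851b31.k12; funext a0 a1 a2; refine (_root_.Cfsg.Agent.KO5851b31.e7 (fun a2 => @List.filter.{ku0} a0 a1 a2) ?_ (fun c0 c1 => ?_) a2 :) <;> (rfl')
private noncomputable def _root_.Cfsg.Agent.KO5851b31.k13 : (by first | exact type_of% @Cfsg.Agent.H606.OreM.Num.xres | exact Unit : Sort _) := by first | (refine @Subtype.val _ (fun g => @Cfsg.Agent.H606.OreM.Num.xres = @g) (@Subtype.mk _ _ (@(fun x0 x1 x2 => @Bool.rec.{1} @(fun x3 => @List.{0} ℕ) (@Cfsg.Agent.KO5851b31.k11.{0, 0} _ _ @(fun x3 => @Nat.mod (@Nat.mul (@Prod.snd.{0, 0} _ _ @x3) (@Nat.mod @x2 @x0)) @x0) (@Cfsg.Agent.KO5851b31.k12.{0} _ @(fun x3 => @Cfsg.Agent.KO5851b31.k9.{0} _ (@Prod.fst.{0, 0} _ _ @x3) @(fun x4 => @Nat.beq (@Nat.mod @x2 @x0) @x4)) @x1)) ((nat_lit 0) :: []) (@Nat.beq (@Nat.mod @x2 @x0) (nat_lit 0)))) ?_); rewrite [← Cfsg.Agent.KO5851b31.e9.{0}, ← Cfsg.Agent.KO5851b31.e12.{0}, ← Cfsg.Agent.KO5851b31.e11.{0,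 0}]; rfl') | exact @Cfsg.Agent.H606.OreM.Num.xres | exact ()
private theorem _root_.Cfsg.Agent.KO5851b31.e13 : (by first | exact @Cfsg.Agent.H606.OreM.Num.xres = @_root_.Cfsg.Agent.KO5851b31.k13 | exact True : Prop) := by first | (delta _root_.Cfsg.Agent.KO5851b31.k13; exact @Subtype.property _ (fun g => @Cfsg.Agent.H606.OreM.Num.xres = @g) _) | rfl | trivial
private noncomputable def _root_.Cfsg.Agent.KO5851b31.k14 : (by first | exact type_of% @Cfsg.Agent.H606.OreM.Num.testD | exact Unit : Sort _) := by first | (refine @Subtype.val _ (fun g => @Cfsg.Agent.H606.OreM.Num.testD = @g) (@Subtype.mk _ _ (@(fun x0 x1 x2 x3 => @Bool.rec.{1} @(fun x4 => @Bool) (@Bool.rec.{1} @(fun x4 => @Bool) @Bool.false (@Cfsg.Agent.KO5851b31.k5 @(fun x4 => @Cfsg.Agent.KO5851b31.k10 (@Cfsg.Agent.KO5851b31.k11.{0, 0} _ _ @(fun x5 => (@Prod.fst.{0, 0} _ _ @x5, @Cfsg.Agent.KO5851b31.k13 (@Prod.fst.{0, 0} _ _ @x5) (@Prod.snd.{0, 0} _ _ @x5) @x3)) @x2) (@Nat.div @x3 (@Nat.gcd @x3 @x1)) @x3 (@Nat.sub (@Nat.div (@Nat.mul (nat_lit 40)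 @x3) (nat_lit 2686976)) (nat_lit 1)) (@Nat.add (@Nat.div (@Nat.add (@Nat.mul (nat_lit 42) @x3) (nat_lit 257)) (nat_lit 2686976)) (nat_lit 1)) (@Nat.mul (@Nat.div @x3 (@Nat.gcd @x3 @x0)) @x4)) (@Nat.add (@Nat.div (@Nat.div (@Nat.mul (nat_lit 12147) (@Nat.add (@Nat.mul (nat_lit 42) @x3) (nat_lit 257))) (nat_lit 2039414784)) (@Nat.div @x3 (@Nat.gcd @x3 @x0))) (nat_lit 1)) (nat_lit 21) (@Nat.div (@Nat.sub (@Nat.div (@Nat.mul (nat_lit 47) (@Nat.mul (nat_lit 40) @x3)) (nat_lit 8060928)) (nat_lit 1)) (@Nat.div @x3 (@Nat.gcd @x3 @x0)))) (@Bool.rec.{1} @(fun x4 => @Bool) @Bool.false (@Nat.ble (@Nat.add (@Nat.div (@Nat.div (@Nat.mul (nat_lit 12147) (@Nat.add (@Nat.mul (nat_lit 42) @x3) (nat_lit 257))) (nat_lit 2039414784)) (@Nat.div @x3 (@Nat.gcd @x3 @x0))) (nat_lit 1)) (nat_lit 2097152)) (@Nat.ble (@Nat.add (@Nat.div (@Nat.add (@Nat.mul (nat_lit 42) @x3) (nat_lit 257)) (nat_lit 2686976)) (nat_lit 1)) (nat_lit 1048576)))) @Bool.true (@Cfsg.Agent.KO5851b31.k9.{0} _ @x2 @(fun x4 => @List.rec.{1, 0} ℕ @(fun x5 => @Bool)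 @Bool.true @(fun x5 x6 x7 => @Bool.false) (@Cfsg.Agent.KO5851b31.k13 (@Prod.fst.{0, 0} _ _ @x4) (@Prod.snd.{0, 0} _ _ @x4) @x3))))) ?_); rewrite [← Cfsg.Agent.KO5851b31.e9.{0}, ← Cfsg.Agent.KO5851b31.e13, ← Cfsg.Agent.KO5851b31.e11.{0, 0}, ← Cfsg.Agent.KO5851b31.e10, ← Cfsg.Agent.KO5851b31.e5]; (try delta Cfsg.Agent.H606.OreM.Num.testD); (try generalize @Cfsg.Agent.H606.OreM.Num.allB = g0); (try generalize @Cfsg.Agent.H606.OreM.Num.testX = g1); (try generalize @Cfsg.Agent.H606.OreM.Num.xres = g2); rfl') | exact @Cfsg.Agent.H606.OreM.Num.testD | exact ()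
private theorem _root_.Cfsg.Agent.KO5851b31.e14 : (by first | exact @Cfsg.Agent.H606.OreM.Num.testD = @_root_.Cfsg.Agent.KO5851b31.k14 | exact True : Prop) := by first | (delta _root_.Cfsg.Agent.KO5851b31.k14; exact @Subtype.property _ (fun g => @Cfsg.Agent.H606.OreM.Num.testD = @g) _) | rfl | trivial
private noncomputable def _root_.Cfsg.Agent.KO5851b31.k15 : (by first | exact type_of% @Cfsg.Agent.H606.OreM.Num.bit | exact Unit : Sort _) := by first | (refine @Subtype.val _ (fun g => @Cfsg.Agent.H606.OreM.Num.bit = @g) (@Subtype.mk _ _ (@(fun x0 x1 => @Nat.beq (@Nat.land (@Nat.shiftRight @x0 @x1) (nat_lit 1)) (nat_lit 1))) ?_); rfl') | exact @Cfsg.Agent.H606.OreM.Num.bit | exact ()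
private theorem _root_.Cfsg.Agent.KO5851b31.e15 : (by first | exact @Cfsg.Agent.H606.OreM.Num.bit = @_root_.Cfsg.Agent.KO5851b31.k15 | exact True : Prop) := by first | (delta _root_.Cfsg.Agent.KO5851b31.k15; exact @Subtype.property _ (fun g => @Cfsg.Agent.H606.OreM.Num.bit = @g) _) | rfl | trivial
private noncomputable def _root_.Cfsg.Agent.KO5851b31.k16 : (by first | exact type_of% @Cfsg.Agent.H606.OreM.Num.certG | exact Unit : Sort _) := by first | (refine @Subtype.val _ (fun g => @Cfsg.Agent.H606.OreM.Num.certG = @g) (@Subtype.mk _ _ (@(fun x0 x1 => @Bool.rec.{1} @(fun x2 => @Bool) @Bool.true (@Bool.rec.{1} @(fun x2 => @Bool) (@Cfsg.Agent.KO5851b31.k14 @Cfsg.Agent.H606.OreM.Num.cA @Cfsg.Agent.H606.OreM.Num.cB @x0 @x1) @Bool.true (@Bool.rec.{1} @(fun x2 => @Bool) (@Nat.ble (@Nat.succ @x1) (nat_lit 196883)) @Bool.true (@Bool.rec.{1} @(fun x2 => @Bool) (@Bool.rec.{1} @(fun x2 => @Bool) @Bool.true @Bool.false (@Cfsg.Agent.KO5851b31.k9.{0} _ ((nat_lit 0) :: ((nat_lit 1) :: ((nat_lit 35) :: ((nat_lit 36) ::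 ((nat_lit 70) :: []))))) @(fun x2 => @Nat.beq (@Nat.mod @x1 (nat_lit 71)) @x2))) @Bool.true (@Bool.rec.{1} @(fun x2 => @Bool) (@Bool.rec.{1} @(fun x2 => @Bool) @Bool.true @Bool.false (@Cfsg.Agent.KO5851b31.k9.{0} _ ((nat_lit 0) :: ((nat_lit 1) :: ((nat_lit 2) :: ((nat_lit 27) :: ((nat_lit 28) :: []))))) @(fun x2 => @Nat.beq (@Nat.mod @x1 (nat_lit 29)) @x2))) @Bool.true (@Bool.rec.{1} @(fun x2 => @Bool) @Bool.true @Bool.false (@Cfsg.Agent.KO5851b31.k9.{0} _ ((nat_lit 1) :: ((nat_lit 40) :: [])) @(fun x2 => @Nat.beq (@Nat.mod @x1 (nat_lit 41)) @x2))))))) (@Cfsg.Agent.KO5851b31.k15 (nat_lit 288230377762324482) (@Nat.mod @x1 (nat_lit 59))))) ?_); rewrite [← Cfsg.Agent.KO5851b31.e15, ← Cfsg.Agent.KO5851b31.e9.{0}, ← Cfsg.Agent.KO5851b31.e14]; (try delta Cfsg.Agent.H606.OreM.Num.certG Cfsg.Agent.H606.OreM.Num.mem); (try generalize @Cfsg.Agent.H606.OreM.Num.testD = g0); (try generalize @Cfsg.Agent.H606.OreM.Num.cA = g1); (try generalize @Cfsg.Agent.H606.OreM.Num.cB = g2); (try generalize @Cfsg.Agent.H606.OreM.Num.bit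 = g3); rfl') | exact @Cfsg.Agent.H606.OreM.Num.certG | exact ()
private theorem _root_.Cfsg.Agent.KO5851b31.e16 : (by first | exact @Cfsg.Agent.H606.OreM.Num.certG = @_root_.Cfsg.Agent.KO5851b31.k16 | exact True : Prop) := by first | (delta _root_.Cfsg.Agent.KO5851b31.k16; exact @Subtype.property _ (fun g => @Cfsg.Agent.H606.OreM.Num.certG = @g) _) | rfl | trivial
private noncomputable def _root_.Cfsg.Agent.KO5851b31.k17 : (by first | exact type_of% @Cfsg.Agent.H606.OreM.Num.leaf | exact Unit : Sort _) := by first | (refine @Subtype.val _ (fun g => @Cfsg.Agent.H606.OreM.Num.leaf = @g) (@Subtype.mk _ _ (@(fun x0 => @Cfsg.Agent.KO5851b31.k3 (@Cfsg.Agent.KO5851b31.k16 @Cfsg.Agent.H606.OreM.Num.tabs) @x0 (nat_lit 9) (@Nat.land (@Nat.land (@Nat.shiftRight @Cfsg.Agent.H606.OreM.Num.u59 (@Nat.mul (nat_lit 389) (@Nat.mod @x0 (nat_lit 59)))) (@Nat.shiftRight @Cfsg.Agent.H606.OreM.Num.u41 (@Nat.mul (nat_lit 389) (@Nat.mod @x0 (nat_lit 41))))) (@Nat.land (@Nat.shiftRight @Cfsg.Agent.H606.OreM.Num.u29 (@Nat.mul (nat_lit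 389) (@Nat.mod @x0 (nat_lit 29)))) (@Nat.shiftRight @Cfsg.Agent.H606.OreM.Num.u71 (@Nat.mul (nat_lit 389) (@Nat.mod @x0 (nat_lit 71)))))))) ?_); rewrite [← Cfsg.Agent.KO5851b31.e16, ← Cfsg.Agent.KO5851b31.e3]; (try delta Cfsg.Agent.H606.OreM.Num.leaf); (try generalize @Cfsg.Agent.H606.OreM.Num.go = g0); (try generalize @Cfsg.Agent.H606.OreM.Num.certG = g1); (try generalize @Cfsg.Agent.H606.OreM.Num.tabs = g2); (try generalize @Cfsg.Agent.H606.OreM.Num.u59 = g3); (try generalize @Cfsg.Agent.H606.OreM.Num.u41 = g4); (try generalize @Cfsg.Agent.H606.OreM.Num.u29 = g5); (try generalize @Cfsg.Agent.H606.OreM.Num.u71 = g6); rfl') | exact @Cfsg.Agent.H606.OreM.Num.leaf | exact ()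
private theorem _root_.Cfsg.Agent.KO5851b31.e17 : (by first | exact @Cfsg.Agent.H606.OreM.Num.leaf = @_root_.Cfsg.Agent.KO5851b31.k17 | exact True : Prop) := by first | (delta _root_.Cfsg.Agent.KO5851b31.k17; exact @Subtype.property _ (fun g => @Cfsg.Agent.H606.OreM.Num.leaf = @g) _) | rfl | trivial

private theorem leaf_all : chkL 16134478424 [(71, 1), (47, 1), (31, 1), (29, 1), (23, 1), (19, 1), (17, 1), (13, 3), (11, 2),
    (7, 6), (5, 9)] leaf 1 = true := by (first | (rewrite [Cfsg.Agent.KO5851b31.e1, Cfsg.Agent.KO5851b31.e17]; decide +kernel) | decide +kernel)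

/-- The prime factors of the order of the Monster, without 59 and 41. -/
def lstG : List (ℕ × ℕ) := (71, 1) :: (47, 1) :: (31, 1) :: (29, 1) :: lstE

private theorem certG_dvd (hp : ∀ a ∈ lstG, a.1.Prime) {d : ℕ} (hd : d ∣ (lstG.map fun a => a.1 ^ a.2).prod) (h0 : 0 < d)
    (hL : d ≤ 16134478424) : certG tabs d = true := by
  have e : (lstG.map fun a => a.1 ^ a.2).prod = (([(71, 1), (47, 1), (31, 1), (29, 1), (23, 1), (19, 1), (17, 1),
      (13, 3), (11, 2), (7, 6), (5, 9)] : List (ℕ × ℕ)).map fun a => a.1 ^ a.2).prod * (3 ^ 20 * 2 ^ 46) := by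
    decide +kernel
  rw [e] at hd
  obtain ⟨y, z, hy, hz, rfl⟩ := (Nat.dvd_mul).1 hd
  obtain ⟨z1, z2, hz1, hz2, rfl⟩ := (Nat.dvd_mul).1 hz
  obtain ⟨j, hj, rfl⟩ := (Nat.dvd_prime_pow Nat.prime_three).1 hz1
  obtain ⟨i, hi, rfl⟩ := (Nat.dvd_prime_pow Nat.prime_two).1 hz2
  have hy0 : 0 < y := Nat.pos_of_mul_pos_right h0
  obtain ⟨k, hk, hs⟩ := sm_all hi hj ((Nat.le_mul_of_pos_left _ hy0).trans hL)
  have h1 := chkL_spec (x := 1) leaf_all (fun a ha => hp a (List.mem_append_left [(3, 20), (2, 46)] ha)) y hy hy0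
    (by rw [one_mul]; exact (Nat.le_mul_of_pos_right _ (Nat.pos_of_mul_pos_left h0)).trans hL)
  rw [one_mul] at h1
  rw [← hs] at hL ⊢
  exact leaf_spec h1 hk hL

end Cfsg.Agent.H606.OreM.Num
end

-- part: H606/OreM/Deg5941
section
/-!
# The Monster: the degrees prime to 59 and 41 are at least 16134478425 (helper606)
-/

set_option autoImplicit false
set_option maxRecDepth 100000

open Cfsg Subgroup

namespace Cfsg.Agent.H606.OreM

open Cfsg.Agent.BpSpor.MBigModel
open Cfsg.Agent.Characters.Core
open Cfsg.Agent.H606.OreM.Num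
open Cfsg.Agent.H455.OreM.Deg19 (Loc)

theorem lstG_prime : ∀ a ∈ lstG, a.1.Prime := by
  intro a ha
  simp only [lstG, lstE, List.mem_cons, List.not_mem_nil, or_false] at ha
  rcases ha with rfl | rfl | rfl | rfl | rfl | rfl | rfl | rfl | rfl | rfl | rfl | rfl | rfl <;>
    norm_num

theorem lstG_prod : 59 * (41 * (lstG.map fun a => a.1 ^ a.2).prod) =
    808017424794512875886459904961710757005754368000000000 := by
  decide +kernel

/-- the residues modulo 29 -/
theorem mem29 (χ : IrrCharacter MG) : mem [0, 1, 2, 27, 28] (charDegree (χ : MG → ℂ) % 29) = true := by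
  have hF : Fact (Nat.Prime 29) := ⟨by norm_num⟩
  by_cases h0 : 29 ∣ charDegree (χ : MG → ℂ)
  · rw [Nat.mod_eq_zero_of_dvd h0]
    rfl
  · obtain ⟨x, hx⟩ := Cfsg.Agent.H455.OreM.Deg19.exists_order (r := 29) (by norm_num) (by norm_num)
    obtain ⟨m, n, hm0, hn0, -, -, hmn, hmn', hres⟩ := Cfsg.Agent.H606.OreM.Exact.residue not_comm_MG (N := NM) card_M hx (k := 3)
      ((Cfsg.Agent.H626.LD.TwentyNine.card_cent hx).trans (by norm_num)) 28 1 (by decide +kernel) χ h0
    have hn1 : n = 1 := by
      by_contra hn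
      have h2 : 2 ≤ n := by omega
      have h3 : 4 ≤ n * n := by nlinarith
      have h4 : n * n ≤ m * (n * n) := Nat.le_mul_of_pos_left _ hm0
      omega
    subst hn1
    have hm2 : m ≤ 2 := by
      by_contra hm
      have := hmn' (Or.inr (by omega))
      omega
    unfold Cfsg.Agent.H606.OreM.Exact.Res at hres
    have key : charDegree (χ : MG → ℂ) % 29 = 1 ∨ charDegree (χ : MG → ℂ) % 29 = 2 ∨
        charDegree (χ : MG → ℂ) % 29 = 27 ∨ charDegree (χ : MG → ℂ) % 29 = 28 := by
      generalize charDegree (χ : MG → ℂ) = d at *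
      have e29 : ((29 : ℕ) : ℤ) = 29 := rfl
      rw [e29] at hres
      have hm12 : m = 1 ∨ m = 2 := by omega
      rcases hm12 with rfl | rfl <;> omega
    rcases key with h | h | h | h <;> rw [h] <;> rfl

/-- **The degrees prime to 59 and 41.** -/
theorem deg_59_41 (L : Loc) (χ : IrrCharacter MG) (hχ : (χ : MG → ℂ) ≠ 1) (h59 : ¬ 59 ∣ charDegree (χ : MG → ℂ))
    (h41 : ¬ 41 ∣ charDegree (χ : MG → ℂ)) : 16134478425 ≤ charDegree (χ : MG → ℂ) := by
  by_contra hlt
  push Not at hlt
  have hpos := charDegree_pos χ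
  have hmin := min_deg χ hχ
  have hdvd : charDegree (χ : MG → ℂ) ∣ 59 * (41 * (lstG.map fun a => a.1 ^ a.2).prod) := by
    rw [lstG_prod, ← card_M]
    exact Blocks.Knorr.charDegree_dvd χ.2
  have ht := Cfsg.Agent.H455.OreM.Deg19.testD_deg L χ
  have m71 := mem71 L χ
  have m41 := mem41 L χ
  have m29 := mem29 χ
  have m59 := mod59 L χ
  generalize charDegree (χ : MG → ℂ) = d at *
  have hc59 : Nat.Coprime d 59 := (Nat.Coprime.symm ((Nat.Prime.coprime_iff_not_dvd (by norm_num)).2 h59))
  have hc41 : Nat.Coprime d 41 := (Nat.Coprime.symm ((Nat.Prime.coprime_iff_not_dvd (by norm_num)).2 h41))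
  have hd := hc41.dvd_of_dvd_mul_left (hc59.dvd_of_dvd_mul_left hdvd)
  have h := certG_dvd lstG_prime hd hpos (by omega)
  have m41' : mem [1, 40] (d % 41) = true := by
    rw [mem_iff] at m41 ⊢
    simp only [List.mem_cons, List.not_mem_nil, or_false] at m41 ⊢
    rcases m41 with h0 | h0
    · exact absurd (Nat.dvd_of_mod_eq_zero h0) h41
    · exact h0
  have hb : bit 288230377762324482 (d % 59) = true := by
    rcases m59 with h0 | (h0 | h0) | (h0 | h0)
    · exact absurd (Nat.dvd_of_mod_eq_zero h0) h59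
    all_goals rw [h0]; decide +kernel
  unfold certG at h
  rw [hb] at h
  replace h : (!(mem [1, 40] (d % 41)) || !(mem [0, 1, 2, 27, 28] (d % 29)) || !(mem [0, 1, 35, 36, 70] (d % 71)) ||
      Nat.blt d 196883 || testD cA cB tabs d) = true := h
  have e1 : Nat.blt d 196883 = false := by
    rw [Bool.eq_false_iff]
    intro h
    rw [Nat.blt_eq] at h
    omega
  rw [m41', m29, m71, e1, ht] at h
  exact absurd h (by decide)

end Cfsg.Agent.H606.OreM
end

-- part: H635/TC/RatQ
section
/-!
# Row M of S4173, line B: the values of the irreducible characters of the Monster on `2^(1+24)` (helper635)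

* `S_two_of_three`, `S_three_of_three`, `S_four_of_three` : the sums over the types at a vector of type 3;
* `values4` : degree and all the values of a representation on `Q` from four multiplicities;
* `valQ` : the values of an irreducible character of the Monster on `Q`;
* `bound` : `- χ(1) / 400 ≤ χ(x) ≤ χ(1) / 21` for `x ∈ Q`, `x ≠ 1`;
* `isConj_inv` : the elements of `Q` are real.
-/

set_option autoImplicit false
set_option maxRecDepth 100000

namespace Cfsg.Agent.H635.TC.RatQ

open Module Cfsg Cfsg.Spor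
open Cfsg.Agent.H847.Avg Cfsg.Agent.H847.QTrace Cfsg.Agent.H847.QDeg Cfsg.Agent.H562.OreM.QVal
open Cfsg.Agent.H847.Co1Small (sg sg_zero sg_one sg_add sg_sq zcases)
open Cfsg.Agent.MonsterU.Lam2
open Cfsg.Agent.MonsterU.Ch
open Cfsg.Agent.MonsterU.CoFrameL2 (f0)
open Cfsg.Agent.ConwayFacts.NormL2 (ncard_two ncard_three ncard_four isType_f0 ne_zero_of_type)

attribute [local instance] Cfsg.Agent.H847.QTrace.fintypeL2

/-! ### the sums at a vector of type 3 -/

theorem three_ne_zero {x : L2} (hx : IsType 3 x) : x ≠ 0 := by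
  rintro rfl
  exact not_zero (Or.inr (Or.inl rfl)) hx

theorem S_three_of_three {x : L2} (hx : IsType 3 x) : S 3 x = 2048 := by
  have hq : qf x = 1 := by rw [qf_of_type hx]; rfl
  have h := gauss_shift x
  rw [sum_univ, bf_zero_left, qf_zero, add_zero, hq, sg_zero, sg_one] at h
  have h2 : ∑ v ∈ Tn 2, sg (qf v + bf v x) = S 2 x := Finset.sum_congr rfl fun v hv => by
    rw [sg_add, qf_of_type (mem_Tn.1 hv)]
    rw [show ((2 : ℤ) : ZMod 2) = 0 from rfl, sg_zero, one_mul]
  have h3 : ∑ v ∈ Tn 3, sg (qf v + bf v x) = -S 3 x := by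
    unfold S
    rw [← Finset.sum_neg_distrib]
    refine Finset.sum_congr rfl fun v hv => ?_
    rw [sg_add, qf_of_type (mem_Tn.1 hv)]
    rw [show ((3 : ℤ) : ZMod 2) = 1 from rfl, sg_one, neg_one_mul]
  have h4 : ∑ v ∈ Tn 4, sg (qf v + bf v x) = S 4 x := Finset.sum_congr rfl fun v hv => by
    rw [sg_add, qf_of_type (mem_Tn.1 hv)]
    rw [show ((4 : ℤ) : ZMod 2) = 0 from rfl, sg_zero, one_mul]
  rw [h2, h3, h4] at h
  have h5 := S_sum (three_ne_zero hx)
  linear_combination (1 / 2 : ℂ) * h5 - (1 / 2 : ℂ) * h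

theorem S_two_zero : S 2 0 = 98280 := by
  unfold S
  rw [sum_const 2 (c := 1) (fun v _ => by rw [bf_zero_right, sg_zero]), card_two, mul_one]

theorem S_two_of_three {x : L2} (hx : IsType 3 x) : S 2 x = -24 := by
  have h1 : ∑ y : L2, S 2 y = 0 := by
    unfold S
    rw [Finset.sum_comm]
    refine Finset.sum_eq_zero fun v hv => ?_
    have h2 : ∑ y : L2, sg (bf v y) = ∑ y : L2, sg (bf y v) := Finset.sum_congr rfl fun y _ => by rw [bf_comm]
    rw [h2]
    exact sum_sg_ne (ne_zero_of_type (Or.inl rfl) (mem_Tn.1 hv))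
  obtain ⟨x2, hx2⟩ : {x : L2 | IsType 2 x}.Nonempty :=
    Set.nonempty_of_ncard_ne_zero (by rw [ncard_two]; norm_num)
  rw [sum_univ, S_two_zero, sum_const 2 (f := S 2) (c := 4072) (fun v hv => S_two_of_two hv),
    sum_const 3 (f := S 2) (c := S 2 x) (fun v hv => S_eq 2 (Or.inr (Or.inl rfl)) hx hv),
    sum_const 4 (f := S 2) (c := -24) (fun v hv => S_two_of_four hv), card_two, card_three, card_four] at h1
  linear_combination (1 / 8386560 : ℂ) * h1

theorem S_four_of_three {x : L2} (hx : IsType 3 x) : S 4 x = -2025 := by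
  have h := S_sum (three_ne_zero hx)
  rw [S_two_of_three hx, S_three_of_three hx] at h
  linear_combination h

/-! ### the values -/

variable {G : Type*} [Group G] {Q : Subgroup G} {z : G} {eta : G → L2}
  {pi : Subgroup.centralizer ({z} : Set G) →* Co1}
variable {V : Type*} [AddCommGroup V] [Module ℂ V]

/-- **Degree and values of a representation on `Q`.** -/
theorem values4 [FiniteDimensional ℂ V] (h : Chart Q z eta pi) (ρ : G →* (V →ₗ[ℂ] V))
    {y4 : G} (h4Q : y4 ∈ Q) (h4 : IsType 4 (eta y4)) (hconj : ∃ g, g * z * g⁻¹ = y4) :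
    ∃ a b c e : ℕ, finrank ℂ V = a + 196584 * b + 16775168 * c + 16582679 * e ∧
      LinearMap.trace ℂ V (ρ z) = (((a : ℤ) - 24 * b - 2048 * c + 2071 * e : ℤ) : ℂ) ∧
      (∀ y ∈ Q, IsType 2 (eta y) → LinearMap.trace ℂ V (ρ y) = (((a : ℤ) + 4072 * b - 2048 * c - 2025 * e : ℤ) : ℂ)) ∧
      (∀ y ∈ Q, IsType 3 (eta y) → LinearMap.trace ℂ V (ρ y) = (((a : ℤ) - 24 * b + 2048 * c - 2025 * e : ℤ) : ℂ)) ∧
      (∀ y ∈ Q, IsType 4 (eta y) → LinearMap.trace ℂ V (ρ y) = (((a : ℤ) - 24 * b - 2048 * c + 2071 * e : ℤ) : ℂ)) := by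
  have hfin := h.fin
  have : Fintype Q := Fintype.ofFinite Q
  obtain ⟨x2, h2⟩ : {x : L2 | IsType 2 x}.Nonempty := Set.nonempty_of_ncard_ne_zero (by rw [ncard_two]; norm_num)
  obtain ⟨x3, h3⟩ : {x : L2 | IsType 3 x}.Nonempty := Set.nonempty_of_ncard_ne_zero (by have := ncard_three; omega)
  have t4 : LinearMap.trace ℂ V (ρ y4) = LinearMap.trace ℂ V (ρ z) := by
    obtain ⟨g, rfl⟩ := hconj
    exact trace_conj ρ g z
  have key : ∀ y ∈ Q, eta y ≠ 0 → LinearMap.trace ℂ V (ρ y) =
      (m Q eta ρ 0 : ℂ) + S 2 (eta y) * (m Q eta ρ x2 : ℂ) + S 3 (eta y) * (m Q eta ρ x3 : ℂ) +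
        S 4 (eta y) * (m Q eta ρ (eta y4) : ℂ) := by
    intro y hy hy0
    have e := sum_m h ρ hy
    rw [trace_z h hy hy0, sum_mult h ρ h2 h3 h4] at e
    linear_combination -e
  have n4 : eta y4 ≠ 0 := ne_zero_of_type (Or.inr rfl) h4
  have e0 := sum_m h ρ Q.one_mem
  have e4 := key y4 h4Q n4
  rw [t4, S_two_of_four h4, S_three_of_four h4, S_four_of_four h4] at e4
  have s0 : ∀ n, S n 0 = ((Tn n).card : ℂ) := fun n => by
    unfold S
    rw [sum_const n (c := 1) (fun v _ => by rw [bf_zero_right, sg_zero]), mul_one]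
  rw [h.eta_one, one_mul, map_one, LinearMap.trace_one, sum_mult h ρ h2 h3 h4, s0, s0, s0, card_two, card_three,
    card_four] at e0
  refine ⟨m Q eta ρ 0, m Q eta ρ x2, m Q eta ρ x3, m Q eta ρ (eta y4), ?_, ?_, ?_, ?_, ?_⟩
  · have : ((finrank ℂ V : ℕ) : ℂ) = ((m Q eta ρ 0 + 196584 * m Q eta ρ x2 + 16775168 * m Q eta ρ x3 +
        16582679 * m Q eta ρ (eta y4) : ℕ) : ℂ) := by
      push_cast
      linear_combination (-2 : ℂ) * e0 - (1 : ℂ) * e4
    exact_mod_cast this
  · push_cast
    linear_combination e4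
  · intro y hy hy2
    rw [key y hy (ne_zero_of_type (Or.inl rfl) hy2), S_two_of_two hy2, S_three_of_two hy2, S_four_of_two hy2]
    push_cast
    ring
  · intro y hy hy3
    rw [key y hy (three_ne_zero hy3), S_two_of_three hy3, S_three_of_three hy3, S_four_of_three hy3]
    push_cast
    ring
  · intro y hy hy4
    rw [key y hy (ne_zero_of_type (Or.inr rfl) hy4), S_two_of_four hy4, S_three_of_four hy4, S_four_of_four hy4]
    push_cast
    ring

/-- the elements of `Q` are real -/
theorem isConj_inv_of (h : Chart Q z eta pi) {x : G} (hx : x ∈ Q) : IsConj x x⁻¹ := by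
  by_cases h0 : eta x = 0
  · rcases (h.eta_zero x hx).1 h0 with rfl | rfl
    · rw [inv_one]
    · have h1 : x⁻¹ = x := inv_eq_of_mul_eq_one_left h.large.z_sq
      rw [h1]
  · obtain ⟨r, -, hr, -⟩ := exists_conj_yz h hx h0
    rcases (h.eta_eq (Q.inv_mem hx) hx).1 (h.eta_inv hx) with h1 | h1
    · rw [h1]
    · rw [h1]
      exact isConj_iff.2 ⟨r, hr⟩

end Cfsg.Agent.H635.TC.RatQ

namespace Cfsg.Agent.H635.TC.RatQ

open Cfsg Cfsg.Agent.MonsterX Cfsg.Agent.MonsterX.InstData Cfsg.Agent.MonsterX.MainPack Cfsg.Agent.MonsterU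
open Cfsg.Agent.MonsterP Cfsg.Agent.MonsterN Cfsg.Agent.LThreeMB
open Cfsg.Agent.MonsterX.MainBasic Cfsg.Agent.MonsterX.MainSimple Cfsg.Agent.MonsterX.Model
open Cfsg.Agent.BpSpor.MBigModel
open Cfsg.Agent.LThreeB.Row (TA)
open Cfsg.Spor (Co1)
open Cfsg.Agent.MonsterU.Lam2 Cfsg.Agent.MonsterU.TwoCls
open Subgroup (centralizer zpowers mem_centralizer_singleton_iff)
open Cfsg.Agent.Characters.Core
open Cfsg.Agent.H606.OreM

/-- **The values on `2^(1+24)`.** -/
theorem valQ (χ : IrrCharacter MG) : ∃ a b c e : ℕ,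
    charDegree (χ : MG → ℂ) = a + 196584 * b + 16775168 * c + 16582679 * e ∧
      (χ : MG → ℂ) zz = (((a : ℤ) - 24 * b - 2048 * c + 2071 * e : ℤ) : ℂ) ∧
      ∀ x ∈ KDone.K.ι.range, x ≠ 1 → ∃ v : ℤ, (χ : MG → ℂ) x = (v : ℂ) ∧
        (v = a + 4072 * b - 2048 * c - 2025 * e ∨ v = a - 24 * b + 2048 * c - 2025 * e ∨
          v = a - 24 * b - 2048 * c + 2071 * e) := by
  obtain ⟨n, ρ, hρ, hρχ⟩ := id χ.2
  obtain ⟨y4, h4Q, h4, hc4⟩ := exists_four
  obtain ⟨a, b, c, e, h1, hz, h2, h3, h5⟩ := values4 chart ρ h4Q h4 hc4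
  have hch : ∀ g : MG, (χ : MG → ℂ) g = LinearMap.trace ℂ (Fin n → ℂ) (ρ g) := by
    intro g
    rw [← hρχ]
    rfl
  have hdeg : charDegree (χ : MG → ℂ) = n := by
    unfold charDegree
    rw [← hρχ]
    simp
  refine ⟨a, b, c, e, ?_, ?_, ?_⟩
  · rw [hdeg, ← h1, Module.finrank_fin_fun]
  · rw [hch, hz]
  · intro x hx hx1
    rcases type_cases (KChart.eta KDone.lft x) with h | h | h | h
    · rcases (chart.eta_zero x hx).1 h with h0 | h0
      · exact absurd h0 hx1
      · exact ⟨_, by rw [h0, hch, hz], Or.inr (Or.inr rfl)⟩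
    · exact ⟨_, by rw [hch, h2 x hx h], Or.inl rfl⟩
    · exact ⟨_, by rw [hch, h3 x hx h], Or.inr (Or.inl rfl)⟩
    · exact ⟨_, by rw [hch, h5 x hx h], Or.inr (Or.inr rfl)⟩

/-- **The bounds on `2^(1+24)`.** -/
theorem boundZ (hC : ∀ x : MG, orderOf x = 41 → Nat.card (centralizer ({x} : Set MG)) = 41) (χ : IrrCharacter MG)
    (hd : 1000000 ≤ charDegree (χ : MG → ℂ)) {x : MG} (hx : x ∈ KDone.K.ι.range) (hx1 : x ≠ 1) :
    ∃ v : ℤ, (χ : MG → ℂ) x = (v : ℂ) ∧ -(charDegree (χ : MG → ℂ) : ℤ) ≤ 400 * v ∧
      21 * v ≤ (charDegree (χ : MG → ℂ) : ℤ) := by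
  obtain ⟨a, b, c, e, h1, h2, h3⟩ := valQ χ
  have hz := zbound hC χ h2
  obtain ⟨v, hv, hc⟩ := h3 x hx hx1
  refine ⟨v, hv, ?_⟩
  have hz1 := (abs_le.1 (show |(a : ℤ) - 24 * b - 2048 * c + 2071 * e| ≤ (charDegree (χ : MG → ℂ) + 257) / 41 by omega)).2
  rw [h1] at hd hz1 ⊢
  push_cast at hz1 ⊢
  rcases hc with h | h | h <;> constructor <;> omega

/-- **The bounds on `2^(1+24)`, real form.** -/
theorem bound (hC : ∀ x : MG, orderOf x = 41 → Nat.card (centralizer ({x} : Set MG)) = 41) (χ : IrrCharacter MG)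
    (hd : 1000000 ≤ charDegree (χ : MG → ℂ)) {x : MG} (hx : x ∈ KDone.K.ι.range) (hx1 : x ≠ 1) :
    -((1 / 400 : ℝ) * charDegree (χ : MG → ℂ)) ≤ ((χ : MG → ℂ) x).re ∧
      ((χ : MG → ℂ) x).re ≤ (1 / 21 : ℝ) * charDegree (χ : MG → ℂ) := by
  obtain ⟨v, hv, h1, h2⟩ := boundZ hC χ hd hx hx1
  rw [hv, Complex.intCast_re]
  have h1' : -(charDegree (χ : MG → ℂ) : ℝ) ≤ 400 * v := by exact_mod_cast h1
  have h2' : 21 * (v : ℝ) ≤ charDegree (χ : MG → ℂ) := by exact_mod_cast h2
  constructor <;> linarith

theorem isConj_inv {x : MG} (hx : x ∈ KDone.K.ι.range) : IsConj x x⁻¹ := isConj_inv_of chart hx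

end Cfsg.Agent.H635.TC.RatQ
end

-- part: H58/TC/Frame
section
/-!
# The Monster: products of an element of order 59 and an element of order 41 (helper58)

* `cases` : the elements of the Monster: `Q`, the elements of order 3 of fixed rank 12, `|C(g)| ≤ 4 · 10 ^ 18`;
* `prd_Q` : the elements of `Q`;
* `prd_small` : the elements with `|C(g)| ≤ 4 · 10 ^ 18`;
* `prd_of` : all the nontrivial elements, from the elements of order 3 of fixed rank 12.
-/

set_option autoImplicit false
set_option maxRecDepth 100000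

namespace Cfsg.Agent.H58.TC

open Cfsg Cfsg.Agent.MonsterX Cfsg.Agent.MonsterX.InstData Cfsg.Agent.MonsterX.MainPack Cfsg.Agent.MonsterU
open Cfsg.Agent.MonsterP Cfsg.Agent.MonsterN Cfsg.Agent.LThreeMB
open Cfsg.Agent.MonsterX.MainBasic Cfsg.Agent.MonsterX.MainSimple Cfsg.Agent.MonsterX.Model
open Cfsg.Agent.MonsterU.Lam2 Cfsg.Agent.MonsterU.TwoCls
open Cfsg.Agent.BpSpor.MBigModel Cfsg.Agent.H199.NSmMon
open Cfsg.Spor (Co1)
open Cfsg.Agent.H995.CopEngine (AllKnown)
open Cfsg.Agent.H715.Mon.Grp (SThree)
open Cfsg.Agent.Characters.Core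
open Cfsg.Agent.H65.Ore (Prd)
open Subgroup (centralizer zpowers mem_centralizer_singleton_iff)

/-- **The elements of the Monster.** -/
theorem cases (hK : AllKnown.{0}) (hS : SThree.{0}) {P : MG → Prop} (hP : ∀ g k : MG, P (k * g * k⁻¹) → P g)
    (hQ : ∀ x : MG, x ∈ (KDone.K.ι).range → x ≠ 1 → P x)
    (hFi : ∀ s : centralizer ({zz} : Set MG), orderOf s = 3 → fr (pi s) = 2 ^ 12 → P (s : MG))
    (hC : ∀ g : MG, Nat.card ↥(centralizer ({g} : Set MG)) ≤ 4 * 10 ^ 18 → P g) (g : MG) (hg1 : g ≠ 1) : P g := by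
  have hfin : Finite MG := BpSpor.MBigModel.finite
  have := simple
  have hKK : (26489012826931200 : ℕ) ≤ 4 * 10 ^ 18 := by norm_num
  have hB : ∀ {x : MG} {q : ℕ}, q.Prime → 5 ≤ q → orderOf x = q →
      Nat.card ↥(centralizer ({x} : Set MG)) ≤ H909.PwM.Base.KK := fun hq h5 hx =>
    (H58.MonFin.hB hK hS hq h5 hx).trans (by norm_num)
  -- even order
  by_cases h2 : 2 ∣ orderOf g
  · rcases H909.PwM.Even.even hB h2 with ⟨k, hk⟩ | h
    · refine hP g k (hQ _ hk fun h => hg1 ?_)
      rw [mul_inv_eq_one] at h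
      exact mul_eq_left.1 h
    · exact hC g (h.trans hKK)
  by_cases hk : ∃ k, g ^ 3 ^ k = 1
  · by_cases hg3 : g ^ 3 = 1
    · -- order 3
      have ho : orderOf g = 3 := orderOf_eq_prime hg3 hg1
      by_cases hv : ∃ v : MG, orderOf v = 2 ∧ v * g = g * v
      · obtain ⟨v, hv, hvg⟩ := hv
        have hvv : v * v = 1 := by rw [← pow_two, ← hv, pow_orderOf_eq_one]
        have hv1 : v ≠ 1 := by
          rintro rfl
          rw [orderOf_one] at hv
          norm_num at hv
        obtain ⟨m, hm⟩ := Cfsg.Agent.LThreeM.FiRow.exists_z_of_comm (x := g) hg3 hvv hv1 hvg.symm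
        have hm' : (m * zz * m⁻¹) * g = g * (m * zz * m⁻¹) := hm
        have hmz : (m⁻¹ * g * m⁻¹⁻¹) * zz = zz * (m⁻¹ * g * m⁻¹⁻¹) := by
          rw [inv_inv]
          calc (m⁻¹ * g * m) * zz = m⁻¹ * (g * (m * zz * m⁻¹)) * m := by group
            _ = m⁻¹ * ((m * zz * m⁻¹) * g) * m := by rw [hm']
            _ = _ := by group
        apply hP g m⁻¹
        have hyo' : orderOf (m⁻¹ * g * m⁻¹⁻¹) = 3 := by
          rw [← ho, ← MulAut.conj_apply, MulEquiv.orderOf_eq]
        generalize m⁻¹ * g * m⁻¹⁻¹ = s at hmz hyo' ⊢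
        let x : centralizer ({zz} : Set MG) := ⟨s, mem_centralizer_singleton_iff.2 hmz⟩
        have hx : orderOf x = 3 := by
          show orderOf (⟨s, _⟩ : centralizer ({zz} : Set MG)) = 3
          rw [Subgroup.orderOf_mk, hyo']
        have I := CoOneFin.coOne
        have hzero : ∀ y : centralizer ({zz} : Set MG), orderOf y = 3 → fr (pi y) = 1 →
            Nat.card ↥(centralizer ({(y : MG)} : Set MG)) ≤ 4 * 10 ^ 18 := fun y hy h =>
          (Nat.le_of_dvd (by norm_num) (H199.AbMon.three_zero' hy h)).trans (by norm_num)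
        rcases I.ranks (pi x) (orderOf_pi chart hx) with h1 | h1 | h1 | h1
        · exact hC s (hzero x hx h1)
        · have htr := KPair.trNe KDone.lft LThreeB.Row.cent (LThreeMBTr.traceNe KDone.lft LThreeMBTr.TensK.tens)
          obtain ⟨x₀, u, g₁, hx₀, hfr₀, huz, hux, hne, hg₁⟩ :=
            KPair.hasPair KDone.lft LThreeB.Row.cent PreUniq.MonRow.second COct.octPair
          obtain ⟨c, hc⟩ := conj_six chart htr I.ranks I.six
            (fun x hx h2 => ⟨(good_of_inputs chart I hx h2 : Good.{0} _).simple,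
              (good_of_inputs chart I hx h2 : Good.{0} _).nc⟩)
            hx₀ hfr₀ huz hux hne hg₁ hx h1
          refine hC s ?_
          rw [← BpSpor.card_cent_of_conj hc]
          exact hzero x₀ hx₀ hfr₀
        · obtain ⟨e⟩ := LThreeB.isoTh_of_inputs chart I hx h1
          refine hC s ?_
          rw [card_XX, hyo', Nat.card_congr e.toEquiv, Cfsg.Agent.S1700.result.2]
          norm_num
        · exact hFi x hx h1
      · push Not at hv
        exact hC g ((H562.OreM.ThreeOdd.three_odd_bound hK hS ho hv).trans (by norm_num))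
    · -- order `3 ^ k`, `k ≥ 2`
      rcases H740.OreM.ThreeBd.nine hk hg3 with h | ⟨y, hy, hyo, hyt⟩
      · exact hC g (h.trans hKK)
      · refine hC g (le_trans (Subgroup.card_le_of_le fun c hc => mem_centralizer_singleton_iff.2 ?_)
          ((H562.OreM.ThreeOdd.three_odd_bound hK hS hyo hyt).trans (by norm_num)))
        obtain ⟨i, rfl⟩ := Subgroup.mem_zpowers_iff.1 hy
        exact (show Commute c g from mem_centralizer_singleton_iff.1 hc).zpow_right i
  · -- a prime divisor `q ≥ 5`
    obtain ⟨q, hq, hq5, hqd⟩ : ∃ q : ℕ, q.Prime ∧ 5 ≤ q ∧ q ∣ orderOf g := by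
      by_contra hno
      push Not at hno
      apply hk
      refine ⟨(orderOf g).primeFactorsList.length, ?_⟩
      have h4 := Nat.eq_prime_pow_of_unique_prime_dvd (n := orderOf g) (p := 3) (orderOf_pos g).ne' (fun {d} hd hdn => by
        by_contra hne
        have h5 : d ≠ 2 := fun e => h2 (e ▸ hdn)
        have h6 : d < 5 := by
          by_contra h7
          exact hno d hd (by omega) hdn
        have h7 := hd.two_le
        interval_cases d
        · exact h5 rfl
        · exact hne rfl
        · norm_num at hd)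
      rw [← h4, pow_orderOf_eq_one]
    obtain ⟨m, hm⟩ := hqd
    have hm0 : m ≠ 0 := by
      rintro rfl
      have := orderOf_pos g
      omega
    have hx : orderOf (g ^ m) = q := by
      rw [orderOf_pow_of_dvd hm0 (Dvd.intro_left q hm.symm), hm, Nat.mul_div_cancel _ (Nat.pos_of_ne_zero hm0)]
    exact hC g (((H909.PwM.Even.card_cent_pow g m).trans (hB hq hq5 hx)).trans (by norm_num))

section

variable (hK : AllKnown.{0}) (hS : SThree.{0}) (L : H455.OreM.Deg19.Loc) {a b : MG} (ha : orderOf a = 59)
  (hb : orderOf b = 41)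

include hK hS L ha hb

/-- the elements with small centralizers -/
theorem prd_small {g : MG} (hg : Nat.card ↥(centralizer ({g} : Set MG)) ≤ 4 * 10 ^ 18) : Prd a b g :=
  H529.MSev.T5941.t1_5941 hK hS (D := 16134478425) (B := 4 * 10 ^ 18)
    (fun χ h1 h2 h3 => H606.OreM.deg_59_41 L χ h1 h2 h3) (by norm_num) ha hb hg

/-- **The elements of `2^(1+24)`.** -/
theorem prd_Q {x : MG} (hx : x ∈ (KDone.K.ι).range) (hx1 : x ≠ 1) : Prd a b x := by
  refine ratio hK hS ha hb (H635.TC.RatQ.isConj_inv hx) (r1 := 1 / 400) (r2 := 1 / 21) (by norm_num)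
    (fun χ h1 h2 h3 => ?_) (by norm_num)
  exact H635.TC.RatQ.bound L.c41 χ ((by norm_num : 1000000 ≤ 16134478425).trans (H606.OreM.deg_59_41 L χ h1 h2 h3)) hx hx1

/-- **All the elements.** -/
theorem prd_of (hFi : ∀ s : centralizer ({zz} : Set MG), orderOf s = 3 → fr (pi s) = 2 ^ 12 → Prd a b (s : MG)) (g : MG)
    (hg : g ≠ 1) : Prd a b g := by
  refine cases hK hS (P := Prd a b) (fun g k h => ?_) (fun x hx hx1 => prd_Q hK hS L ha hb hx hx1) hFi
    (fun g h => prd_small hK hS L ha hb h) g hg
  have h1 := h.conj k⁻¹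
  rwa [show k⁻¹ * (k * g * k⁻¹) * k⁻¹⁻¹ = g by group] at h1

end

end Cfsg.Agent.H58.TC
end

private theorem dce_b0369c50b14d : _root_.True := by
  try have : _root_.True := by simp only [_root_.Cfsg.Agent.H606.OreM.Num.lstE.eq_1]
  try have : _root_.True := by simp only [_root_.Cfsg.Agent.H606.OreM.Num.lstG.eq_1]
  exact _root_.True.intro
end
end
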